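import Mathlib
import Cfsg.Agent.Lib.Stein.Pre

/-!
A Curtis–Tits theorem for families of root subgroups: rank one subgroups whose monomial elements
act correctly in every standard subsystem of rank two extend to a family indexed by all roots.
-/

set_option autoImplicit false

namespace H6.P6

open H63.St

variable {Φ I : Type*} {R : Roots Φ I}

lemma wp_concat (L : List I) (k : I) : R.wp (L ++ [k]) = R.wp L * R.σ k := by simp

lemma wp_del {L1 L2 : List I} {a : I} {r : Φ} (h : R.wp L2 r = R.α a) :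
    R.wp (L1 ++ a :: L2) * R.refl r = R.wp (L1 ++ L2) := by
  ext s
  have := Roots.W_refl (R.wp_mem_W L2) r s
  rw [h] at this
  simp only [Roots.wp_append, Roots.wp_cons, Equiv.Perm.mul_apply, ← this]
  exact congrArg _ (R.σ_σ a _)

lemma refl_wp (V : List I) (b : I) : R.refl (R.wp V (R.α b)) = R.wp (V ++ b :: V.reverse) := by
  ext s
  have := Roots.W_refl (R.wp_mem_W V) (R.α b) ((R.wp V)⁻¹ s)
  simpa [R.wp_reverse, Roots.σ] using this

variable (R) in
/-- The length. -/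
noncomputable def ln (w : Equiv.Perm Φ) : ℕ := (R.Inv w).ncard

lemma ln_one : ln R 1 = 0 := by simp [ln, Roots.Inv]

variable [Finite Φ]

lemma ln_neg {w : Equiv.Perm Φ} (hw : w ∈ R.W) {i : I} (h : ¬ R.Pos (w (R.α i))) :
    ln R (w * R.σ i) + 1 = ln R w := Roots.ncard_Inv_mul_σ hw h

lemma ln_pos {w : Equiv.Perm Φ} (hw : w ∈ R.W) {i : I} (h : R.Pos (w (R.α i))) :
    ln R (w * R.σ i) = ln R w + 1 := by
  have := ln_neg (mul_mem hw (R.σ_mem_W i)) (i := i) (by
    rwa [Equiv.Perm.mul_apply, R.σ_α, Roots.W_neg hw, R.not_pos_neg_iff])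
  rw [mul_assoc, R.σ_mul_self, mul_one] at this
  omega

lemma ln_wp_le (L : List I) : ln R (R.wp L) ≤ L.length := by
  induction L using List.reverseRecOn with
  | nil => simp [ln_one]
  | append_singleton L k ih =>
    rw [wp_concat, List.length_append, List.length_singleton]
    by_cases h : R.Pos (R.wp L (R.α k))
    · rw [ln_pos (R.wp_mem_W L) h]; omega
    · have := ln_neg (R.wp_mem_W L) h; omega

lemma exists_red (L : List I) : ∃ L' ⊆ L, R.wp L' = R.wp L ∧ L'.length = ln R (R.wp L) := by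
  induction L using List.reverseRecOn with
  | nil => exact ⟨[], by simp, rfl, by simp [ln_one]⟩
  | append_singleton L k ih =>
    obtain ⟨L', h1, h2, h3⟩ := ih
    rw [wp_concat]
    by_cases h : R.Pos (R.wp L (R.α k))
    · exact ⟨L' ++ [k], by grind, by rw [wp_concat, h2], by simp [ln_pos (R.wp_mem_W L) h, h3]⟩
    · obtain ⟨L1, a, L2, rfl, e⟩ := Roots.flip (R.pos_α k) (h2 ▸ h)
      refine ⟨L1 ++ L2, by grind, by rw [← wp_del e, h2]; rfl, ?_⟩
      have := ln_neg (R.wp_mem_W L) h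
      simp at h3 ⊢; omega

/-- Decomposition along a standard subsystem of rank two. -/
theorem exists_dec {w : Equiv.Perm Φ} (hw : w ∈ R.W) {i j k : I} (h : w (R.α i) = R.α j)
    (hk : ¬ R.Pos (w (R.α k))) : ∃ U V a, V ⊆ [i, k] ∧ a ∈ [i, k] ∧ R.wp (U ++ V) = w ∧
      U.length + V.length ≤ ln R w ∧ U.length < ln R w ∧ R.wp V (R.α i) = R.α a := by
  obtain ⟨V0, h0, hmin⟩ := (measure fun V => ln R (w * R.wp V)).wf.has_min {V | V ⊆ [i, k]}
    ⟨[], by simp⟩
  have hu : w * R.wp V0 ∈ R.W := mul_mem hw (R.wp_mem_W _)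
  generalize e : w * R.wp V0 = u at hu hmin
  have k1 : ∀ V ⊆ [i, k], ln R u ≤ ln R (u * R.wp V) := fun V hV => by
    have : ln R (w * R.wp V0) ≤ ln R (w * R.wp (V0 ++ V)) := not_lt.1 (hmin (V0 ++ V) (by grind))
    rwa [Roots.wp_append, ← mul_assoc, e] at this
  obtain ⟨U, rfl⟩ := Roots.exists_wp hu
  obtain ⟨U, -, e1, e2⟩ := exists_red (R := R) U
  rw [← e1] at e e2 k1 hu
  have k2 : ∀ V ⊆ [i, k], ∀ b ∈ [i, k], R.Pos (R.wp V (R.α b)) →
      R.Pos (R.wp U (R.wp V (R.α b))) := fun V hV b hb h1 => by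
    by_contra h2
    obtain ⟨L1, a, L2, rfl, e'⟩ := Roots.flip h1 h2
    have h3 := k1 (V ++ b :: V.reverse) (by grind)
    have h4 := ln_wp_le (R := R) (L1 ++ L2)
    rw [← refl_wp, wp_del e'] at h3
    simp only [List.length_append, List.length_cons] at e2 h4; omega
  have k2' : ∀ V ⊆ [i, k], ∀ b ∈ [i, k], ¬ R.Pos (R.wp V (R.α b)) →
      ¬ R.Pos (R.wp U (R.wp V (R.α b))) := fun V hV b hb h1 => by
    have := k2 (V ++ [b]) (by grind) b hb
    rw [wp_concat, Equiv.Perm.mul_apply, R.σ_α, Roots.W_neg (R.wp_mem_W _), Roots.W_neg hu,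
      R.pos_neg, R.pos_neg] at this
    exact this h1
  have k3 : ∀ V ⊆ [i, k], ln R (R.wp U * R.wp V) = ln R (R.wp U) + ln R (R.wp V) := by
    intro V
    induction V using List.reverseRecOn with
    | nil => simp [ln_one]
    | append_singleton V b ih =>
      intro hV
      have h1 := ih (by grind)
      have h2 := mul_mem hu (R.wp_mem_W V)
      rw [wp_concat, ← mul_assoc]
      by_cases h : R.Pos (R.wp V (R.α b))
      · rw [ln_pos h2 (k2 V (by grind) b (by grind) h), ln_pos (R.wp_mem_W V) h]; omega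
      · have := ln_neg h2 (k2' V (by grind) b (by grind) h)
        have := ln_neg (R.wp_mem_W V) h
        omega
  obtain ⟨V, hV, e3, e4⟩ := exists_red (R := R) V0.reverse
  have hV' : V ⊆ [i, k] := fun x hx => h0 (by simpa using hV hx)
  have e5 : R.wp U * R.wp V = w := by rw [e3, R.wp_reverse, ← e]; simp
  have h1 := k3 V hV'
  have h2 := k1 (V ++ [k]) (by grind)
  have h3 := ln_neg hw hk
  rw [wp_concat, ← mul_assoc, e5] at h2
  rw [e5, e3] at h1
  have h4 : R.wp U (R.wp V (R.α i)) = R.α j := by rw [← h, ← e5]; rfl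
  have h5 : R.Pos (R.wp V (R.α i)) := by
    by_contra hn
    exact k2' V hV' i (by simp) hn (h4 ▸ R.pos_α j)
  have h6 := k3 (V ++ i :: V.reverse) (by grind)
  have h7 := ln_wp_le (R := R) (j :: U)
  have h8 := wp_del (L1 := [j]) h4
  rw [List.singleton_append, Roots.wp_cons, Roots.wp_cons, ← mul_assoc, R.σ_mul_self, one_mul,
    List.singleton_append] at h8
  rw [List.length_cons] at h7
  rw [← refl_wp, h8] at h6
  obtain ⟨V', hV1, e6, e7⟩ := exists_red (R := R) (V ++ i :: V.reverse)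
  have h9 : ¬ R.Pos (R.wp V' (R.wp V (R.α i))) := by
    rw [e6, ← refl_wp, Roots.W_refl (R.wp_mem_W V), R.refl_α, Roots.W_neg (R.wp_mem_W V),
      R.not_pos_neg_iff]
    exact h5
  obtain ⟨L1, a, L2, rfl, e8⟩ := Roots.flip h5 h9
  rw [← refl_wp] at e7
  obtain rfl : L2 = [] := List.eq_nil_of_length_eq_zero (by
    rw [List.length_append, List.length_cons] at e7; omega)
  exact ⟨U, V, a, hV', by grind, by rw [Roots.wp_append, e5], by omega, by omega, e8⟩

variable {G Γ : Type*} [Group G] [Group Γ]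

/-- Conjugation by `g` maps `A` into `B`. -/
def Cj (g : Γ) (A B : Subgroup Γ) : Prop := ∀ y ∈ A, g * y * g⁻¹ ∈ B

lemma Cj.mul {g g' : Γ} {A B C : Subgroup Γ} (h : Cj g B C) (h' : Cj g' A B) : Cj (g * g') A C :=
  fun y hy => by simpa [mul_assoc] using h _ (h' y hy)

lemma cj_self {g : Γ} {A : Subgroup Γ} (h : g ∈ A) : Cj g A A :=
  fun _ hy => mul_mem (mul_mem h hy) (inv_mem h)

/-- Rank one subgroups `A i` lying over the rank one subgroups of a family `X`. -/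
structure CT (R : Roots Φ I) (X : Φ → Subgroup G) (π : Γ →* G) (A : I → Subgroup Γ) : Prop where
  ex : ∀ i, ∃ m ∈ A i, Acts X (π m) (R.σ i)
  map : ∀ i, (A i).map π = X (R.α i) ⊔ X (R.neg (R.α i))
  inj : ∀ i, ∀ y ∈ A i, π y = 1 → y = 1
  pair : ∀ i k, (∀ y ∈ A i ⊔ A k, π y = 1 → y = 1) ∨ ∃ C,
    (∀ m ∈ A k, Acts X (π m) (R.σ k) → Cj m (A i) C ∧ Cj m C (A i)) ∧
    (∀ m ∈ A i, Acts X (π m) (R.σ i) → Cj m C C) ∧ (R.σ k (R.α i) = R.α i ∧ C ≤ A i ∨
      R.σ i (R.σ k (R.α i)) = R.σ k (R.α i) ∧ R.σ k (R.α i) ≠ R.α i)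

/-- Words in the monomial elements. -/
inductive Wd (R : Roots Φ I) (X : Φ → Subgroup G) (π : Γ →* G) (A : I → Subgroup Γ) :
    List I → Γ → Prop
  | nil : Wd R X π A [] 1
  | cons {i m L g} : m ∈ A i → Acts X (π m) (R.σ i) → Wd R X π A L g → Wd R X π A (i :: L) (m * g)

variable {X : Φ → Subgroup G} {π : Γ →* G} {A : I → Subgroup Γ}

omit [Finite Φ]

lemma Wd.acts {L : List I} {g : Γ} (h : Wd R X π A L g) : Acts X (π g) (R.wp L) := by
  induction h with
  | nil => simpa using acts_one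
  | cons _ h2 _ ih => simpa using h2.mul ih

lemma Wd.mem {L : List I} {g : Γ} (h : Wd R X π A L g) {D : Subgroup Γ} (hD : ∀ i ∈ L, A i ≤ D) :
    g ∈ D := by
  induction h with
  | nil => exact one_mem _
  | cons h1 _ _ ih => exact mul_mem (hD _ (by simp) h1) (ih fun i hi => hD i (by simp [hi]))

lemma Wd.append {L L' : List I} {g g' : Γ} (h : Wd R X π A L g) (h' : Wd R X π A L' g') :
    Wd R X π A (L ++ L') (g * g') := by
  induction h with
  | nil => simpa using h'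
  | cons h1 h2 _ ih => simpa [mul_assoc] using Wd.cons h1 h2 ih

lemma Wd.single {i : I} {m : Γ} (h1 : m ∈ A i) (h2 : Acts X (π m) (R.σ i)) : Wd R X π A [i] m := by
  simpa using Wd.cons h1 h2 Wd.nil

lemma acts_inv {i : I} {m : Γ} (h : Acts X (π m) (R.σ i)) : Acts X (π m⁻¹) (R.σ i) := by
  simpa [R.σ_inv] using h.inv

lemma Wd.inv {L : List I} {g : Γ} (h : Wd R X π A L g) : Wd R X π A L.reverse g⁻¹ := by
  induction h with
  | nil => simpa using Wd.nil
  | cons h1 h2 _ ih => simpa using ih.append (Wd.single (inv_mem h1) (acts_inv h2))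

lemma Wd.split {L : List I} : ∀ {L' : List I} {g : Γ}, Wd R X π A (L ++ L') g →
    ∃ a b, Wd R X π A L a ∧ Wd R X π A L' b ∧ g = a * b := by
  induction L with
  | nil => exact fun h => ⟨1, _, Wd.nil, h, by simp⟩
  | cons i L ih =>
    rintro L' g (_ | ⟨h1, h2, h3⟩)
    obtain ⟨a, b, h4, h5, rfl⟩ := ih h3
    exact ⟨_, b, Wd.cons h1 h2 h4, h5, by rw [mul_assoc]⟩

variable (X π A) in
/-- The torus. -/
def TT : Subgroup Γ := (⨅ k, Subgroup.normalizer (A k : Set Γ)) ⊓ (torus X).comap π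

lemma mem_TT {t : Γ} : t ∈ TT X π A ↔ (∀ k y, y ∈ A k ↔ t * y * t⁻¹ ∈ A k) ∧ Acts X (π t) 1 := by
  simp [TT, Subgroup.mem_iInf, Subgroup.mem_normalizer_iff, mem_torus]

namespace CT

variable (h : CT R X π A)
include h

lemma exists_wd (L : List I) : ∃ g, Wd R X π A L g := by
  induction L with
  | nil => exact ⟨1, Wd.nil⟩
  | cons i L ih =>
    obtain ⟨g, hg⟩ := ih
    obtain ⟨m, h1, h2⟩ := h.ex i
    exact ⟨_, Wd.cons h1 h2 hg⟩

lemma loc {i k a : I} {V : List I} (hV : V ⊆ [i, k]) (ha : a ∈ [i, k]) {g : Γ}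
    (hg : Wd R X π A V g) (e : R.wp V (R.α i) = R.α a) : Cj g (A i) (A a) := by
  have k0 : ∀ j ∈ [i, k], A j ≤ A i ⊔ A k := by simp
  rcases h.pair i k with h1 | ⟨C, h1, h2, h0⟩
  · intro y hy
    have h2 := hg.mem fun j hj => k0 j (hV hj)
    have h3 : π (g * y * g⁻¹) ∈ (A a).map π := by
      have := hg.acts.conj_mem_XS (S := {R.α i, R.neg (R.α i)})
        (T := {R.α a, R.neg (R.α a)}) (by simp [e, Roots.W_neg (R.wp_mem_W V)]) (a := π y) (by
          rw [XS_insert, XS_singleton, ← h.map]; exact ⟨y, hy, rfl⟩)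
      rw [XS_insert, XS_singleton, ← h.map] at this
      simpa using this
    obtain ⟨z, hz, e⟩ := h3
    rwa [← mul_inv_eq_one.1 (h1 _ (mul_mem (k0 a ha hz) (inv_mem (mul_mem (mul_mem h2
      (Subgroup.mem_sup_left hy)) (inv_mem h2)))) (by rw [map_mul, e, map_inv, mul_inv_cancel]))]
  have k1 : (R.wp V (R.α i) = R.α i ∨ R.wp V (R.α i) = R.neg (R.α i)) ∧ Cj g (A i) (A i) ∨
      (R.wp V (R.α i) = R.σ k (R.α i) ∨ R.wp V (R.α i) = R.neg (R.σ k (R.α i))) ∧
        Cj g (A i) C := by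
    clear e
    induction hg with
    | nil => exact Or.inl ⟨Or.inl rfl, cj_self (one_mem _)⟩
    | @cons j m L g h3 h4 _ ih =>
      have h7 : j = i ∨ j = k := by simpa using hV (List.mem_cons_self)
      rcases ih fun x hx => hV (by simp [hx]) with ⟨h5, h6⟩ | ⟨h5, h6⟩ <;> rcases h7 with rfl | rfl
      · exact Or.inl ⟨by rcases h5 with h5 | h5 <;> simp [h5, R.σ_α, R.σ_neg_α], (cj_self h3).mul h6⟩
      · exact Or.inr ⟨by rcases h5 with h5 | h5 <;> simp [h5, R.σ_neg], (h1 m h3 h4).1.mul h6⟩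
      · refine Or.inr ⟨?_, (h2 m h3 h4).mul h6⟩
        rcases h5 with h5 | h5 <;> rcases h0 with h0 | h0 <;>
          simp [h5, h0.1, R.σ_α, R.σ_neg, R.neg_neg]
      · exact Or.inl ⟨by rcases h5 with h5 | h5 <;> simp [h5, R.σ_σ, R.σ_neg], (h1 m h3 h4).2.mul h6⟩
  have n1 : ∀ i j, R.α i ≠ R.neg (R.α j) := fun i j e => R.not_pos_neg_α j (e ▸ R.pos_α i)
  have n2 : R.α k ≠ R.α i := fun e => by
    rw [← e, R.σ_α, e, R.σ_neg_α] at h0
    rcases h0 with h0 | h0
    exacts [n1 _ _ h0.1.symm, n1 _ _ h0.1]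
  rw [e] at k1
  rcases (by simpa using ha : a = i ∨ a = k) with rfl | rfl <;> rcases k1 with ⟨h3, h4⟩ | ⟨h3, h4⟩
  · exact h4
  · rcases h0 with h0 | h0
    · exact fun y hy => h0.2 (h4 y hy)
    · rcases h3 with h3 | h3
      · exact absurd h3.symm h0.2
      · have := congrArg (R.σ a) h3
        rw [R.σ_neg, h0.1, ← h3, R.σ_α] at this
        exact absurd this.symm (n1 _ _)
  · exact absurd h3 (not_or.2 ⟨n2, n1 _ _⟩)
  · rcases h3 with h3 | h3 <;> have := congrArg (R.σ a) h3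
    · rw [R.σ_σ, R.σ_α] at this
      exact absurd this.symm (n1 _ _)
    · rw [R.σ_neg, R.σ_σ, R.σ_α] at this
      exact absurd (R.neg_injective this) n2

lemma mul_mem_TT {i : I} {m m' : Γ} (h1 : m ∈ A i) (h2 : Acts X (π m) (R.σ i)) (h1' : m' ∈ A i)
    (h2' : Acts X (π m') (R.σ i)) : m * m' ∈ TT X π A := by
  have w := Wd.cons h1 h2 (Wd.single h1' h2')
  refine mem_TT.2 ⟨fun k y => ⟨h.loc (k := i) (by simp) (by simp) w (by simp [R.σ_σ]) y,
    fun hy => ?_⟩, by simpa [R.σ_mul_self] using w.acts⟩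
  simpa [mul_assoc] using h.loc (i := k) (k := i) (by simp) (by simp) w.inv (by simp [R.σ_σ]) _ hy

lemma conj_TT {L : List I} {g t : Γ} (hg : Wd R X π A L g) (ht : t ∈ TT X π A) :
    g * t * g⁻¹ ∈ TT X π A := by
  induction hg with
  | nil => simpa using ht
  | @cons j m L g h3 h4 _ ih =>
    rw [show m * g * t * (m * g)⁻¹ = m * ((g * t * g⁻¹) * m⁻¹ * (g * t * g⁻¹)⁻¹) * (g * t * g⁻¹) by
      group]
    refine mul_mem (h.mul_mem_TT h3 h4 (((mem_TT.1 ih).1 j _).1 (inv_mem h3)) ?_) ih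
    simpa using ((mem_TT.1 ih).2.mul (acts_inv h4)).mul (mem_TT.1 ih).2.inv

omit h in
/-- The statement proved by induction. -/
def PP (R : Roots Φ I) (X : Φ → Subgroup G) (π : Γ →* G) (A : I → Subgroup Γ) (n : ℕ) : Prop :=
  ∀ L g, L.length < n → Wd R X π A L g → ∀ i j, R.wp L (R.α i) = R.α j → Cj g (A i) (A j)

lemma exch {n : ℕ} (hP : PP R X π A n) {L : List I} {g m : Γ} {k : I} (hL : L.length ≤ n)
    (hg : Wd R X π A L g) (hk : ¬ R.Pos (R.wp L (R.α k))) (h1 : m ∈ A k)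
    (h2 : Acts X (π m) (R.σ k)) : ∃ L' g', Wd R X π A L' g' ∧ L'.length + 1 = L.length ∧
      R.wp L' = R.wp L * R.σ k ∧ g'⁻¹ * (g * m) ∈ TT X π A := by
  obtain ⟨L1, a, L2, rfl, e⟩ := Roots.flip (R.pos_α k) hk
  obtain ⟨g1, _, h3, (_ | ⟨h4, h5, h6⟩), rfl⟩ := hg.split
  rename_i m' g2
  refine ⟨_, _, h3.append h6, by simp; omega, (wp_del e).symm, ?_⟩
  have h7 := h.mul_mem_TT h4 h5 (hP _ _ (by simp at hL; omega) h6 k a e m h1) (by
    simpa [Roots.W_conj_σ (R.wp_mem_W L2) e] using (h6.acts.mul h2).mul h6.acts.inv)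
  simpa [mul_assoc] using h.conj_TT h6.inv h7

lemma eq_TT {n : ℕ} (hP : PP R X π A n) {L L' : List I} {g g' : Γ} (hL : L.length ≤ n)
    (hL' : L'.length ≤ n) (hg : Wd R X π A L g) (hg' : Wd R X π A L' g') (e : R.wp L = R.wp L') :
    g'⁻¹ * g ∈ TT X π A := by
  induction hn : L.length + L'.length using Nat.strong_induction_on generalizing L L' g g' with
  | _ l ih =>
  wlog h0 : L ≠ [] generalizing L L' g g'
  · obtain rfl := not_not.1 h0
    by_cases h1 : L' = []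
    · subst h1; cases hg; cases hg'; simp
    · simpa using inv_mem (this hL' hL hg' hg e.symm (by omega) h1)
  obtain ⟨L, k, rfl⟩ := List.eq_nil_or_concat' L |>.resolve_left h0
  obtain ⟨g, _, h1, (_ | ⟨h2, h3, (_ | _)⟩), rfl⟩ := hg.split
  rename_i m
  simp only [List.length_append, List.length_singleton, wp_concat, mul_one] at hL hn e ⊢
  by_cases hk : R.Pos (R.wp L (R.α k))
  · obtain ⟨L'', g'', h4, h5, h6, h7⟩ := h.exch hP hL' hg' (k := k) (by
      rwa [← e, Equiv.Perm.mul_apply, R.σ_α, Roots.W_neg (R.wp_mem_W L), R.not_pos_neg_iff])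
      (inv_mem h2) (acts_inv h3)
    have h8 := ih _ (by omega) (by omega) (by omega) h1 h4
      (by rw [h6, ← e, mul_assoc, R.σ_mul_self, mul_one]) rfl
    simpa [mul_assoc] using h.conj_TT (Wd.single h2 h3).inv (mul_mem (inv_mem h7) h8)
  · obtain ⟨L'', g'', h4, h5, h6, h7⟩ := h.exch hP (by omega) h1 hk h2 h3
    simpa [mul_assoc] using mul_mem (ih _ (by omega) (by omega) hL' h4 hg' (h6.trans e) rfl) h7

variable [Finite Φ]

theorem mv {L : List I} {g : Γ} (hg : Wd R X π A L g) {i j : I} (e : R.wp L (R.α i) = R.α j) :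
    Cj g (A i) (A j) := by
  suffices ∀ n, PP R X π A n from this _ L g (Nat.lt_succ_self _) hg i j e
  intro n
  induction n with
  | zero => exact fun _ _ h => absurd h (by simp)
  | succ n hP =>
  intro L g hL hg i j e y hy
  have h1 := ln_wp_le (R := R) L
  by_cases h0 : ∀ k, R.Pos (R.wp L (R.α k))
  · obtain ⟨L', -, h2, h3⟩ := exists_red (R := R) L
    rw [ln, Roots.Inv_eq_empty (R.wp_mem_W L) h0, Set.ncard_empty, List.length_eq_zero_iff] at h3
    subst h3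
    have h4 := h.eq_TT hP (by omega) (by simp) hg Wd.nil h2.symm
    simpa using h.loc (k := j) (V := []) (by simp) (by simp) Wd.nil (h2 ▸ e) _
      (((mem_TT.1 h4).1 i y).1 hy)
  obtain ⟨k, hk⟩ := not_forall.1 h0
  obtain ⟨U, V, a, h2, h3, h4, h5, h6, h7⟩ := exists_dec (R.wp_mem_W L) e hk
  obtain ⟨u, hu⟩ := h.exists_wd U
  obtain ⟨v, hv⟩ := h.exists_wd V
  have h8 := h.eq_TT hP (by omega) (by simp; omega) hg (hu.append hv) h4.symm
  simpa [mul_assoc] using hP U u (by omega) hu a j (by rw [← h7, ← e, ← h4]; simp) _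
    (h.loc h2 h3 hv h7 _ (((mem_TT.1 h8).1 i y).1 hy))

/-- The Curtis–Tits theorem. -/
theorem exists_Y : ∃ Y : Φ → Subgroup Γ, (∀ r, (Y r).map π = X r) ∧
    (∀ r, ∀ y ∈ Y r, π y = 1 → y = 1) ∧
    (∀ i, ∀ m ∈ A i, Acts X (π m) (R.σ i) → Acts Y m (R.σ i)) ∧
    ∀ i, Y (R.α i) ⊔ Y (R.neg (R.α i)) = A i := by
  have : ∀ r, ∃ L g i, Wd R X π A L g ∧ R.wp L (R.α i) = r := fun r => by
    obtain ⟨w, hw, i, rfl⟩ := R.exists_W_α r
    obtain ⟨L, rfl⟩ := Roots.exists_wp hw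
    obtain ⟨g, hg⟩ := h.exists_wd L
    exact ⟨L, g, i, hg, rfl⟩
  choose L g a hg hr using this
  let Y : Φ → Subgroup Γ := fun r =>
    (A (a r)).comap (MulAut.conj (g r)⁻¹).toMonoidHom ⊓ (X r).comap π
  have k0 : ∀ r y, y ∈ Y r ↔ (g r)⁻¹ * y * g r ∈ A (a r) ∧ π y ∈ X r := fun r y => by simp [Y]
  have k1 : ∀ {L' g'}, Wd R X π A L' g' → ∀ r, ∀ y ∈ Y r, g' * y * g'⁻¹ ∈ Y (R.wp L' r) :=
    fun {L' g'} h1 r y hy => (k0 _ _).2 ⟨by
      simpa [mul_assoc] using h.mv ((hg (R.wp L' r)).inv.append (h1.append (hg r))) (i := a r)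
        (j := a (R.wp L' r)) (by simp [hr, R.wp_reverse, Equiv.symm_apply_eq]) _
        ((k0 _ _).1 hy).1, by simpa using h1.acts.conj_mem ((k0 _ _).1 hy).2⟩
  have k2 : ∀ r, (Y r).map π = X r := fun r => le_antisymm (by
      rintro _ ⟨y, hy, rfl⟩; exact ((k0 _ _).1 hy).2) fun x hx => by
    have := (hg r).acts.inv_conj_mem hx
    rw [show (R.wp (L r))⁻¹ r = R.α (a r) by rw [Equiv.Perm.inv_eq_iff_eq, hr]] at this
    obtain ⟨y, hy, e⟩ := (h.map _).ge (Subgroup.mem_sup_left this)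
    have e' : π (g r * y * (g r)⁻¹) = x := by simp [e, mul_assoc]
    exact ⟨_, (k0 _ _).2 ⟨by simpa [mul_assoc] using hy, e' ▸ hx⟩, e'⟩
  have k3 : ∀ i, Y (R.α i) ≤ A i := fun i y hy => by
    simpa [mul_assoc] using h.mv (hg _) (hr _) _ ((k0 _ _).1 hy).1
  refine ⟨Y, k2, fun r y hy e => ?_, fun i m h1 h2 => acts_of_conj ?_ ?_, fun i => ?_⟩
  · simpa [mul_assoc, inv_mul_eq_one] using h.inj _ _ ((k0 _ _).1 hy).1 (by simp [e])
  · simpa using k1 (Wd.single h1 h2)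
  · simpa [R.σ_inv] using k1 (Wd.single h1 h2).inv
  have k4 : Y (R.α i) ⊔ Y (R.neg (R.α i)) ≤ A i := sup_le (k3 i) fun y hy => by
    obtain ⟨m, h1, h2⟩ := h.ex i
    have := k1 (Wd.single h1 h2) _ y hy
    rw [R.wp_singleton, R.σ_neg_α] at this
    exact (mul_mem_cancel_left h1).1 ((mul_mem_cancel_right (inv_mem h1)).1 (k3 i this))
  refine le_antisymm k4 fun y hy => ?_
  obtain ⟨z, hz, e⟩ : π y ∈ (Y (R.α i) ⊔ Y (R.neg (R.α i))).map π := by
    rw [Subgroup.map_sup, k2, k2, ← h.map]; exact ⟨y, hy, rfl⟩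
  rwa [← mul_inv_eq_one.1 (h.inj i _ (mul_mem (k4 hz) (inv_mem hy)) (by simp [e]))]

end CT

end H6.P6
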