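import Mathlib
import Cfsg.Agent.Lib.Pres.Bruhat
import Cfsg.Agent.Lib.Cls63.Embed
import Cfsg.Agent.S2278
import Cfsg.Agent.S2279

/-!
Block subgroups of `SL_n`, their generation, signed permutation matrices.
-/

set_option autoImplicit false

open scoped commutatorElement

namespace H6.P6

open H63.St H63.St.SL Matrix H77.Pres H64.St2

variable {Ω K : Type*} [Fintype Ω] [DecidableEq Ω] [Field K]

lemma tv_add (i j : Ω) (a b : K) : tv i j a * tv i j b = tv i j (a + b) := by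
  by_cases h : i ≠ j
  · exact (st _ K).add h a b
  · simp [tv, h]

@[simp] lemma tv_zero (i j : Ω) : tv i j (0 : K) = 1 := by simpa using tv_add i j (0 : K) 0

lemma tv_neg (i j : Ω) (a : K) : tv i j (-a) = (tv i j a)⁻¹ :=
  eq_inv_of_mul_eq_one_left (by simp [tv_add])

lemma tv_comm {i j k : Ω} (h1 : i ≠ j) (h2 : j ≠ k) (h3 : i ≠ k) (a b : K) :
    ⁅tv i j a, tv j k b⁆ = tv i k (a * b) := (st _ K).c1 h1 h2 h3 a b

variable (K) in
/-- The block subgroup on a set of indices. -/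
def Bl (S : Set Ω) : Subgroup (SpecialLinearGroup Ω K) :=
  Subgroup.closure {g | ∃ i ∈ S, ∃ j ∈ S, ∃ t, tv i j t = g}

lemma tv_mem {S : Set Ω} {i j : Ω} (hi : i ∈ S) (hj : j ∈ S) (t : K) :
    tv i j t ∈ Bl K S := Subgroup.subset_closure ⟨i, hi, j, hj, t, rfl⟩

lemma Bl_le {S : Set Ω} {H : Subgroup (SpecialLinearGroup Ω K)}
    (h : ∀ i ∈ S, ∀ j ∈ S, i ≠ j → ∀ t, tv i j t ∈ H) : Bl K S ≤ H := by
  rw [Bl, Subgroup.closure_le]
  rintro _ ⟨i, hi, j, hj, t, rfl⟩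
  by_cases e : i ≠ j
  · exact h i hi j hj e t
  · simp [tv, e]

lemma Bl_two_le {i j : Ω} {H : Subgroup (SpecialLinearGroup Ω K)}
    (h : ∀ t, tv i j t ∈ H) (h' : ∀ t, tv j i t ∈ H) : Bl K {i, j} ≤ H := Bl_le <| by
  rintro _ (rfl | rfl) _ (rfl | rfl) e t
  exacts [absurd rfl e, h t, h' t, absurd rfl e]

lemma Bl_univ : Bl K (Set.univ : Set Ω) = ⊤ :=
  H10.SL_eq_top_of_transvection_mem _ fun i j h c => tv_eq h c ▸ tv_mem (Set.mem_univ i) (Set.mem_univ j) c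

lemma Bl_commute {S T : Set Ω} (h : Disjoint S T) {x y : SpecialLinearGroup Ω K}
    (hx : x ∈ Bl K S) (hy : y ∈ Bl K T) : Commute x y := by
  have : Bl K S ≤ Subgroup.centralizer (Bl K T) := Bl_le fun i hi j hj e t => by
    have : Bl K T ≤ Subgroup.centralizer {tv i j t} := Bl_le fun k hk l hl e' u =>
      Subgroup.mem_centralizer_singleton_iff.2 ((st _ K).c0 e' e (h.ne_of_mem hj hk).symm
        (h.ne_of_mem hi hl).symm u t)
    exact fun y hy => Subgroup.mem_centralizer_singleton_iff.1 (this hy)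
  exact (this hx y hy).symm

theorem exists_blk {ι : Type*} [Fintype ι] [DecidableEq ι] {emb : ι → Ω}
    (he : Function.Injective emb) :
    ∃ ψ : SpecialLinearGroup ι K →* SpecialLinearGroup Ω K, Function.Injective ψ ∧
      (∀ i j t, ψ (tv i j t) = tv (emb i) (emb j) t) ∧ ψ.range = Bl K (Set.range emb) ∧
      (∀ g i j, (ψ g).1 (emb i) (emb j) = g.1 i j) ∧
      ∀ g : SpecialLinearGroup Ω K, g ∈ ψ.range ↔
        ∀ a b, a ∉ Set.range emb ∨ b ∉ Set.range emb → g.1 a b = (1 : Matrix _ _ K) a b := by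
  classical
  obtain ⟨μ, _, _, e, rfl⟩ : ∃ (μ : Type _) (_ : Fintype μ) (_ : DecidableEq μ) (e : ι ⊕ μ ≃ Ω),
      emb = fun i => e (.inl i) := ⟨↥(Set.range emb)ᶜ, inferInstance, inferInstance,
    ((Equiv.ofInjective emb he).sumCongr (Equiv.refl _)).trans (Equiv.Set.sumCompl _), rfl⟩
  have h1 : ∀ i j (t : K), H63.Emb.slBlock e (tv i j t) = tv (e (.inl i)) (e (.inl j)) t :=
    fun i j t => by
    by_cases h : i ≠ j
    swap
    · obtain rfl := not_not.1 h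
      simp [tv]
    refine Subtype.ext ?_
    rw [H63.Emb.coe_slBlock, coe_tv h, coe_tv (he.ne h)]
    ext a b
    obtain ⟨a | a, rfl⟩ := e.surjective a <;> obtain ⟨b | b, rfl⟩ := e.surjective b <;>
      simp [H63.Emb.blockHom_apply, one_apply, single_apply]
  refine ⟨H63.Emb.slBlock e, H63.Emb.slBlock_injective e, h1, le_antisymm ?_ (Bl_le ?_),
    fun g i j => ?_, fun g => ⟨?_, fun hg => ?_⟩⟩
  · rw [MonoidHom.range_eq_map, ← Bl_univ, Subgroup.map_le_iff_le_comap]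
    exact Bl_le fun i _ j _ _ t => Subgroup.mem_comap.2 (h1 i j t ▸
      tv_mem (S := Set.range fun i => e (.inl i)) ⟨i, rfl⟩ ⟨j, rfl⟩ t)
  · rintro _ ⟨i, rfl⟩ _ ⟨j, rfl⟩ - t
    exact ⟨_, h1 i j t⟩
  · simp [H63.Emb.coe_slBlock, H63.Emb.blockHom_apply]
  · rintro ⟨g, rfl⟩ a b h
    obtain ⟨a | a, rfl⟩ := e.surjective a <;> obtain ⟨b | b, rfl⟩ := e.surjective b <;>
      simp_all [H63.Emb.coe_slBlock, H63.Emb.blockHom_apply, one_apply]
  · have h3 : H63.Emb.blockHom e (g.1.submatrix (fun i => e (.inl i)) fun i => e (.inl i)) = g.1 := by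
      ext a b
      obtain ⟨a | a, rfl⟩ := e.surjective a <;> obtain ⟨b | b, rfl⟩ := e.surjective b
      · simp [H63.Emb.blockHom_apply]
      all_goals rw [hg _ _ (by simp)]; simp [H63.Emb.blockHom_apply, one_apply]
    exact ⟨⟨_, (H63.Emb.det_blockHom e _).symm.trans (h3.symm ▸ g.2)⟩, Subtype.ext h3⟩

lemma mem_Bl {S : Set Ω} {g : SpecialLinearGroup Ω K} :
    g ∈ Bl K S ↔ ∀ a b, a ∉ S ∨ b ∉ S → g.1 a b = (1 : Matrix _ _ K) a b := by
  classical
  obtain ⟨ψ, -, -, h1, -, h2⟩ := exists_blk (K := K) (Subtype.val_injective (p := (· ∈ S)))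
  rw [Subtype.range_coe_subtype, Set.ofPred_mem_eq] at h1 h2
  rw [← h1, h2]

/-- Monomial matrices. -/
def Mn (g : SpecialLinearGroup Ω K) (p : Equiv.Perm Ω) (η : Ω → K) : Prop :=
  ∀ a b, g.1 a b = if a = p b then η b else 0

namespace Mn

variable {g g' : SpecialLinearGroup Ω K} {p p' : Equiv.Perm Ω} {η η' : Ω → K}

lemma ne (h : Mn g p η) (b : Ω) : η b ≠ 0 := fun e =>
  one_ne_zero (g.2.symm.trans (det_eq_zero_of_column_eq_zero b fun a => by simp [h a b, e]))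

lemma mul (h : Mn g p η) (h' : Mn g' p' η') : Mn (g * g') (p * p') fun b => η (p' b) * η' b :=
  fun a b => by
    rw [Matrix.SpecialLinearGroup.coe_mul, mul_apply, Finset.sum_eq_single (p' b)
      (fun c _ hc => by simp [h' c b, hc]) (by simp), h, h', if_pos rfl, ite_mul, zero_mul]
    rfl

lemma ext (h : Mn g p η) (h' : Mn g' p η) : g = g' :=
  Subtype.ext (Matrix.ext fun a b => (h a b).trans (h' a b).symm)

lemma inv (h : Mn g p η) : Mn g⁻¹ p⁻¹ fun b => (η (p⁻¹ b))⁻¹ := fun a b => by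
  obtain ⟨b, rfl⟩ := p.surjective b
  have h1 : (g⁻¹ * g).1 a b = if a = b then 1 else 0 := by rw [inv_mul_cancel]; exact one_apply
  rw [Matrix.SpecialLinearGroup.coe_mul, mul_apply, Finset.sum_eq_single (p b)
    (fun c _ hc => by rw [h c b, if_neg hc, mul_zero]) (by simp), h, if_pos rfl] at h1
  rw [eq_mul_inv_iff_mul_eq₀ (h.ne b) |>.2 h1]
  simp

lemma conj_tv (h : Mn g p η) {i j : Ω} (hij : i ≠ j) (t : K) :
    g * tv i j t * g⁻¹ = tv (p i) (p j) (η i * (η j)⁻¹ * t) := by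
  rw [mul_inv_eq_iff_eq_mul]
  refine Subtype.ext ?_
  ext a b
  obtain ⟨a, rfl⟩ := p.surjective a
  simp only [Matrix.SpecialLinearGroup.coe_mul, coe_tv hij, coe_tv (p.injective.ne hij), mul_apply, h _ _]
  have := h.ne j
  by_cases e : i = a ∧ j = b
  · obtain ⟨rfl, rfl⟩ := e
    simp [hij]; field_simp
  · simp +contextual [one_apply, single_apply, e]

lemma conj_Bl (h : Mn g p η) {S : Set Ω} {x : SpecialLinearGroup Ω K} (hx : x ∈ Bl K S) :
    g * x * g⁻¹ ∈ Bl K (p '' S) := by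
  have : Bl K S ≤ (Bl K (p '' S)).comap (MulAut.conj g).toMonoidHom := Bl_le fun i hi j hj e t =>
    show g * _ * g⁻¹ ∈ _ from h.conj_tv e t ▸ tv_mem (S := p '' S) ⟨i, hi, rfl⟩ ⟨j, hj, rfl⟩ _
  exact this hx

end Mn

lemma mn_hd {ζ : K} (hζ : ζ ≠ 0) (i j : Ω) : Mn (hd hζ i j) 1 fun a => ζ ^ ep i j a :=
  fun a b => by
    rw [coe_hd, diagonal_apply]
    split_ifs with h1 h2 h2
    exacts [h1 ▸ rfl, absurd h1 h2, absurd h2 h1, rfl]

lemma exists_blk2 {i j : Ω} (h : i ≠ j) : ∃ ψ : SpecialLinearGroup (Fin 2) K →*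
    SpecialLinearGroup Ω K, Function.Injective ψ ∧ (∀ t, ψ (slx t) = tv i j t) ∧
    (∀ t, ψ (sly t) = tv j i t) ∧ ψ.range = Bl K {i, j} ∧ (∀ t (ht : t ≠ 0), ψ (hm ht) = hd ht i j) ∧
    Mn (ψ (wm K)) (Equiv.swap i j) fun b => if b = i then -1 else 1 := by
  have he : Function.Injective ![i, j] := by
    intro x y e; fin_cases x <;> fin_cases y <;> simp_all [eq_comm]
  obtain ⟨ψ, h0, h1, h2, h3, h4⟩ := exists_blk (K := K) he
  rw [show Set.range ![i, j] = {i, j} by simp [Set.pair_comm]] at h2 h4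
  have k : ∀ g, (ψ g).1 i i = g.1 0 0 ∧ (ψ g).1 i j = g.1 0 1 ∧ (ψ g).1 j i = g.1 1 0 ∧
      (ψ g).1 j j = g.1 1 1 ∧ ∀ a b, (a ≠ i ∧ a ≠ j) ∨ (b ≠ i ∧ b ≠ j) →
      (ψ g).1 a b = if a = b then 1 else 0 := fun g =>
    ⟨h3 g 0 0, h3 g 0 1, h3 g 1 0, h3 g 1 1, fun a b hab => (h4 _).1 ⟨g, rfl⟩ a b (by simpa)⟩
  have c : ∀ a, a = i ∨ a = j ∨ (a ≠ i ∧ a ≠ j) := fun a => by tauto
  refine ⟨ψ, h0, fun t => Eq.trans (congrArg ψ ?_) (h1 0 1 t), fun t => Eq.trans (congrArg ψ ?_)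
    (h1 1 0 t), h2, fun t ht => Mn.ext (fun a b => ?_) (mn_hd ht i j), fun a b => ?_⟩
  · ext a b; fin_cases a <;> fin_cases b <;> simp [coe_slx, coe_tv]
  · ext a b; fin_cases a <;> fin_cases b <;> simp [coe_sly, coe_tv]
  · rcases c a with rfl | rfl | ha <;> rcases c b with rfl | rfl | hb <;>
      simp [coe_hm, ep, h.symm, *]
  · rcases c a with rfl | rfl | ha <;> rcases c b with rfl | rfl | hb <;>
      simp [coe_wm, h.symm, Equiv.swap_apply_of_ne_of_ne, *]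

/-- Signed permutation matrices. -/
def SP (g : SpecialLinearGroup Ω K) (p : Equiv.Perm Ω) : Prop :=
  ∃ η : Ω → K, (∀ b, η b * η b = 1) ∧ Mn g p η

lemma SP.mul {g g' : SpecialLinearGroup Ω K} {p p' : Equiv.Perm Ω} (h : SP g p) (h' : SP g' p') :
    SP (g * g') (p * p') := by
  obtain ⟨η, h1, h2⟩ := h
  obtain ⟨η', h1', h2'⟩ := h'
  exact ⟨_, fun b => by linear_combination η' b * η' b * h1 (p' b) + h1' b, h2.mul h2'⟩

lemma SP.inv {g : SpecialLinearGroup Ω K} {p : Equiv.Perm Ω} (h : SP g p) : SP g⁻¹ p⁻¹ := by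
  obtain ⟨η, h1, h2⟩ := h
  exact ⟨_, fun b => by rw [← mul_inv, h1, inv_one], h2.inv⟩

lemma exists_sp_swap {i j : Ω} (h : i ≠ j) : ∃ g ∈ Bl K {i, j}, SP g (Equiv.swap i j) := by
  obtain ⟨ψ, -, -, -, h1, -, h2⟩ := exists_blk2 (K := K) h
  exact ⟨_, h1 ▸ ⟨_, rfl⟩, _, fun b => by split_ifs <;> simp, h2⟩

variable (K) in
lemma exists_sp (p : Equiv.Perm Ω) : ∃ g : SpecialLinearGroup Ω K, SP g p := by
  induction p using Equiv.Perm.swap_induction_on with
  | one => exact ⟨1, 1, by simp, fun a b => one_apply⟩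
  | swap_mul p i j h ih =>
    obtain ⟨g, hg⟩ := ih
    obtain ⟨g', -, hg'⟩ := exists_sp_swap (K := K) h
    exact ⟨_, hg'.mul hg⟩

lemma sp_hd (i j : Ω) : SP (hd (neg_ne_zero.2 (one_ne_zero' K)) i j) 1 :=
  ⟨_, fun a => by rw [← mul_zpow]; simp, mn_hd _ i j⟩

/-- The stabiliser of two points in the group of signed permutation matrices. -/
lemma SP.mem_stab {g : SpecialLinearGroup Ω K} {p : Equiv.Perm Ω} (h : SP g p)
    {i j k : Ω} (hij : i ≠ j) (hik : i ≠ k) (hjk : j ≠ k) (hi : p i = i) (hj : p j = j)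
    {H : Subgroup (SpecialLinearGroup Ω K)} (h1 : Bl K {i, j}ᶜ ≤ H)
    (h2 : hd (neg_ne_zero.2 (one_ne_zero' K)) i j ∈ H)
    (h3 : hd (neg_ne_zero.2 (one_ne_zero' K)) i k ∈ H) : g ∈ H := by
  have k1 : ∀ g : SpecialLinearGroup Ω K, SP g p → g.1 i i = 1 → g.1 j j = 1 → g ∈ H := by
    rintro g ⟨η, -, e⟩ e1 e2
    rw [e, if_pos hi.symm] at e1
    rw [e, if_pos hj.symm] at e2
    refine h1 (mem_Bl.2 fun a b hab => ?_)
    have : ∀ c, c = i ∨ c = j → p c = c ∧ η c = 1 := by rintro _ (rfl | rfl) <;> simp [*]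
    rw [e, one_apply]
    rcases hab with hab | hab
    · obtain ⟨h4, h5⟩ := this a (by simpa [or_iff_not_imp_left] using hab)
      by_cases e' : a = b
      · subst e'; simp [h4, h5]
      · rw [if_neg e', if_neg fun e'' => e' (p.injective (h4.trans e''))]
    · obtain ⟨h4, h5⟩ := this b (by simpa [or_iff_not_imp_left] using hab)
      rw [h4, h5]
  have k2 : ∀ g : SpecialLinearGroup Ω K, SP g p → g.1 j j = 1 → g ∈ H := by
    intro g hg e2
    obtain ⟨η, h4, e⟩ := id hg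
    rcases mul_self_eq_one_iff.1 (h4 i) with e1 | e1
    · exact k1 g hg (by simp [e i i, hi, e1]) e2
    · refine (mul_mem_cancel_right h3).1 (k1 _ (by simpa using hg.mul (sp_hd i k)) ?_ ?_) <;>
        simp [Matrix.SpecialLinearGroup.coe_mul, coe_hd, ep, hik, hij.symm, hjk, e2, e i i, hi, e1]
  obtain ⟨η, h4, e⟩ := id h
  rcases mul_self_eq_one_iff.1 (h4 j) with e1 | e1
  · exact k2 g h (by simp [e j j, hj, e1])
  · refine (mul_mem_cancel_right h2).1 (k2 _ (by simpa using h.mul (sp_hd i j)) ?_)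
    simp [Matrix.SpecialLinearGroup.coe_mul, coe_hd, ep, hij.symm, e j j, hj, e1]

lemma hd_mem {ζ : K} (hζ : ζ ≠ 0) (i j : Ω) : hd hζ i j ∈ Bl K {i, j} := mem_Bl.2 fun a b h => by
  rw [coe_hd, diagonal_apply, one_apply]
  split_ifs with e
  · subst e; simp_all [ep]
  · rfl

section finite

variable [Finite K]

lemma top_of_sq {A : AddSubgroup K} {c : K} (hc : c ≠ 0) (h : ∀ a, a ≠ 0 → a ^ 2 * c ∈ A) :
    A = ⊤ := by
  have h' : ∀ a, a ^ 2 * c ∈ A := fun a => by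
    by_cases e : a = 0
    · simp [e]
    · exact h a e
  refine eq_top_iff.2 fun x _ => ?_
  by_cases h2 : (2 : K) = 0
  · obtain ⟨a, ha⟩ := FiniteField.isSquare_of_char_two
      (CharP.ringChar_of_prime_eq_zero Nat.prime_two (by simpa using h2)) (x / c)
    convert h' a using 1
    rw [sq, ← ha, div_mul_cancel₀ _ hc]
  · convert sub_mem (h' ((x / c + 1) / 2)) (h' ((x / c - 1) / 2)) using 1
    field_simp; ring

/-- The additive subgroup of parameters of root elements in a subgroup. -/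
def par {G : Type*} [Group G] (x : K → G) (hx : ∀ a b, x a * x b = x (a + b)) (H : Subgroup G) :
    AddSubgroup K where
  carrier := {a | x a ∈ H}
  add_mem' {a b} ha hb := show x _ ∈ H from hx a b ▸ mul_mem ha hb
  zero_mem' := by
    change _ ∈ H
    rw [show x 0 = 1 by simpa using hx 0 0]; exact one_mem _
  neg_mem' {a} ha := by
    change _ ∈ H
    rw [eq_inv_of_mul_eq_one_left (show x (-a) * x a = 1 by
      rw [hx, neg_add_cancel]; simpa using hx 0 0)]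
    exact inv_mem ha

lemma mem_of_sq {G : Type*} [Group G] {x : K → G} (hx : ∀ a b, x a * x b = x (a + b))
    {H : Subgroup G} {c : K} (hc : c ≠ 0) (h : ∀ a, a ≠ 0 → x (a ^ 2 * c) ∈ H) (t : K) : x t ∈ H :=
  (top_of_sq (A := par x hx H) hc h).ge trivial

variable (K) in
theorem sl_two_gen (k : ℕ) :
    ∃ a b : SpecialLinearGroup (Fin k) K, Subgroup.closure {a, b} = ⊤ := by
  have := Fintype.ofFinite K
  rcases (by omega : k ≤ 1 ∨ k = 2 ∨ k = 3 ∨ 4 ≤ k) with h | rfl | rfl | h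
  · refine ⟨1, 1, H10.SL_eq_top_of_transvection_mem _ fun i j e => absurd ?_ e⟩
    omega
  · obtain ⟨ζ, h0, h1, -⟩ := exists_prim K
    by_cases e : ζ ^ 2 = 1
    · refine ⟨slx 1, wm K, top_of_slx_wm _ (mem_of_sq (fun a b => (slx_isAdd a b).symm) one_ne_zero fun a ha => ?_)
        (Subgroup.subset_closure (by simp))⟩
      obtain ⟨m, rfl⟩ := h1 a ha
      rw [← pow_mul, mul_comm m, pow_mul, e, one_pow, mul_one]
      exact Subgroup.subset_closure (by simp)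
    refine ⟨hm h0, slx 1 * wm K, ?_⟩
    generalize hH : Subgroup.closure {hm h0, slx 1 * wm K} = H
    have m1 : hm h0 ∈ H := hH ▸ Subgroup.subset_closure (by simp)
    have m2 : slx 1 * wm K ∈ H := hH ▸ Subgroup.subset_closure (by simp)
    have m3 : slx (ζ ^ 2 * 1 + -1) ∈ H := by
      convert mul_mem m1 (mul_mem (mul_mem m2 m1) (inv_mem m2)) using 1
      rw [slx_isAdd, (slx_isAdd (F := K)).neg, ← hm_slx h0, ← wm_hm h0]; group
    have m4 : ∀ a, slx a ∈ H := mem_of_sq (fun a b => (slx_isAdd a b).symm) (c := ζ ^ 2 * 1 + -1)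
      (by simpa [add_neg_eq_zero] using e) fun a ha => by
        obtain ⟨m, rfl⟩ := h1 a ha
        have := mul_mem (mul_mem (pow_mem m1 m) m3) (inv_mem (pow_mem m1 m))
        rwa [hm_pow, hm_slx] at this
    exact top_of_slx_wm _ m4 ((mul_mem_cancel_left (m4 1)).1 m2)
  · obtain ⟨u, g, -, -, h⟩ := Cfsg.Agent.S2278.result (F := K)
    exact ⟨_, _, h⟩
  · obtain ⟨u, v, -, -, h⟩ := (Cfsg.Agent.S2279.result (F := K) k h).1
    exact ⟨_, _, h⟩

variable (K) in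
theorem Bl_two_gen (S : Set Ω) : ∃ a b, Subgroup.closure {a, b} = Bl K S := by
  classical
  obtain ⟨ψ, -, -, h1, -⟩ := exists_blk (K := K)
    (Subtype.val_injective.comp (Fintype.equivFin S).symm.injective)
  rw [EquivLike.range_comp, Subtype.range_coe_subtype, Set.ofPred_mem_eq] at h1
  obtain ⟨a, b, h⟩ := sl_two_gen K (Fintype.card S)
  exact ⟨ψ a, ψ b, by rw [← h1, MonoidHom.range_eq_map, ← h, MonoidHom.map_closure, Set.image_pair]⟩

lemma exists_ngen (S : Set Ω) : ∃ z ∈ Bl K S, ∀ N : Subgroup (SpecialLinearGroup Ω K),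
    z ∈ N → (∀ g ∈ Bl K S, ∀ x ∈ N, g * x * g⁻¹ ∈ N) → Bl K S ≤ N := by
  by_cases h : ∃ i ∈ S, ∃ j ∈ S, i ≠ j
  swap
  · exact ⟨1, one_mem _, fun N _ _ => Bl_le fun i hi j hj e => absurd ⟨i, hi, j, hj, e⟩ h⟩
  obtain ⟨i, hi, j, hj, e⟩ := h
  refine ⟨tv i j 1, tv_mem hi hj 1, fun N h1 h2 => ?_⟩
  have hs : ∀ {a b}, a ∈ S → b ∈ S → Bl K {a, b} ≤ Bl K S := fun ha hb =>
    Bl_two_le (tv_mem ha hb) (tv_mem hb ha)
  have k1 : ∀ t, tv i j t ∈ N := mem_of_sq (tv_add i j) one_ne_zero fun a ha => by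
    have := h2 _ (hs hi hj (hd_mem ha i j)) _ h1
    rwa [hd_conj ha _ _ e, show ep i j i - ep i j j = 2 by simp [ep, e, e.symm], zpow_ofNat] at this
  have k2 : ∀ {a b c d}, a ∈ S → b ∈ S → c ≠ d → (∀ t, tv (Equiv.swap a b c) (Equiv.swap a b d) t ∈ N) →
      ∀ t, tv c d t ∈ N := fun {a b c d} ha hb h h3 t => by
    by_cases e' : a = b
    · simpa [e'] using h3 t
    obtain ⟨g, hg, h4⟩ := exists_sp_swap (K := K) e'
    obtain ⟨η, -, h5⟩ := h4
    have := h2 _ (inv_mem (hs ha hb hg)) _ (h3 (η c * (η d)⁻¹ * t))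
    rw [← h5.conj_tv h t] at this
    simpa [mul_assoc] using this
  refine Bl_le fun a ha b hb e' => k2 ha hi e' ?_
  rw [Equiv.swap_apply_left]
  have hb' : Equiv.swap a i b ∈ S := by rw [Equiv.swap_apply_def]; split_ifs <;> assumption
  have h3 : i ≠ Equiv.swap a i b := by
    rw [ne_eq, eq_comm, Equiv.swap_apply_eq_iff]; simpa using e'.symm
  refine k2 hb' hj h3 ?_
  rwa [Equiv.swap_apply_left, Equiv.swap_apply_of_ne_of_ne h3 e]

variable (K) in
theorem Bl_three_gen {S T : Set Ω} (h : Disjoint S T) :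
    ∃ a b c, Subgroup.closure {a, b, c} = Bl K S ⊔ Bl K T := by
  obtain ⟨a, b, h1⟩ := Bl_two_gen K S
  obtain ⟨c, d, h2⟩ := Bl_two_gen K T
  obtain ⟨z, hz, h3⟩ := exists_ngen (K := K) T
  have ha : a ∈ Bl K S := h1 ▸ Subgroup.subset_closure (by simp)
  have hb : b ∈ Bl K S := h1 ▸ Subgroup.subset_closure (by simp)
  have hc : c ∈ Bl K T := h2 ▸ Subgroup.subset_closure (by simp)
  have hd : d ∈ Bl K T := h2 ▸ Subgroup.subset_closure (by simp)
  refine ⟨a * c, b * d, z, le_antisymm ((Subgroup.closure_le _).2 ?_) ?_⟩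
  · rintro _ (rfl | rfl | rfl)
    exacts [Subgroup.mul_mem_sup ha hc, Subgroup.mul_mem_sup hb hd, Subgroup.mem_sup_right hz]
  generalize hH : Subgroup.closure {a * c, b * d, z} = H
  have m1 : a * c ∈ H := hH ▸ Subgroup.subset_closure (by simp)
  have m2 : b * d ∈ H := hH ▸ Subgroup.subset_closure (by simp)
  have k : ∀ {a c}, a ∈ Bl K S → c ∈ Bl K T → a * c ∈ H →
      c ∈ Subgroup.normalizer ((H ⊓ Bl K T : Subgroup _) : Set _) := fun {a c} ha hc h4 => by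
    refine Subgroup.mem_normalizer_fintype fun x hx => ⟨?_, (Bl K T).mul_mem (mul_mem hc hx.2) (inv_mem hc)⟩
    have := mul_mem (mul_mem h4 hx.1) (inv_mem h4)
    rwa [show a * c * x * (a * c)⁻¹ = a * (c * x * c⁻¹) * a⁻¹ by group,
      (Bl_commute h ha (mul_mem (mul_mem hc hx.2) (inv_mem hc))).eq, mul_inv_cancel_right] at this
  have h4 : Bl K T ≤ Subgroup.normalizer ((H ⊓ Bl K T : Subgroup _) : Set _) := by
    conv_lhs => rw [← h2]
    rw [Subgroup.closure_le]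
    rintro _ (rfl | rfl)
    exacts [k ha hc m1, k hb hd m2]
  have h5 : Bl K T ≤ H := (h3 (H ⊓ Bl K T) ⟨hH ▸ Subgroup.subset_closure (by simp), hz⟩
    fun g hg x hx => (h4 hg x).1 hx).trans inf_le_left
  refine sup_le ?_ h5
  rw [← h1, Subgroup.closure_le]
  rintro _ (rfl | rfl)
  exacts [(mul_mem_cancel_right (h5 hc)).1 m1, (mul_mem_cancel_right (h5 hd)).1 m2]

/-- Conjugation by `diag(v, 1)`. -/
def θ {v : K} (hv : v ≠ 0) : SpecialLinearGroup (Fin 2) K →* SpecialLinearGroup (Fin 2) K where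
  toFun g := ⟨!![g.1 0 0, v * g.1 0 1; v⁻¹ * g.1 1 0, g.1 1 1], by
    refine Eq.trans ?_ g.2
    rw [det_fin_two_of, det_fin_two]; field_simp⟩
  map_one' := by ext i j; fin_cases i <;> fin_cases j <;> simp
  map_mul' g h := Subtype.ext (by
    change _ = !![_, _; _, _] * !![_, _; _, _]
    ext i j; fin_cases i <;> fin_cases j <;> simp [mul_apply, Fin.sum_univ_two] <;> field_simp)

omit [Finite K] in
lemma coe_θ {v : K} (hv : v ≠ 0) (g : SpecialLinearGroup (Fin 2) K) :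
    (θ hv g).1 = !![g.1 0 0, v * g.1 0 1; v⁻¹ * g.1 1 0, g.1 1 1] := rfl

omit [Finite K] in
lemma θ_slx {v : K} (hv : v ≠ 0) (u : K) : θ hv (slx u) = slx (v * u) := by
  ext i j; fin_cases i <;> fin_cases j <;> simp [coe_θ, coe_slx]

omit [Finite K] in
lemma θ_sly {v : K} (hv : v ≠ 0) (u : K) : θ hv (sly u) = sly (v⁻¹ * u) := by
  ext i j; fin_cases i <;> fin_cases j <;> simp [coe_θ, coe_sly]

omit [Finite K] in
lemma sl2_ext {G : Type*} [Group G] {φ ψ : SpecialLinearGroup (Fin 2) K →* G}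
    (h1 : ∀ u, φ (slx u) = ψ (slx u)) (h2 : ∀ u, φ (sly u) = ψ (sly u)) : φ = ψ :=
  MonoidHom.eq_of_eqOn_dense (sl_closure K) (by rintro _ (⟨u, rfl⟩ | ⟨u, rfl⟩); exacts [h1 u, h2 u])

theorem gen_θ {N : Subgroup (SpecialLinearGroup (Fin 2) K)}
    (h1 : ∀ μ (hμ : μ ≠ 0), ∀ g ∈ N, θ (pow_ne_zero 2 hμ) g ∈ N) {v : K} (hv : v ≠ 0) (hv1 : v ≠ 1)
    (h2 : ∀ g ∈ N, θ hv g ∈ N) (h3 : slx 1 * wm K ∈ N) : N = ⊤ := by
  have m1 : slx (v * (1 - v)) * hm hv ∈ N := by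
    convert mul_mem (h2 _ h3) (inv_mem h3) using 1
    rw [eq_mul_inv_iff_mul_eq]
    ext i j; fin_cases i <;> fin_cases j <;>
      simp [coe_θ, coe_slx, coe_hm, coe_wm, mul_apply, Fin.sum_univ_two, hv]
    field_simp; ring
  have m2 : slx ((v - 1) * (v * (1 - v))) ∈ N := by
    convert mul_mem (h2 _ m1) (inv_mem m1) using 1
    rw [eq_mul_inv_iff_mul_eq]
    ext i j; fin_cases i <;> fin_cases j <;>
      simp [coe_θ, coe_slx, coe_hm, mul_apply, Fin.sum_univ_two]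
    field_simp; ring
  have m3 := mem_of_sq (fun a b => (slx_isAdd a b).symm) (c := (v - 1) * (v * (1 - v)))
    (by simp [hv, sub_eq_zero, hv1, hv1.symm]) fun a ha => θ_slx (pow_ne_zero 2 ha) _ ▸ h1 a ha _ m2
  exact top_of_slx_wm _ m3 ((mul_mem_cancel_left (m3 1)).1 h3)

end finite

lemma eq_hm_wm {g : SpecialLinearGroup (Fin 2) K} {u u' : K} (h1 : slx u = g * sly 1 * g⁻¹)
    (h2 : sly u' = g * slx 1 * g⁻¹) : ∃ t, ∃ ht : t ≠ 0, g = hm ht * wm K := by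
  rw [eq_mul_inv_iff_mul_eq] at h1 h2
  have e1 := congrArg (fun x => x.1 1 0) h1
  have e2 := congrArg (fun x => x.1 0 1) h2
  have e3 := g.2
  simp [coe_slx, coe_sly, mul_apply, Fin.sum_univ_two] at e1 e2
  rw [det_fin_two, e1, e2] at e3
  have h0 : g.1 0 1 ≠ 0 := fun e => by simp [e] at e3
  refine ⟨_, h0, ?_⟩
  ext i j; fin_cases i <;> fin_cases j <;>
    simp [coe_hm, coe_wm, mul_apply, Fin.sum_univ_two, e1, e2]
  field_simp; linear_combination -e3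

/-- A pair of root subgroups inside a copy of `SL₂`. -/
structure Nd {G : Type*} [Group G] (A B : Subgroup G) (ψ : SpecialLinearGroup (Fin 2) K →* G) :
    Prop where
  inj : Function.Injective ψ
  mem_x : ∀ g, g ∈ A ↔ ∃ t, ψ (slx t) = g
  mem_y : ∀ g, g ∈ B ↔ ∃ t, ψ (sly t) = g

namespace Nd

variable {G : Type*} [Group G] {A B : Subgroup G} {ψ : SpecialLinearGroup (Fin 2) K →* G}
  (h : Nd A B ψ)
include h

lemma x (t : K) : ψ (slx t) ∈ A := (h.mem_x _).2 ⟨t, rfl⟩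

lemma y (t : K) : ψ (sly t) ∈ B := (h.mem_y _).2 ⟨t, rfl⟩

lemma range : ψ.range = A ⊔ B := by
  refine le_antisymm ?_ (sup_le (fun g hg => ?_) fun g hg => ?_)
  · rw [MonoidHom.range_eq_map, ← sl_closure, MonoidHom.map_closure, Subgroup.closure_le]
    rintro _ ⟨_, ⟨t, rfl⟩ | ⟨t, rfl⟩, rfl⟩
    exacts [Subgroup.mem_sup_left (h.x t), Subgroup.mem_sup_right (h.y t)]
  · obtain ⟨t, rfl⟩ := (h.mem_x g).1 hg; exact ⟨_, rfl⟩
  · obtain ⟨t, rfl⟩ := (h.mem_y g).1 hg; exact ⟨_, rfl⟩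

lemma eq_w {g : SpecialLinearGroup (Fin 2) K} (h1 : ∀ x ∈ A, ψ g * x * (ψ g)⁻¹ ∈ B)
    (h2 : ∀ x ∈ B, ψ g * x * (ψ g)⁻¹ ∈ A) : ∃ t, ∃ ht : t ≠ 0, g = hm ht * wm K := by
  obtain ⟨u, hu⟩ := (h.mem_x _).1 (h2 _ (h.y 1))
  obtain ⟨u', hu'⟩ := (h.mem_y _).1 (h1 _ (h.x 1))
  exact eq_hm_wm (h.inj (by simpa using hu)) (h.inj (by simpa using hu'))

end Nd

end H6.P6
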