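import Mathlib
import Cfsg.Agent.Lib.Pres6.SLx
import Cfsg.Agent.Lib.Stein.EichFam

/-!
The embedding of `SL_n` into a group with Eichler transformations.
-/

set_option autoImplicit false

open scoped commutatorElement

namespace H6.P6

open H63.St H63.St.Eich H63.St.SL Matrix H77.Pres H64.St2

variable {m : ℕ}

/-- The positive indices. -/
def ps (i : Fin (m + 1)) : J m := ⟨i, by omega⟩

lemma ps_val (i : Fin (m + 1)) : (ps i : ℕ) = i := rfl

lemma ps_or (a : J m) : (∃ i, a = ps i) ∨ ∃ i, a = (ps i).rev := by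
  by_cases h : (a : ℕ) < m + 1
  · exact Or.inl ⟨⟨a, h⟩, rfl⟩
  · exact Or.inr ⟨⟨2 * m + 1 - a, by omega⟩, by simp [Fin.ext_iff, ps_val]; omega⟩

lemma in_ps {i j : Fin (m + 1)} (h : i ≠ j) : In (ps i) (ps j) := by
  simp only [In.iff, ps_val, ne_eq, Fin.ext_iff] at h ⊢; omega

@[simp] lemma ps_inj {i j : Fin (m + 1)} : ps i = ps j ↔ i = j := by simp [Fin.ext_iff, ps_val]

@[simp] lemma ps_ne_rev (i j : Fin (m + 1)) : ps i ≠ (ps j).rev := by
  simp only [ne_eq, Fin.ext_iff, ps_val, Fin.val_rev]; omega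

@[simp] lemma rev_ne_ps (i j : Fin (m + 1)) : (ps i).rev ≠ ps j := (ps_ne_rev j i).symm

lemma idx_ps (i : Fin (m + 1)) : J.idx (ps i) = Sum.inl i := dif_pos i.2

/-- Permutations of the signed indices induced by permutations. -/
noncomputable def lp (p : Equiv.Perm (Fin (m + 1))) : Equiv.Perm (J m) :=
  (Equiv.ofBijective _ ⟨J.idx_inj, J.idx_surj⟩).symm.permCongr (p.sumCongr p)

lemma idx_lp (p : Equiv.Perm (Fin (m + 1))) (a : J m) : J.idx (lp p a) = (J.idx a).map p p :=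
  (Equiv.ofBijective _ ⟨J.idx_inj, J.idx_surj⟩).apply_symm_apply _

@[simp] lemma lp_ps (p : Equiv.Perm (Fin (m + 1))) (i : Fin (m + 1)) : lp p (ps i) = ps (p i) :=
  J.idx_inj (by simp [idx_lp, idx_ps])

@[simp] lemma lp_rev (p : Equiv.Perm (Fin (m + 1))) (i : Fin (m + 1)) :
    lp p (ps i).rev = (ps (p i)).rev := J.idx_inj (by simp [idx_lp, idx_ps, J.idx_rev])

lemma lp_one : lp (1 : Equiv.Perm (Fin (m + 1))) = 1 :=
  Equiv.ext fun a => by rcases ps_or a with ⟨i, rfl⟩ | ⟨i, rfl⟩ <;> simp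

lemma lp_swap {i j : Fin (m + 1)} (h : i ≠ j) : lp (Equiv.swap i j) = VC.τp (ps i) (ps j).rev :=
  Equiv.ext fun a => by
    have k : ∀ k, VC.τ (ps i) (ps j).rev (ps k) = ps (Equiv.swap i j k) := fun k => by
      rw [VC.τ, Equiv.swap_apply_def]; simp; split_ifs <;> simp_all
    rcases ps_or a with ⟨l, rfl⟩ | ⟨l, rfl⟩ <;> simp [VC.τ_rev, k]

variable {K V G : Type*} [Field K] [AddCommGroup V] [Module K V] [Group G] (E : Eich m K V G)

/-- Normalised frames. -/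
def Nm : Prop := ∀ i, E.κ (ps i) = 1

/-- Rescaling the frame. -/
def rescale (c : J m → K) (hc : ∀ a, c a ≠ 0) : Eich m K V G :=
  { E with
    e := fun a => c a • E.e a
    e_Λ := fun a => Λ_smul0 (E.e_Λ a) _
    e_B := fun a b h => by simp [E.e_B a b h]
    e_ne := fun a => by simp [E.e_ne, hc]
    aniso := fun v h => E.aniso v fun a => by simpa [hc] using h a }

lemma exists_nm : ∃ c hc, Nm (rescale E c hc) :=
  ⟨fun a => if (a : ℕ) < m + 1 then (E.κ a)⁻¹ else 1, fun a => by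
    dsimp only; split_ifs <;> simp [E.κ_ne], fun i => by
      have h1 : (ps i : ℕ) < m + 1 := i.2
      have h2 : ¬ ((ps i).rev : ℕ) < m + 1 := by simp [ps_val]; omega
      simp only [κ, rescale, if_pos h1, if_neg h2, one_smul]
      exact (LinearMap.map_smul₂ E.B _ _ _).trans (inv_mul_cancel₀ (E.e_ne _))⟩

variable {E}

/-- Transport of the short nodes. -/
def rescaleA {k : Type*} [Field k] (A : E.SNA k) (c : J m → K) (hc : ∀ a, c a ≠ 0) :
    (rescale E c hc).SNA k :=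
  { A with
    V0_eq := fun v h => A.V0_eq v fun a => by
      have : E.B v (c a • E.e a) = 0 := h a
      simpa [hc] using this }

namespace Nm

variable (h : Nm E)
include h

lemma κ_ps (i : Fin (m + 1)) : E.κ (ps i) = 1 := h i

lemma κ_rev (i : Fin (m + 1)) : E.κ (ps i).rev = E.ε := by
  have := E.σ_κ (ps i)
  rw [h, map_one] at this
  linear_combination -E.ε * this - E.κ (ps i).rev * E.ε_mul_ε

omit h in
lemma B_pp (i j : Fin (m + 1)) : E.B (E.e (ps i)) (E.e (ps j)) = 0 := E.e_B _ _ (by simp)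

omit h in
lemma B_nn (i j : Fin (m + 1)) : E.B (E.e (ps i).rev) (E.e (ps j).rev) = 0 := E.e_B _ _ (by simp)

lemma B_pn (i j : Fin (m + 1)) : E.B (E.e (ps i)) (E.e (ps j).rev) = if i = j then 1 else 0 := by
  split_ifs with e
  · rw [e, B_e_rev, h]
  · exact E.e_B _ _ (by simpa using Ne.symm e)

lemma B_np (i j : Fin (m + 1)) : E.B (E.e (ps i).rev) (E.e (ps j)) = if i = j then E.ε else 0 := by
  split_ifs with e
  · rw [e, B_rev_e, h.κ_rev]
  · exact E.e_B _ _ (by simpa using Ne.symm e)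

end Nm

variable (E) in
/-- The element `x` acts as the matrix `g`. -/
def Rel (g : SpecialLinearGroup (Fin (m + 1)) K) (x : G) : Prop :=
  (∀ j, E.ρ x (E.e (ps j)) = ∑ i, g.1 i j • E.e (ps i)) ∧
    (∀ j, E.ρ x (E.e (ps j).rev) = ∑ i, E.σ ((g⁻¹).1 j i) • E.e (ps i).rev) ∧
    ∀ v ∈ E.V0, E.ρ x v = v

lemma Rel.mul {g g' : SpecialLinearGroup (Fin (m + 1)) K} {x x' : G} (h : Rel E g x)
    (h' : Rel E g' x') : Rel E (g * g') (x * x') := by
  refine ⟨fun j => ?_, fun j => ?_, fun v hv => by rw [ρ_mul, h'.2.2 v hv, h.2.2 v hv]⟩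
  · simp only [ρ_mul, h'.1, map_sum, map_smul, h.1, Finset.smul_sum, smul_smul,
      Matrix.SpecialLinearGroup.coe_mul, mul_apply, Finset.sum_smul, mul_comm (g.1 _ _)]
    exact Finset.sum_comm
  · rw [ρ_mul]
    simp only [h'.2.1, map_sum, map_smul, h.2.1, Finset.smul_sum, smul_smul, _root_.mul_inv_rev,
      Matrix.SpecialLinearGroup.coe_mul, mul_apply, Finset.sum_smul, map_mul]
    exact Finset.sum_comm

lemma Rel.uniq {g : SpecialLinearGroup (Fin (m + 1)) K} {x x' : G} (h : Rel E g x)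
    (h' : Rel E g x') : x = x' :=
  E.ext' (fun a => by rcases ps_or a with ⟨i, rfl⟩ | ⟨i, rfl⟩ <;> simp only [h.1, h'.1, h.2.1, h'.2.1])
    fun v hv => by rw [h.2.2 v hv, h'.2.2 v hv]

lemma rel_one : Rel E 1 1 :=
  ⟨fun j => by simp [one_apply], fun j => by simp [one_apply, apply_ite E.σ], by simp⟩

lemma Nm.rel_tv (h : Nm E) {i j : Fin (m + 1)} (hij : i ≠ j) (t : K) :
    Rel E (tv i j t) (E.xl (ps i) (ps j).rev (E.σ t)) := by
  refine ⟨fun k => ?_, fun k => ?_, fun v hv => by simp [E.ρ_xl (in_ps hij).rev, (B_V0 hv).1]⟩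
  · simp [E.ρ_xl (in_ps hij).rev, h.B_pn, Nm.B_pp, coe_tv hij, one_apply, single_apply, add_smul,
      Finset.sum_add_distrib, ite_and, eq_comm (a := k)]
  · rw [← tv_neg]
    simp [E.ρ_xl (in_ps hij).rev, h.B_np, Nm.B_nn, coe_tv hij, one_apply, single_apply, add_smul,
      Finset.sum_add_distrib, ite_and, eq_comm (a := k), apply_ite E.σ, sub_eq_add_neg,
      mul_right_comm E.ε]

variable (E) in
/-- The embedding of `SL_n`. -/
structure Emb (f : SpecialLinearGroup (Fin (m + 1)) K →* G) : Prop where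
  nm : Nm E
  rel : ∀ g, Rel E g (f g)

theorem Nm.exists_emb (h : Nm E) : ∃ f, Emb E f := by
  choose f hf using H10.SL_transvection_induction (fun g => ∃ x, Rel E g x) ⟨1, rel_one⟩
    (fun i j hij t => ⟨_, tv_eq hij t ▸ h.rel_tv hij t⟩) fun _ _ ⟨_, h1⟩ ⟨_, h2⟩ => ⟨_, h1.mul h2⟩
  exact ⟨MonoidHom.mk' f fun a b => (hf _).uniq ((hf a).mul (hf b)), h, hf⟩

namespace Emb

variable {f : SpecialLinearGroup (Fin (m + 1)) K →* G} (h : Emb E f)
include h

lemma tv {i j : Fin (m + 1)} (hij : i ≠ j) (t : K) :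
    f (tv i j t) = E.xl (ps i) (ps j).rev (E.σ t) := (h.rel _).uniq (h.nm.rel_tv hij t)

lemma entry (g : SpecialLinearGroup (Fin (m + 1)) K) (i j : Fin (m + 1)) :
    E.B (E.ρ (f g) (E.e (ps j))) (E.e (ps i).rev) = g.1 i j := by
  simp [(h.rel g).1, h.nm.B_pn]

lemma inj : Function.Injective f := fun g g' e => Subtype.ext (Matrix.ext fun i j => by
  rw [← h.entry, ← h.entry, e])

lemma V0 (g : SpecialLinearGroup (Fin (m + 1)) K) {v : V} (hv : v ∈ E.V0) : E.ρ (f g) v = v :=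
  (h.rel g).2.2 v hv

lemma mono {g : SpecialLinearGroup (Fin (m + 1)) K} {p : Equiv.Perm (Fin (m + 1))}
    {η : Fin (m + 1) → K} (hg : Mn g p η) : ∃ d, E.Mono (f g) d (lp p) ∧
      (∀ i, d (ps i) = η i) ∧ ∀ i, d (ps i).rev = (E.σ (η i))⁻¹ := by
  refine ⟨fun a => (J.idx a).elim η fun i => (E.σ (η i))⁻¹, fun a => ?_, fun i => by simp [idx_ps],
    fun i => by simp [idx_ps, J.idx_rev]⟩
  rcases ps_or a with ⟨i, rfl⟩ | ⟨i, rfl⟩
  · simp [(h.rel g).1, hg _ _, idx_ps]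
  · simp only [(h.rel g).2.1, hg.inv _ _]
    simp [idx_ps, J.idx_rev, apply_ite E.σ, Equiv.eq_symm_apply]

lemma prod_eq_one {g : SpecialLinearGroup (Fin (m + 1)) K} {d : J m → K} (hg : E.Mono (f g) d 1) :
    ∏ i, d (ps i) = 1 := by
  rw [← det_diagonal, ← g.2]
  congr 1
  ext i j
  rw [← h.entry, hg]
  simp +contextual [h.nm.B_pn, diagonal_apply, eq_comm]

lemma mem_L {i j : Fin (m + 1)} (hij : i ≠ j) (x : G) :
    x ∈ E.L (ps i) (ps j).rev ↔ ∃ t, f (SL.tv i j t) = x :=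
  ⟨fun ⟨t, e⟩ => ⟨E.σ t, by rw [h.tv hij, σ_σ, e]⟩, fun ⟨t, e⟩ => ⟨_, h.tv hij t ▸ e⟩⟩

lemma nd {i j : Fin (m + 1)} (hij : i ≠ j) {ψ : SpecialLinearGroup (Fin 2) K →*
    SpecialLinearGroup (Fin (m + 1)) K} (h0 : Function.Injective ψ) (h1 : ∀ t, ψ (slx t) = SL.tv i j t)
    (h2 : ∀ t, ψ (sly t) = SL.tv j i t) :
    Nd (E.L (ps i) (ps j).rev) (E.L (ps i).rev (ps j)) (f.comp ψ) :=
  ⟨h.inj.comp h0, fun g => by simp [h1, h.mem_L hij], fun g => by
    simp [h2, E.L_comm _ (ps j), h.mem_L hij.symm]⟩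

lemma map_Bl {i j : Fin (m + 1)} (hij : i ≠ j) :
    (Bl K {i, j}).map f = E.L (ps i) (ps j).rev ⊔ E.L (ps i).rev (ps j) := by
  obtain ⟨ψ, h0, h1, h2, h3, -⟩ := exists_blk2 (K := K) hij
  rw [← (h.nd hij h0 h1 h2).range, ← h3, MonoidHom.range_comp]

end Emb

end H6.P6
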