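import Mathlib
import Cfsg.Agent.Lib.Stein.PPrime

/-!
Lifting a root group datum along a homomorphism: subgroups mapping isomorphically onto the root
subgroups and satisfying the commutator relation for all non-opposite pairs form a root group datum.
-/

set_option autoImplicit false

open scoped commutatorElement

namespace H6.P6

open H63.St

variable {Φ I : Type*} {R : Roots Φ I} {G Γ : Type*} [Group G] [Group Γ]

/-- Lifted root subgroups with the commutator relation. -/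
structure Lf (E : Pre R G) (π : Γ →* G) (Y : Φ → Subgroup Γ) : Prop where
  map : ∀ r, (Y r).map π = E.X r
  inj : ∀ r, ∀ y ∈ Y r, π y = 1 → y = 1
  comm : ∀ r s, r ≠ s → s ≠ R.neg r → ∀ x ∈ Y r, ∀ y ∈ Y s, ⁅x, y⁆ ∈ XS Y (R.Itv r s)

/-- The root subgroup is generated by others in some positive system. -/
def NR (E : Pre R G) (r : Φ) : Prop :=
  ∃ v ∈ R.W, R.Pos (v r) ∧ E.X r ≤ XS E.X ({k | R.Pos (v k)} \ {r})

lemma NR.act {E : Pre R G} {r : Φ} (h : NR E r) {w : Equiv.Perm Φ} (hw : w ∈ R.W) :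
    NR E (w r) := by
  obtain ⟨v, hv, h1, h2⟩ := h
  obtain ⟨g, hg⟩ := E.exists_acts hw
  refine ⟨v * w⁻¹, mul_mem hv (inv_mem hw), by simpa using h1, fun x hx => ?_⟩
  have := hg.conj_mem_XS (T := {k | R.Pos ((v * w⁻¹) k)} \ {w r})
    (fun k hk => ⟨by simpa using hk.1, w.injective.ne hk.2⟩) (h2 (by simpa using hg.inv_conj_mem hx))
  simpa [mul_assoc] using this

lemma XS_comp (Y : Φ → Subgroup Γ) (w : Φ → Φ) (S : Set Φ) : XS (Y ∘ w) S = XS Y (w '' S) := by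
  rw [XS, XS, iSup_image]; rfl

lemma eq_of_inj {π : Γ →* G} {A : Subgroup Γ} (h : ∀ y ∈ A, π y = 1 → y = 1) {x y : Γ}
    (hx : x ∈ A) (hy : y ∈ A) (e : π x = π y) : x = y :=
  mul_inv_eq_one.1 (h _ (mul_mem hx (inv_mem hy)) (by simp [e]))

lemma mem_of_inj {π : Γ →* G} {A B : Subgroup Γ} (h : ∀ y ∈ A, π y = 1 → y = 1) (hB : B ≤ A)
    {x : Γ} (hx : x ∈ A) (e : π x ∈ B.map π) : x ∈ B := by
  obtain ⟨y, hy, e⟩ := e
  rwa [← eq_of_inj h (hB hy) hx e]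

namespace Lf

variable {E : Pre R G} {π : Γ →* G} {Y : Φ → Subgroup Γ} (h : Lf E π Y)
include h

lemma mem {r : Φ} {y : Γ} (hy : y ∈ Y r) : π y ∈ E.X r := h.map r ▸ ⟨y, hy, rfl⟩

lemma ex {r : Φ} {x : G} (hx : x ∈ E.X r) : ∃ y ∈ Y r, π y = x := (h.map r).ge hx

lemma twist {g : G} {w : Equiv.Perm Φ} (hg : Acts E.X g w) (hw : w ∈ R.W) :
    Lf E ((MulAut.conj g⁻¹).toMonoidHom.comp π) (Y ∘ w) where
  map r := by
    refine le_antisymm ?_ fun x hx => ?_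
    · rintro _ ⟨y, hy, rfl⟩
      simpa using hg.inv_conj_mem (h.mem hy)
    · obtain ⟨y, hy, e⟩ := h.ex (hg.conj_mem hx)
      exact ⟨y, hy, by simp [e, mul_assoc]⟩
  inj r y hy e := h.inj _ y hy (by simpa [mul_assoc, conj_eq_one_iff] using congrArg (fun a => g * a * g⁻¹) e)
  comm r s h1 h2 x hx y hy := by
    rw [XS_comp]
    refine XS_mono (T := w '' R.Itv r s) (fun k hk => ⟨w⁻¹ k, ?_, by simp⟩)
      (h.comm _ _ (w.injective.ne h1) (Roots.W_neg hw r ▸ w.injective.ne h2) x hx y hy)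
    rw [← Roots.W_itv_iff hw]; simpa using hk

lemma conj_mem {a : Φ} {S : Set Φ} (hS : ∀ s ∈ S, a ≠ s ∧ s ≠ R.neg a ∧ R.Itv a s ⊆ S) {x b : Γ}
    (hx : x ∈ Y a) (hb : b ∈ XS Y S) : x * b * x⁻¹ ∈ XS Y S := by
  refine conj_mem_of_XS hb fun s hs y hy => ?_
  rw [show x * y * x⁻¹ = ⁅x, y⁆ * y by simp [commutatorElement_def]]
  exact mul_mem (XS_mono (hS s hs).2.2 (h.comm _ _ (hS s hs).1 (hS s hs).2.1 x hx y hy)) (mem_XS hs hy)

omit h in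
lemma cl_diff {S : Set Φ} (hS : R.Closed S) {i : I} (hi : R.α i ∈ S) :
    ∀ s ∈ S \ {R.α i}, R.α i ≠ s ∧ s ≠ R.neg (R.α i) ∧ R.Itv (R.α i) s ⊆ S \ {R.α i} := fun s hs =>
  have h1 : R.α i ≠ s := fun e => hs.2 e.symm
  ⟨h1, fun e => R.not_pos_neg_α i (e ▸ hS.1 s hs.1), fun _ hk => ⟨hS.2 _ hi _ hs.1 h1 hk,
    fun e => R.α_not_itv i _ _ (R.pos_α i) (hS.1 s hs.1) h1 ((Set.mem_singleton_iff.1 e) ▸ hk)⟩⟩

variable [Finite Φ]

theorem inj_W (hF : E.Faith) {v : Equiv.Perm Φ} (hv : v ∈ R.W) :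
    ∀ y ∈ XS Y {r | R.Pos (v r)}, π y = 1 → y = 1 := by
  have key : ∀ w ∈ R.W, ∀ (π : Γ →* G) (Y : Φ → Subgroup Γ), Lf E π Y →
      ∀ y ∈ XS Y (R.Inv w), π y = 1 → y = 1 := by
    intro w hw
    refine Roots.W_induction (P := fun w => ∀ (π : Γ →* G) (Y : Φ → Subgroup Γ), Lf E π Y →
      ∀ y ∈ XS Y (R.Inv w), π y = 1 → y = 1) ?_ ?_ hw
    · intro w hw h0 π Y _ y hy _
      rwa [Roots.Inv_eq_empty hw h0, XS_empty] at hy
    · intro w hw i hi ih π Y h y hy h1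
      have hi' : R.α i ∈ R.Inv w := ⟨R.pos_α i, hi⟩
      rw [← Set.insert_sdiff_self_of_mem hi', XS_insert] at hy
      obtain ⟨x, hx, a, ha, rfl⟩ := exists_mul_of_mem_sup
        (fun _ hx _ ha => h.conj_mem (cl_diff (Roots.closed_Inv hw) hi') hx ha) hy
      have h2 : π a ∈ E.U' i := XS_mono (T := {r | R.Pos r} \ {R.α i}) (fun r hr => ⟨hr.1.1, hr.2⟩)
        (map_mem_XS (fun r => (h.map r).le) ha)
      have h3 : π x = (π a)⁻¹ := eq_inv_of_mul_eq_one_left (by rwa [map_mul] at h1)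
      obtain rfl := h.inj _ x hx (hF.eq_one_of_mem_U' (h.mem hx) (h3 ▸ inv_mem h2))
      rw [one_mul] at h1 ⊢
      refine ih _ _ (h.twist (E.acts_n i) (R.σ_mem_W i)) a ?_ (by simp [h1])
      rwa [XS_comp, Roots.Inv_mul_σ hw hi]
  obtain ⟨w, hw, h0⟩ := R.exists_w0
  obtain ⟨g, hg⟩ := E.exists_acts (inv_mem hv)
  intro y hy h1
  refine key w hw _ _ (h.twist hg (inv_mem hv)) y ?_ (by simp [h1])
  rw [XS_comp]
  exact XS_mono (T := _ '' R.Inv w) (fun r hr => ⟨v r, ⟨hr, fun e => (h0 _).1 e hr⟩, by simp⟩) hy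

lemma mem_of_W (hF : E.Faith) {v : Equiv.Perm Φ} (hv : v ∈ R.W) {S : Set Φ}
    (hS : S ⊆ {r | R.Pos (v r)}) {y : Γ} (hy : y ∈ XS Y {r | R.Pos (v r)}) (e : π y ∈ XS E.X S) :
    y ∈ XS Y S :=
  mem_of_inj (h.inj_W hF hv) (XS_mono hS) hy (by rwa [XS_map_eq h.map])

lemma mem_of_W' (hF : E.Faith) {v : Equiv.Perm Φ} (hv : v ∈ R.W) {r : Φ} (hr : R.Pos (v r))
    {y : Γ} (hy : y ∈ XS Y {r | R.Pos (v r)}) (e : π y ∈ E.X r) : y ∈ Y r := by
  simpa [XS_singleton] using h.mem_of_W hF hv (S := {r}) (by simpa) hy (by simpa [XS_singleton])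

omit h in
/-- The rank one hypothesis. -/
def Rk (E : Pre R G) (π : Γ →* G) (Y : Φ → Subgroup Γ) (i : I) : Prop :=
  NR E (R.α i) ∨ ∀ y ∈ Y (R.α i) ⊔ Y (R.neg (R.α i)), π y = 1 → y = 1

theorem acts (hF : E.Faith) {i : I} (hi : Rk E π Y i) {m : Γ}
    (hm : m ∈ Y (R.α i) ⊔ Y (R.neg (R.α i))) (ha : Acts E.X (π m) (R.σ i)) : Acts Y m (R.σ i) := by
  suffices k : ∀ m ∈ Y (R.α i) ⊔ Y (R.neg (R.α i)), Acts E.X (π m) (R.σ i) →
      ∀ r, ∀ x ∈ Y r, m * x * m⁻¹ ∈ Y (R.σ i r) by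
    refine acts_of_conj (k m hm ha) fun r x hx => ?_
    have := k m⁻¹ (inv_mem hm) (by simpa [R.σ_inv] using ha.inv) r x hx
    rwa [inv_inv, ← R.σ_inv] at this
  intro m hm ha
  have c1 := cl_diff R.closed_pos (R.pos_α i)
  have s1 : ∀ s ∈ {r | R.Pos r} \ {R.α i}, R.σ i s ∈ {r | R.Pos r} \ {R.α i} :=
    fun s hs => ⟨R.σ_pos hs.1 hs.2, R.σ_ne_α hs.1⟩
  have c2 : ∀ s ∈ {r | R.Pos r} \ {R.α i}, R.neg (R.α i) ≠ s ∧ s ≠ R.neg (R.neg (R.α i)) ∧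
      R.Itv (R.neg (R.α i)) s ⊆ {r | R.Pos r} \ {R.α i} := fun s hs =>
    ⟨(c1 s hs).2.1.symm, by rw [R.neg_neg]; exact hs.2, fun k hk => by
      have := Roots.W_itv (R.σ_mem_W i) hk
      rw [R.σ_neg_α] at this
      simpa [R.σ_σ] using s1 _ ((c1 _ (s1 s hs)).2.2 this)⟩
  have ng : ∀ {a : Φ} {S : Set Φ}, (∀ s ∈ S, a ≠ s ∧ s ≠ R.neg a ∧ R.Itv a s ⊆ S) →
      ∀ s ∈ R.neg ⁻¹' S, R.neg a ≠ s ∧ s ≠ R.neg (R.neg a) ∧ R.Itv (R.neg a) s ⊆ R.neg ⁻¹' S :=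
    fun {a S} hS s hs => ⟨fun e => (hS _ hs).1 (by rw [← e, R.neg_neg]),
      fun e => (hS _ hs).2.1 (by rw [e, R.neg_neg]), fun k hk => (hS _ hs).2.2 (by
        simpa [R.neg_neg] using R.itv_neg _ _ _ hk)⟩
  have nm : ∀ {S : Set Φ}, (∀ s ∈ S, R.α i ≠ s ∧ s ≠ R.neg (R.α i) ∧ R.Itv (R.α i) s ⊆ S) →
      (∀ s ∈ S, R.neg (R.α i) ≠ s ∧ s ≠ R.neg (R.neg (R.α i)) ∧ R.Itv (R.neg (R.α i)) s ⊆ S) →
      ∀ b ∈ XS Y S, m * b * m⁻¹ ∈ XS Y S := fun h1 h2 b hb =>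
    (Subgroup.mem_normalizer_iff.1 (sup_le (le_normalizer_of_conj fun _ hx _ => h.conj_mem h1 hx)
      (le_normalizer_of_conj fun _ hx _ => h.conj_mem h2 hx) hm) b).1 hb
  have im : ∀ r, ∀ x ∈ Y r, π (m * x * m⁻¹) ∈ E.X (R.σ i r) := fun r x hx => by
    simpa using ha.conj_mem (h.mem hx)
  have k1 : ∀ r, r ≠ R.α i → r ≠ R.neg (R.α i) → ∀ x ∈ Y r, m * x * m⁻¹ ∈ Y (R.σ i r) := by
    intro r h1 h2 x hx
    by_cases hr : R.Pos r
    · have h3 := nm c1 c2 x (mem_XS (r := r) (And.intro hr h1) hx)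
      exact h.mem_of_W' hF (one_mem _) (R.σ_pos hr h1) (XS_mono Set.sdiff_subset h3) (im r x hx)
    obtain ⟨w, hw, h0⟩ := R.exists_w0
    have h3 : R.neg r ∈ {r | R.Pos r} \ {R.α i} :=
      ⟨(R.pos_neg r).2 hr, fun e => h2 (by rw [← Set.mem_singleton_iff.1 e, R.neg_neg])⟩
    have h4 := (s1 _ h3).1
    rw [R.σ_neg] at h4
    have h5 := nm (by simpa only [R.neg_neg] using ng c2) (ng c1) x (mem_XS (r := r) h3 hx)
    exact h.mem_of_W' hF hw ((h0 _).2 ((R.pos_neg _).1 h4))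
      (XS_mono (fun k hk => (h0 _).2 ((R.pos_neg _).1 hk.1)) h5) (im r x hx)
  intro r x hx
  by_cases hr : r ≠ R.α i ∧ r ≠ R.neg (R.α i)
  · exact k1 r hr.1 hr.2 x hx
  have hr' : r = R.α i ∨ r = R.neg (R.α i) := by tauto
  rcases hi with hi | hi
  · obtain ⟨v, hv, h1, h2⟩ : NR E r := by
      rcases hr' with rfl | rfl
      exacts [hi, R.σ_α i ▸ hi.act (R.σ_mem_W i)]
    have h3 := h.mem_of_W hF hv Set.sdiff_subset (mem_XS (r := r) h1 hx) (h2 (h.mem hx))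
    refine h.mem_of_W' hF (mul_mem hv (R.σ_mem_W i)) (by simpa [R.σ_σ] using h1)
      (conj_mem_of_XS h3 fun k hk y hy => ?_) (im r x hx)
    have h4 : k ≠ R.neg r := fun e => (R.pos_neg _).1 (by
      rw [← Roots.W_neg hv, ← e]; exact hk.1) h1
    have h5 : k ≠ r := hk.2
    refine mem_XS (r := R.σ i k) (by simpa [R.σ_σ] using hk.1) (k1 k ?_ ?_ y hy) <;>
      rcases hr' with rfl | rfl
    exacts [h5, R.neg_neg (R.α i) ▸ h4, h4, h5]
  · have k : ∀ r, r = R.α i ∨ r = R.neg (R.α i) → Y r ≤ Y (R.α i) ⊔ Y (R.neg (R.α i)) := by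
      rintro _ (rfl | rfl)
      exacts [le_sup_left, le_sup_right]
    refine mem_of_inj hi (k _ ?_) (mul_mem (mul_mem hm (k r hr' hx)) (inv_mem hm))
      (h.map _ ▸ im r x hx)
    rcases hr' with rfl | rfl <;> simp [R.σ_α, R.σ_neg, R.neg_neg]

end Lf

section rgd

variable [Finite Φ] {E : RGD R G} {π : Γ →* G} {Y : Φ → Subgroup Γ} (h : Lf E.toPre π Y)
  (hF : E.Faith) (hi : ∀ i, Lf.Rk E.toPre π Y i)
include h hF hi

lemma Lf.exists_M {i : I} {x : Γ} (hx : x ∈ Y (R.α i)) (h1 : x ≠ 1) :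
    ∃ u ∈ Y (R.neg (R.α i)), ∃ u' ∈ Y (R.neg (R.α i)), Acts Y (u * x * u') (R.σ i) := by
  obtain ⟨_, hv, _, hv', ha⟩ := E.rgd2 i _ (h.mem hx) fun e => h1 (h.inj _ x hx e)
  obtain ⟨u, hu, rfl⟩ := h.ex hv
  obtain ⟨u', hu', rfl⟩ := h.ex hv'
  exact ⟨u, hu, u', hu', h.acts hF (hi i) (mul_mem (mul_mem (Subgroup.mem_sup_right hu)
    (Subgroup.mem_sup_left hx)) (Subgroup.mem_sup_right hu')) (by simpa using ha)⟩

lemma Lf.exists_n (i : I) : ∃ n, Acts Y n (R.σ i) ∧ ∃ x ∈ Y (R.α i), x ≠ 1 ∧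
    ∃ u ∈ Y (R.neg (R.α i)), ∃ u' ∈ Y (R.neg (R.α i)), n = u * x * u' := by
  obtain ⟨_, hy, h1⟩ := E.exists_ne_one i
  obtain ⟨x, hx, rfl⟩ := h.ex hy
  have h2 : x ≠ 1 := by rintro rfl; simp at h1
  obtain ⟨u, hu, u', hu', ha⟩ := h.exists_M hF hi hx h2
  exact ⟨_, ha, x, hx, h2, u, hu, u', hu', rfl⟩

/-- The lifted root group datum. -/
noncomputable def Lf.rgd : RGD R Γ where
  X := Y
  comm r s hr hs hrs := h.comm r s hrs fun e => (R.pos_neg r).1 (e ▸ hs) hr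
  n i := (h.exists_n hF hi i).choose
  n_acts i := (h.exists_n hF hi i).choose_spec.1
  n_mem i := (h.exists_n hF hi i).choose_spec
  rgd2 _ _ hx h1 := h.exists_M hF hi hx h1

lemma Lf.faith : (h.rgd hF hi).Faith := fun g h1 h2 =>
  h.inj_W hF (one_mem _) g h1 (hF _ (map_mem_XS (fun r => (h.map r).le) h1)
    (map_mem_XS (fun r => (h.map r).le) h2))

/-- Nodes lift. -/
theorem Lf.exists_node {i : I} {K : Type*} [Field K] (S : Node E.toPre i K) :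
    ∃ S' : Node (h.rgd hF hi).toPre i K, (∀ t, π (S'.x t) = S.x t) ∧ ∀ t, π (S'.y t) = S.y t := by
  choose x hx hx' using fun t => h.ex ((S.mem_x _).2 ⟨t, rfl⟩)
  choose y hy hy' using fun t => h.ex ((S.mem_y _).2 ⟨t, rfl⟩)
  have ha : ∀ t : K, t ≠ 0 → Acts Y (x t * y (-t⁻¹) * x t) (R.σ i) := fun t ht =>
    h.acts hF (hi i) (mul_mem (mul_mem (Subgroup.mem_sup_right (hx _))
      (Subgroup.mem_sup_left (hy _))) (Subgroup.mem_sup_right (hx _)))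
      (by simpa [hx', hy', SL2Rel.w] using S.acts t ht)
  refine ⟨{ x := x, y := y, x_add := fun a b => ?_, y_add := fun a b => ?_, rel := fun t ht u => ?_
            mem_x := fun g => ⟨fun hg => ?_, ?_⟩, mem_y := fun g => ⟨fun hg => ?_, ?_⟩
            y_ne := fun t ht e => S.y_ne t ht (by rw [← hy', e, map_one]), acts := ha }, hx', hy'⟩
  · exact eq_of_inj (h.inj _) (mul_mem (hx a) (hx b)) (hx _) (by simp [hx', S.x_add])
  · exact eq_of_inj (h.inj _) (mul_mem (hy a) (hy b)) (hy _) (by simp [hy', S.y_add])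
  · have := (ha t ht).conj_mem (hx u)
    rw [R.σ_neg_α] at this
    refine eq_of_inj (h.inj _) this (hy _) ?_
    simp only [map_mul, map_inv, hx', hy']
    exact S.rel t ht u
  · obtain ⟨t, ht⟩ := (S.mem_x _).1 (h.mem hg)
    exact ⟨t, eq_of_inj (h.inj _) (hx t) hg ((hx' t).trans ht)⟩
  · rintro ⟨t, rfl⟩; exact hx t
  · obtain ⟨t, ht⟩ := (S.mem_y _).1 (h.mem hg)
    exact ⟨t, eq_of_inj (h.inj _) (hy t) hg ((hy' t).trans ht)⟩
  · rintro ⟨t, rfl⟩; exact hy t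

/-- The kernel is controlled by a subgroup on which `π` is injective and one more node. -/
theorem Lf.eq_one {D : Subgroup Γ} (hD : ∀ y ∈ D, π y = 1 → y = 1) {i : I}
    (h1 : ∀ j, j ≠ i → Y (R.α j) ⊔ Y (R.neg (R.α j)) ≤ D) {K : Type*} [Field K] [Finite K]
    (S : Node (h.rgd hF hi).toPre i K) (h2 : ∀ c, c ≠ 0 → π (S.h c) ∈ D.map π → S.h c ∈ D) {g : Γ}
    (hg : g ∈ XS Y Set.univ) (e : π g = 1) : g = 1 := by
  have h3 := RGD.mem_H0_of_map (E := h.rgd hF hi) hF h.map h.inj hg (e ▸ one_mem _)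
  have h4 : (h.rgd hF hi).H0 ≤ (D ⊓ torus Y) ⊔ (h.rgd hF hi).T i := iSup_le fun j => by
    by_cases hj : j = i
    · exact hj ▸ le_sup_right
    refine le_sup_of_le_left (le_inf ?_ (Pre.T_le_torus j))
    have k : ∀ m ∈ (h.rgd hF hi).M j, m ∈ D := by
      rintro _ ⟨-, x, hx, -, u, hu, u', hu', rfl⟩
      exact h1 j hj (mul_mem (mul_mem (Subgroup.mem_sup_right hu) (Subgroup.mem_sup_left hx))
        (Subgroup.mem_sup_right hu'))
    rw [Pre.T, Subgroup.closure_le]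
    rintro _ ⟨m, hm, m', hm', rfl⟩
    exact mul_mem (k m hm) (k m' hm')
  obtain ⟨a, ha, t, ht, rfl⟩ := exists_mul_of_mem_sup (H := D ⊓ torus Y)
    (fun _ ha _ ht => Pre.torus_conj_T (E := (h.rgd hF hi).toPre) ha.2 ht) (h4 h3)
  rw [S.T_eq (h.faith hF hi)] at ht
  obtain ⟨c, rfl⟩ := ht
  exact hD _ (mul_mem ha.1 (h2 c c.ne_zero ⟨a⁻¹, inv_mem ha.1, by
    rw [map_inv, inv_eq_iff_mul_eq_one, ← map_mul]; exact e⟩)) e

/-- The kernel is central. -/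
theorem Lf.ce (h1 : XS Y Set.univ = ⊤) (h2 : E.Gp = ⊤) : CE π where
  surj := by rw [← MonoidHom.range_eq_top, MonoidHom.range_eq_map, ← h1, XS_map_eq h.map]; exact h2
  cen g hg := Subgroup.mem_center_iff.2 fun a => RGD.comm_of_map_eq_one (E := h.rgd hF hi) hF h.map
    h.inj (h1.ge (Subgroup.mem_top g)) hg (h1.ge (Subgroup.mem_top a))

theorem Lf.goodLift (hc : CE π) : GoodLift hc E.toPre Y where
  map := h.map
  inj := h.inj
  nact i r y hy := by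
    obtain ⟨m, hm, e⟩ := RGD.exists_M_map (E' := h.rgd hF hi) hF h.map (E.n_mem i)
    rw [← e, ← map_inv, hc.act_map, hc.act_map]
    exact ⟨hm.1.conj_mem hy, (Pre.M_inv hm).1.conj_mem hy⟩
  good r s hr hs hrs _ hx' _ hy' := by
    obtain ⟨x, hx, rfl⟩ := h.ex hx'
    obtain ⟨y, hy, rfl⟩ := h.ex hy'
    rw [hc.cc_map]
    exact (h.rgd hF hi).comm_mem hr hs hrs hx hy

end rgd

end H6.P6
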