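import Mathlib
import Cfsg.Agent.Lib.Pres6.Emb
import Cfsg.Agent.Lib.Pres6.CT
import Cfsg.Agent.Lib.Pres6.Lift

/-!
Lifted root subgroups for groups with Eichler transformations: transport by the Weyl group, the
commutator relations, and the Curtis–Tits theorem over a lift of `SL_n`.
-/

set_option autoImplicit false

open scoped commutatorElement

namespace H6.P6

open H63.St H63.St.Eich H63.St.SL Matrix H77.Pres H64.St2

variable {m : ℕ} {s : Bool} {hs : s = false → 1 ≤ m}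

variable (hs) in
/-- Permutations of the indices induced by the Weyl group. -/
def PW (τ : Equiv.Perm (J m)) : Prop :=
  (∀ a, τ a.rev = (τ a).rev) ∧ ∃ w ∈ (VC s m hs).toRoots.W, ∀ r, (w r).1 = r.1.map τ

lemma pw_one : PW hs 1 := ⟨fun _ => rfl, 1, one_mem _, fun r => by simp⟩

lemma PW.mul {τ τ' : Equiv.Perm (J m)} (h : PW hs τ) (h' : PW hs τ') : PW hs (τ * τ') := by
  obtain ⟨h1, w, hw, h2⟩ := h
  obtain ⟨h1', w', hw', h2'⟩ := h'
  exact ⟨fun a => by simp [h1, h1'], _, mul_mem hw hw', fun r => by simp [h2, h2', Sym2.map_map]⟩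

lemma pw_τp {a b : J m} (h : Ok s s(a, b)) : PW hs (VC.τp a b) := by
  refine ⟨VC.τ_rev a b, _, ?_, VC.refl_mk (hs := hs) h⟩
  obtain ⟨w, hw, i, e⟩ := (VC s m hs).toRoots.exists_W_α ⟨_, h⟩
  obtain ⟨L, rfl⟩ := Roots.exists_wp hw
  change (VC s m hs).toRoots.refl ⟨_, h⟩ ∈ _
  rw [← e, refl_wp]
  exact Roots.wp_mem_W _ _

lemma PW.in_map {τ : Equiv.Perm (J m)} (h : PW hs τ) {a b : J m} (h1 : In a b) : In (τ a) (τ b) :=
  ⟨τ.injective.ne h1.1, h.1 a ▸ τ.injective.ne h1.2⟩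

lemma step (L : List (J m)) {a x : J m} (ha : ∀ c ∈ L, In c a) (hx : ∀ c ∈ L, In c x) :
    ∃ τ, PW hs τ ∧ (∀ c ∈ L, τ c = c) ∧ (τ a = x ∨ s = false ∧ m ≤ L.length ∧ τ a = x.rev) := by
  have k : ∀ {a x : J m}, (∀ c ∈ L, In c a) → (∀ c ∈ L, In c x) → Ok s s(a, x.rev) →
      PW hs (VC.τp a x.rev) ∧ (∀ c ∈ L, VC.τp a x.rev c = c) ∧ VC.τp a x.rev a = x :=
    fun ha hx h => ⟨pw_τp h, fun c hc => VC.τ_in (ha c hc).symm (hx c hc).rev.symm, by simp⟩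
  rcases VC.in_cases x a with rfl | rfl | e
  · exact ⟨1, pw_one, fun _ _ => rfl, Or.inl rfl⟩
  · by_cases h : s = false ∧ m ≤ L.length
    · exact ⟨1, pw_one, fun _ _ => rfl, Or.inr ⟨h.1, h.2, rfl⟩⟩
    cases s
    · obtain ⟨d, hd⟩ := J.exists_in (x :: L) (by simp at h ⊢; omega)
      have h1 := hd x (by simp)
      have h2 : ∀ c ∈ L, In c d := fun c hc => hd c (by simp [hc])
      obtain ⟨a1, a2, a3⟩ := k ha h2 h1.rev.rev'.ok
      obtain ⟨b1, b2, b3⟩ := k h2 hx h1.symm.rev.ok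
      exact ⟨_, b1.mul a1, fun c hc => by rw [Equiv.Perm.mul_apply, a2 c hc, b2 c hc],
        Or.inl (by rw [Equiv.Perm.mul_apply, a3, b3])⟩
    · exact ⟨_, (k ha hx (ok_diag _)).imp_right (And.imp_right Or.inl)⟩
  · exact ⟨_, (k ha hx e.symm.rev.ok).imp_right (And.imp_right Or.inl)⟩

lemma mov (p : J m × J m) (L : List (J m × J m))
    (h : (p :: L).Pairwise fun p q => In p.1 q.1 ∧ In p.2 q.2) (hL : s = false → L.length ≤ m) :
    ∃ τ, PW hs τ ∧ (∀ q ∈ L, τ q.1 = q.2) ∧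
      (τ p.1 = p.2 ∨ s = false ∧ m ≤ L.length ∧ τ p.1 = p.2.rev) := by
  obtain ⟨τ, h1, h2⟩ : ∃ τ, PW hs τ ∧ ∀ q ∈ L, τ q.1 = q.2 := by
    cases L with
    | nil => exact ⟨1, pw_one, by simp⟩
    | cons q L =>
      obtain ⟨τ, h1, h2, h3⟩ := mov q L h.of_cons fun e => by have := hL e; simp at this; omega
      refine ⟨τ, h1, List.forall_mem_cons.2 ⟨h3.resolve_right fun e => ?_, h2⟩⟩
      have := hL e.1; simp at this; omega
  have h3 := (List.pairwise_cons.1 h).1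
  obtain ⟨τ', h4, h5, h6⟩ := step (hs := hs) (L.map Prod.snd) (a := τ p.1) (x := p.2)
    (List.forall_mem_map.2 fun q hq => h2 q hq ▸ h1.in_map (h3 q hq).1.symm)
    (List.forall_mem_map.2 fun q hq => (h3 q hq).2.symm)
  exact ⟨_, h4.mul h1, fun q hq => by
    rw [Equiv.Perm.mul_apply, h2 q hq, h5 _ (List.mem_map_of_mem hq)], by simpa using h6⟩

lemma two_le {a b c : J m} (h1 : In a b) (h2 : In a c) (h3 : In b c) : 2 ≤ m := by
  simp only [In.iff] at *; omega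

lemma three_le {a b c d : J m} (h1 : In a b) (h2 : In a c) (h3 : In a d) (h4 : In b c) (h5 : In b d)
    (h6 : In c d) : 3 ≤ m := by
  simp only [In.iff] at *; omega

lemma all2 {P : J m → J m → Prop} (hP : ∀ τ, PW hs τ → ∀ a b, In a b → P (τ a) (τ b) → P a b)
    {x y : J m} (h : In x y) (h1 : P x y) (h2 : s = false → 2 ≤ m) (a b : J m) (hab : In a b) :
    P a b := by
  obtain ⟨τ, h3, h4, h5⟩ := mov (hs := hs) (b, y) [(a, x)] (by simp [hab.symm, h.symm]) hs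
  refine hP τ h3 a b hab ?_
  rcases h5 with h5 | h5
  · simp_all
  · have := h2 h5.1; simp at h5; omega

lemma all3 {P : J m → J m → J m → Prop}
    (hP : ∀ τ, PW hs τ → ∀ a b c, In a b → In a c → In b c → P (τ a) (τ b) (τ c) → P a b c)
    (h : 2 ≤ m → ∃ x y z, In x y ∧ In x z ∧ In y z ∧ P x y z ∧ (s = false → P x y z.rev))
    (a b c : J m) (h1 : In a b) (h2 : In a c) (h3 : In b c) : P a b c := by
  obtain ⟨x, y, z, k1, k2, k3, k4, k5⟩ := h (two_le h1 h2 h3)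
  obtain ⟨τ, h4, h5, h6⟩ := mov (hs := hs) (c, z) [(a, x), (b, y)]
    (by simp [h1, h2.symm, h3.symm, k1, k2.symm, k3.symm]) fun _ => two_le h1 h2 h3
  refine hP τ h4 a b c h1 h2 h3 ?_
  rcases h6 with h6 | h6 <;> simp_all

lemma all4 {P : J m → J m → J m → J m → Prop}
    (hP : ∀ τ, PW hs τ → ∀ a b c d, In a b → In c d → P (τ a) (τ b) (τ c) (τ d) → P a b c d)
    (h : 3 ≤ m → ∃ x y z u, In x y ∧ In x z ∧ In x u ∧ In y z ∧ In y u ∧ In z u ∧ P x y z u ∧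
      (s = false → P x y z u.rev)) (a b c d : J m) (h1 : In a b) (h2 : In a c) (h3 : In a d)
    (h4 : In b c) (h5 : In b d) (h6 : In c d) : P a b c d := by
  have h0 := three_le h1 h2 h3 h4 h5 h6
  obtain ⟨x, y, z, u, k1, k2, k3, k4, k5, k6, k7, k8⟩ := h h0
  obtain ⟨τ, h7, h8, h9⟩ := mov (hs := hs) (d, u) [(a, x), (b, y), (c, z)]
    (by simp [h1, h2, h4, h3.symm, h5.symm, h6.symm, k1, k2, k4, k3.symm, k5.symm, k6.symm])
    fun _ => h0
  refine hP τ h7 a b c d h1 h6 ?_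
  rcases h9 with h9 | h9 <;> simp_all

variable {K V G Γ : Type*} [Field K] [AddCommGroup V] [Module K V] [Group G] [Group Γ]
  {E : Eich m K V G} {π : Γ →* G}

/-- The commutators of `A` and `B` lie in `C`. -/
def Cm (A B C : Subgroup Γ) : Prop := ∀ x ∈ A, ∀ y ∈ B, ⁅x, y⁆ ∈ C

lemma Cm.of_conj {A B C A' B' C' : Subgroup Γ} (h : Cm A' B' C') {g : Γ} (hA : Cj g A A')
    (hB : Cj g B B') (hC : Cj g⁻¹ C' C) : Cm A B C := fun x hx y hy => by
  simpa [commutatorElement_def, mul_assoc] using hC _ (h _ (hA x hx) _ (hB y hy))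

lemma Cm.symm {A B C : Subgroup Γ} (h : Cm A B C) : Cm B A C := fun x hx y hy =>
  commutatorElement_inv y x ▸ inv_mem (h y hy x hx)

lemma Cm.mono {A B C A' B' C' : Subgroup Γ} (h : Cm A B C) (h1 : A' ≤ A) (h2 : B' ≤ B)
    (h3 : C ≤ C') : Cm A' B' C' := fun x hx y hy => h3 (h x (h1 hx) y (h2 hy))

lemma Cm.commute {A B : Subgroup Γ} (h : Cm A B ⊥) {x y : Γ} (hx : x ∈ A) (hy : y ∈ B) :
    Commute x y := commutatorElement_eq_one_iff_commute.1 (h x hx y hy)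

lemma cm_bot {A B : Subgroup Γ} (h : ∀ x ∈ A, ∀ y ∈ B, Commute x y) : Cm A B ⊥ :=
  fun x hx y hy => (h x hx y hy).commutator_eq

lemma Cm.of_inj {A B C D : Subgroup Γ} (hD : ∀ y ∈ D, π y = 1 → y = 1) (hA : A ≤ D) (hB : B ≤ D)
    (hC : C ≤ D) (h : Cm (A.map π) (B.map π) (C.map π)) : Cm A B C := fun x hx y hy =>
  mem_of_inj hD hC (commutatorElement_def x y ▸ mul_mem (mul_mem (mul_mem (hA hx) (hB hy))
    (inv_mem (hA hx))) (inv_mem (hB hy)))
    (map_commutatorElement π x y ▸ h _ ⟨x, hx, rfl⟩ _ ⟨y, hy, rfl⟩)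

lemma cj_bot (g : Γ) : Cj g ⊥ ⊥ := by rintro _ rfl; simp

lemma Cj.sup {g : Γ} {A B C : Subgroup Γ} (h : Cj g A C) (h' : Cj g B C) : Cj g (A ⊔ B) C :=
  show A ⊔ B ≤ C.comap (MulAut.conj g).toMonoidHom from sup_le h h'

lemma Cj.mono {g : Γ} {A B A' B' : Subgroup Γ} (h : Cj g A B) (h1 : A' ≤ A) (h2 : B ≤ B') :
    Cj g A' B' := fun y hy => h2 (h y (h1 hy))

lemma Cj.sup' {g : Γ} {A B A' B' : Subgroup Γ} (h : Cj g A A') (h' : Cj g B B') :
    Cj g (A ⊔ B) (A' ⊔ B') := (h.mono le_rfl le_sup_left).sup (h'.mono le_rfl le_sup_right)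

lemma Cj.le {g : Γ} {A B D : Subgroup Γ} (h : Cj g A B) (hg : g ∈ D) (hB : B ≤ D) : A ≤ D :=
  fun y hy => by simpa [mul_assoc] using mul_mem (mul_mem (inv_mem hg) (hB (h y hy))) hg

lemma Cj.of_inj {g : Γ} {A B D : Subgroup Γ} (hD : ∀ y ∈ D, π y = 1 → y = 1) (h : Cj g A D)
    (hB : B ≤ D) (h' : Cj (π g) (A.map π) (B.map π)) : Cj g A B := fun y hy =>
  mem_of_inj hD hB (h y hy) (by simpa using h' _ ⟨y, hy, rfl⟩)

variable (E π s) in
/-- Lifted root subgroups. -/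
structure LZ (Z : Sym2 (J m) → Subgroup Γ) : Prop where
  map : ∀ z, Ok s z → (Z z).map π = E.Xz z
  inj : ∀ z, Ok s z → ∀ y ∈ Z z, π y = 1 → y = 1

variable (s) in
/-- `g` permutes the lifted root subgroups as `τ`. -/
def Mv (Z : Sym2 (J m) → Subgroup Γ) (g : Γ) (τ : Equiv.Perm (J m)) : Prop :=
  ∀ a b, Ok s s(a, b) → Cj g (Z s(a, b)) (Z s(τ a, τ b)) ∧ Cj g⁻¹ (Z s(τ a, τ b)) (Z s(a, b))

variable {Z : Sym2 (J m) → Subgroup Γ}

lemma LZ.mapL (h : LZ s E π Z) {a b : J m} (h1 : In a b) : (Z s(a, b)).map π = E.L a b :=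
  (h.map _ h1.ok).trans (E.Xz_L h1)

lemma LZ.mapS (h : LZ true E π Z) (a : J m) : (Z s(a, a)).map π = E.S a :=
  (h.map _ (ok_diag a)).trans (E.Xz_S a)

/-- The commutator relations between long root subgroups. -/
structure RL (Z : Sym2 (J m) → Subgroup Γ) : Prop where
  c60 : ∀ a b c, In a b → In a c → In b c → Cm (Z s(a, b)) (Z s(a, c)) ⊥
  c120 : ∀ a b c, In a b → In a c → In b c → Cm (Z s(a, b)) (Z s(b.rev, c)) (Z s(a, c))
  c90 : ∀ a b c d, In a b → In a c → In a d → In b c → In b d → In c d →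
    Cm (Z s(a, b)) (Z s(c, d)) ⊥

/-- The commutator relations involving short root subgroups. -/
structure RS (Z : Sym2 (J m) → Subgroup Γ) : Prop where
  c90b : ∀ a b, In a b → Cm (Z s(a, b)) (Z s(a, b.rev)) (Z s(a, a))
  c45 : ∀ a b, In a b → Cm (Z s(a, b)) (Z s(a, a)) ⊥
  c90S : ∀ a b c, In a b → In a c → In b c → Cm (Z s(a, b)) (Z s(c, c)) ⊥
  c135 : ∀ a b, In a b → Cm (Z s(a, b)) (Z s(b.rev, b.rev)) (Z s(a, a) ⊔ Z s(a, b.rev))
  cSS : ∀ a b, In a b → Cm (Z s(a, a)) (Z s(b, b)) (Z s(a, b))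

theorem LZ.lf (h : LZ s E π Z) (H : E.Hyp s) (h1 : RL Z) (h2 : s = true → RS Z)
    (h3 : s = false → ∀ a b, In a b → Cm (Z s(a, b)) (Z s(a, b.rev)) ⊥) :
    Lf H.rgd.toPre π fun r => Z r.1 where
  map r := h.map _ r.2
  inj r := h.inj _ r.2
  comm r r' e1 e2 := by
    refine VC.pair_cases (s := s) (P := fun z w => ∀ hz hw, Cm (Z z) (Z w)
      (XS (fun r : PR s m => Z r.1) ((VC s m H.le).Itv ⟨z, hz⟩ ⟨w, hw⟩))) ?_ ?_ ?_ ?_ ?_ ?_ ?_ ?_ ?_ r.2 r'.2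
      (fun e => e1 (Subtype.ext e)) (fun e => e2 (Subtype.ext e)) r.2 r'.2
    · exact fun z w h hw hz => (h hz hw).symm.mono le_rfl le_rfl
        (XS_mono fun k => (VC s m H.le).toRoots.itv_symm _ _ k)
    · exact fun a b c k1 k2 k3 _ _ => (h1.c60 a b c k1 k2 k3).mono le_rfl le_rfl bot_le
    · exact fun a b c k1 k2 k3 _ _ => (h1.c120 a b c k1 k2 k3).mono le_rfl le_rfl
        (le_XS (X := fun r : PR s m => Z r.1) (VC.itv120 k1 k3 k2))
    · exact fun a b c d k1 k2 k3 k4 k5 k6 _ _ =>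
        (h1.c90 a b c d k1 k2 k3 k4 k5 k6).mono le_rfl le_rfl bot_le
    · intro a b k _ _
      cases s
      · exact (h3 rfl a b k).mono le_rfl le_rfl bot_le
      · exact ((h2 rfl).c90b a b k).mono le_rfl le_rfl 
          (le_XS (X := fun r : PR true m => Z r.1) (VC.itv90b k))
    · exact fun e a b k _ _ => ((h2 e).c45 a b k).mono le_rfl le_rfl bot_le
    · exact fun e a b c k1 k2 k3 _ _ => ((h2 e).c90S a b c k1 k2 k3).mono le_rfl le_rfl bot_le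
    · rintro rfl a b k _ _
      exact ((h2 rfl).c135 a b k).mono le_rfl le_rfl
        (sup_le (le_XS (X := fun r : PR true m => Z r.1) (VC.itv135' k))
          (le_XS (X := fun r : PR true m => Z r.1) (VC.itv135 k)))
    · rintro rfl a b k _ _
      exact ((h2 rfl).cSS a b k).mono le_rfl le_rfl 
        (le_XS (X := fun r : PR true m => Z r.1) (VC.itvSS k))

theorem exists_Z {A : Fin (m + 1) → Subgroup Γ} (h : CT (VC s m hs).toRoots (E.X s) π A) :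
    ∃ Z, LZ s E π Z ∧ (∀ i, ∀ g ∈ A i, Acts (E.X s) (π g) ((VC s m hs).toRoots.σ i) →
      Mv s Z g (VC.τp (VC.α1 s i) (VC.α2 i))) ∧ (∀ τ, PW hs τ → ∃ g, Mv s Z g τ) ∧
      ∀ i, Z s(VC.α1 s i, VC.α2 i) ⊔ Z s((VC.α1 s i).rev, (VC.α2 i).rev) = A i := by
  classical
  obtain ⟨Y, h1, h2, h3, h4⟩ := h.exists_Y
  have k : ∀ {g w} {τ : Equiv.Perm (J m)}, Acts Y g w → (∀ r, (w r).1 = r.1.map τ) →
      Mv s (fun z => if h : Ok s z then Y ⟨z, h⟩ else ⊥) g τ := fun {g w τ} a1 a2 a b hz => by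
    have e : w ⟨_, hz⟩ = ⟨s(τ a, τ b), (a2 ⟨_, hz⟩ ▸ (w ⟨_, hz⟩).2 :)⟩ := Subtype.ext (a2 _)
    have e' : Ok s s(τ a, τ b) := (a2 ⟨_, hz⟩ ▸ (w ⟨_, hz⟩).2 :)
    simp only [dif_pos hz, dif_pos e', ← e]
    exact ⟨fun y hy => a1.conj_mem hy, fun y hy => by simpa using a1.inv_conj_mem hy⟩
  refine ⟨fun z => if h : Ok s z then Y ⟨z, h⟩ else ⊥, ⟨fun z hz => ?_, fun z hz => ?_⟩,
    fun i g a1 a2 => k (h3 i g a1 a2) (VC.refl_mk _), ?_, fun i => ?_⟩
  · rw [dif_pos hz]; exact h1 _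
  · rw [dif_pos hz]; exact h2 _
  · rintro τ ⟨-, w, hw, e⟩
    obtain ⟨L, rfl⟩ := Roots.exists_wp hw
    suffices ∃ g, Acts Y g ((VC s m hs).toRoots.wp L) from this.imp fun g hg => k hg e
    clear hw e
    induction L with
    | nil => exact ⟨1, acts_one⟩
    | cons i L ih =>
      obtain ⟨g, hg⟩ := ih
      obtain ⟨n, a1, a2⟩ := h.ex i
      exact ⟨_, Roots.wp_cons _ i L ▸ (h3 i n a1 a2).mul hg⟩
  · rw [← h4 i]
    exact congrArg₂ _ (dif_pos ((VC s m hs).α i).2) (dif_pos ((VC s m hs).neg ((VC s m hs).α i)).2)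

end H6.P6
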