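import Mathlib
import Cfsg.Agent.Lib.Pres.Basic
import Cfsg.Agent.Lib.Pres6.Mov

/-!
Counting relators: `Cost f n C` says that at most `n` elements of the kernel of `f` force the
property `C` in every quotient killing them.
-/

set_option autoImplicit false

open scoped commutatorElement

namespace H6.P6

open H40 Monoid

universe u v

variable {P : Type u} {G : Type v} [Group P] [Group G] {f : P →* G}

/-- Properties of homomorphisms out of `P`. -/
abbrev Cd (P : Type u) [Group P] := ∀ (J : Type u) [Group J], (P →* J) → Prop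

variable (f) in
/-- At most `n` relators force `C`. -/
def Cost (n : ℕ) (C : Cd P) : Prop :=
  ∃ R : List P, R.length ≤ n ∧ (∀ w ∈ R, f w = 1) ∧
    ∀ (J : Type u) [Group J] (q : P →* J), (∀ w ∈ R, q w = 1) → C J q

namespace Cost

variable {n n' : ℕ} {C C' : Cd P}

lemma and (h : Cost f n C) (h' : Cost f n' C') : Cost f (n + n') fun J _ q => C J q ∧ C' J q := by
  obtain ⟨R, h1, h2, h3⟩ := h
  obtain ⟨R', h1', h2', h3'⟩ := h'
  exact ⟨R ++ R', by simp; omega, List.forall_mem_append.2 ⟨h2, h2'⟩, fun J _ q hq =>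
    ⟨h3 J q (List.forall_mem_append.1 hq).1, h3' J q (List.forall_mem_append.1 hq).2⟩⟩

lemma imp (h : Cost f n C) (h' : ∀ (J : Type u) [Group J] (q : P →* J), C J q → C' J q) :
    Cost f n C' := by
  obtain ⟨R, h1, h2, h3⟩ := h
  exact ⟨R, h1, h2, fun J _ q hq => h' J q (h3 J q hq)⟩

lemma le (h : Cost f n C) (h' : n ≤ n') : Cost f n' C := by
  obtain ⟨R, h1, h2⟩ := h
  exact ⟨R, h1.trans h', h2⟩

lemma zero (h : ∀ (J : Type u) [Group J] (q : P →* J), C J q) : Cost f n C :=
  ⟨[], by simp, by simp, fun J _ q _ => h J q⟩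

lemma eq {x y : P} (h : f x = f y) : Cost f 1 fun _ _ q => q x = q y :=
  ⟨[x * y⁻¹], le_rfl, by simp [h], fun J _ q hq => by simpa [mul_inv_eq_one] using hq⟩

lemma mem {x : P} {H : Subgroup P} (h : f x ∈ H.map f) : Cost f 1 fun _ _ q => q x ∈ H.map q := by
  obtain ⟨y, hy, e⟩ := h
  exact (eq e).imp fun J _ q hq => ⟨y, hy, hq⟩

lemma list {α : Type*} (L : List α) {C : α → Cd P} (h : ∀ a ∈ L, Cost f n (C a)) :
    Cost f (L.length * n) fun J _ q => ∀ a ∈ L, C a J q := by
  induction L with
  | nil => exact zero (by simp)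
  | cons a L ih =>
    rw [List.forall_mem_cons] at h
    exact ((h.1.and (ih h.2)).imp fun J _ q hq => List.forall_mem_cons.2 hq).le
      (by simp [add_mul, add_comm])

lemma cj {g : P} {A B : Subgroup P} (L : List P) (hL : Subgroup.closure {x | x ∈ L} = A)
    (h : Cj (f g) (A.map f) (B.map f)) :
    Cost f L.length fun _ _ q => Cj (q g) (A.map q) (B.map q) := by
  refine ((list L fun a ha => mem (x := g * a * g⁻¹) (H := B) ?_).imp fun J _ q hq => ?_).le
    (mul_one _).le
  · simpa using h _ ⟨a, hL ▸ Subgroup.subset_closure ha, rfl⟩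
  · change A.map q ≤ (B.map q).comap (MulAut.conj (q g)).toMonoidHom
    rw [← hL, MonoidHom.map_closure, Subgroup.closure_le]
    rintro _ ⟨a, ha, rfl⟩
    simpa using hq a ha

lemma comm {x y : P} (h : Commute (f x) (f y)) : Cost f 1 fun _ _ q => Commute (q x) (q y) :=
  (eq (x := x * y) (y := y * x) (by simpa using h.eq)).imp fun J _ q hq => by
    simpa [commute_iff_eq] using hq

lemma comm1 {x : P} {B : Subgroup P} (L : List P) (hL : Subgroup.closure {x | x ∈ L} = B)
    (h : ∀ y ∈ B, Commute (f x) (f y)) :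
    Cost f L.length fun _ _ q => ∀ y ∈ B.map q, Commute (q x) y := by
  refine ((list L fun a ha => comm (h a (hL ▸ Subgroup.subset_closure ha))).imp
    fun J _ q hq => ?_).le (mul_one _).le
  have : B.map q ≤ Subgroup.centralizer {q x} := by
    rw [← hL, MonoidHom.map_closure, Subgroup.closure_le]
    rintro _ ⟨a, ha, rfl⟩
    exact Subgroup.mem_centralizer_singleton_iff.2 (hq a ha).symm
  exact fun y hy => (Subgroup.mem_centralizer_singleton_iff.1 (this hy)).symm

lemma cm {A B : Subgroup P} (L L' : List P) (hL : Subgroup.closure {x | x ∈ L} = A)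
    (hL' : Subgroup.closure {x | x ∈ L'} = B) (h : Cm (A.map f) (B.map f) ⊥) :
    Cost f (L.length * L'.length) fun _ _ q => Cm (A.map q) (B.map q) ⊥ := by
  refine (list L fun a ha => comm1 (x := a) L' hL' fun y hy =>
    h.commute ⟨a, hL ▸ Subgroup.subset_closure ha, rfl⟩ ⟨y, hy, rfl⟩).imp fun J _ q hq => ?_
  have : A.map q ≤ Subgroup.centralizer (B.map q) := by
    rw [← hL, MonoidHom.map_closure, Subgroup.closure_le]
    rintro _ ⟨a, ha, rfl⟩
    exact fun y hy => (hq a ha y hy).symm
  exact cm_bot fun x hx y hy => (this hx y hy).symm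

end Cost

theorem pr_of_cost {ι : Type*} {g : ι → P} {r n : ℕ} (h : Pr g r) (hf : Function.Surjective f)
    (hC : Cost f n fun J _ q => Function.Surjective q → ∀ π : J →* G, (∀ x, π (q x) = f x) →
      ∀ y, π y = 1 → y = 1) : Pr (fun i => f (g i)) (r + n) := by
  obtain ⟨R, h1, h2, h3⟩ := hC
  have h4 : Subgroup.normalClosure {z | z ∈ R} ≤ f.ker := Subgroup.normalClosure_le_normal h2
  refine (h.quot f hf R (le_antisymm (fun x hx => ?_) h4)).mono (by omega)
  exact (QuotientGroup.eq_one_iff _).1 (h3 _ (QuotientGroup.mk' (Subgroup.normalClosure {z | z ∈ R}))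
    (fun w hw => (QuotientGroup.eq_one_iff _).2 (Subgroup.subset_normalClosure hw))
    (QuotientGroup.mk'_surjective _) (QuotientGroup.lift _ f h4) (fun _ => rfl) x hx)

lemma range_lift_gen {κ H H' J : Type*} [Group H] [Group H'] [Group J] {g' : κ → H'}
    (h0 : Subgroup.closure (Set.range g') = ⊤) (a : H →* J) (b : H' →* J) :
    a.range ⊔ Subgroup.closure (Set.range fun i => b (g' i)) = (Coprod.lift a b).range := by
  rw [Coprod.range_lift, b.range_eq_map, ← h0, MonoidHom.map_closure, ← Set.range_comp]; rfl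

theorem pr_coprod {ι κ : Type} {H H' : Type*} [Group H] [Group H'] {g : ι → H} {g' : κ → H'}
    {r r' : ℕ} (h : Pr g r) (h' : Pr g' r') :
    Pr (Sum.elim (fun i => Coprod.inl (g i)) fun i => Coprod.inr (g' i) : _ → Coprod H H')
      (r + r') := by
  have h0 := h'.closure_eq
  obtain ⟨h1, R, hR, hk⟩ := h'
  refine (h.ext (G := Coprod H H') Coprod.inl (fun i => Coprod.inr (g' i)) (R.map Coprod.inr)
    ((range_lift_gen h0 _ _).trans (by simp [eq_top_iff, SetLike.le_def])) ?_ ?_).mono (by simpa)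
  · refine List.forall_mem_map.2 fun w hw => ?_
    have : FreeGroup.lift (fun i => Coprod.inr (g' i)) =
      (Coprod.inr : H' →* Coprod H H').comp (FreeGroup.lift g') := by ext; simp
    have h2 : FreeGroup.lift g' w = 1 := hk.ge (Subgroup.subset_normalClosure hw)
    simp [this, h2]
  · intro J _ a j π h2 h3 h4 h5
    obtain ⟨b, hb⟩ := Pr.lift h1 hk j fun w hw => by simpa using h5 _ (List.mem_map_of_mem hw)
    obtain rfl : (fun i => b (g' i)) = j := funext hb
    have h6 : π.comp (Coprod.lift a b) = MonoidHom.id _ := by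
      refine Coprod.hom_ext (MonoidHom.ext h2) (MonoidHom.eq_of_eqOn_dense h0 ?_)
      rintro _ ⟨i, rfl⟩; exact h3 i
    intro x y e
    obtain ⟨x, rfl⟩ := ((range_lift_gen h0 a b).symm.trans h4).ge (Subgroup.mem_top x)
    obtain ⟨y, rfl⟩ := ((range_lift_gen h0 a b).symm.trans h4).ge (Subgroup.mem_top y)
    exact congrArg _ ((DFunLike.congr_fun h6 x).symm.trans (e.trans (DFunLike.congr_fun h6 y)))

theorem hasPr_coprod {H H' : Type*} [Group H] [Group H'] {d d' r r' : ℕ} (h : HasPr H d r)
    (h' : HasPr H' d' r') : HasPr (Coprod H H') (d + d') (r + r') := by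
  obtain ⟨g, h⟩ := h
  obtain ⟨g', h'⟩ := h'
  exact (pr_coprod h h').hasPr (by simp) (by simp)

theorem pr_free (ι : Type) : Pr (FreeGroup.of : ι → FreeGroup ι) 0 := by
  have : FreeGroup.lift (FreeGroup.of : ι → FreeGroup ι) = MonoidHom.id _ := by ext; simp
  rw [Pr, this]
  exact ⟨Function.surjective_id, [], le_rfl, by simp⟩

theorem hasPr_of_cost {d r n : ℕ} (h : HasPr P d r) (hf : Function.Surjective f)
    (hC : Cost f n fun J _ q => Function.Surjective q → ∀ π : J →* G, (∀ x, π (q x) = f x) →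
      ∀ y, π y = 1 → y = 1) : HasPr G d (r + n) := by
  obtain ⟨g, h⟩ := h
  exact ⟨_, pr_of_cost h hf hC⟩

end H6.P6
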