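import Mathlib
import Cfsg.Agent.Lib.Pres6.Cost

/-!
The Curtis–Tits theorem over a lift of `SL_n` with one further node.
-/

set_option autoImplicit false

open scoped commutatorElement

namespace H6.P6

open H63.St H63.St.Eich H63.St.SL Matrix H77.Pres H64.St2

section node

variable {Φ I : Type*} {R : Roots Φ I} {G Γ : Type*} [Group G] [Group Γ] {X : Φ → Subgroup G}
  {π : Γ →* G} {k : Type*} [Field k]

variable (R X π) in
/-- The condition on pairs of nodes. -/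
def PairC (i j : I) (A B : Subgroup Γ) : Prop :=
  (∀ y ∈ A ⊔ B, π y = 1 → y = 1) ∨ ∃ C,
    (∀ m ∈ B, Acts X (π m) (R.σ j) → Cj m A C ∧ Cj m C A) ∧
    (∀ m ∈ A, Acts X (π m) (R.σ i) → Cj m C C) ∧ (R.σ j (R.α i) = R.α i ∧ C ≤ A ∨
      R.σ i (R.σ j (R.α i)) = R.σ j (R.α i) ∧ R.σ j (R.α i) ≠ R.α i)

variable (R X π) in
/-- A node of type `SL₂(k)`. -/
structure Nda (i : I) (ψ : SpecialLinearGroup (Fin 2) k →* Γ) : Prop where
  nd : Nd (X (R.α i)) (X (R.neg (R.α i))) (π.comp ψ)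
  acts : ∀ t (ht : t ≠ 0), Acts X (π (ψ (hm ht * wm k))) (R.σ i)

variable {i j : I} {ψ : SpecialLinearGroup (Fin 2) k →* Γ}

lemma Nda.inj (h : Nda R X π i ψ) : ∀ y ∈ ψ.range, π y = 1 → y = 1 := by
  rintro _ ⟨g, rfl⟩ e
  rw [h.nd.inj (e.trans (map_one (π.comp ψ)).symm), map_one]

lemma Nda.map (h : Nda R X π i ψ) : ψ.range.map π = X (R.α i) ⊔ X (R.neg (R.α i)) :=
  (MonoidHom.range_comp _ _).symm.trans h.nd.range

lemma Nda.mon (h : Nda R X π i ψ) {m : Γ} (hm' : m ∈ ψ.range) (ha : Acts X (π m) (R.σ i)) :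
    ∃ t, ∃ ht : t ≠ 0, m = ψ (hm ht * wm k) := by
  obtain ⟨g, rfl⟩ := hm'
  obtain ⟨t, ht, rfl⟩ := h.nd.eq_w (g := g) (fun x hx => R.σ_α i ▸ ha.conj_mem hx)
    fun x hx => R.σ_neg_α i ▸ ha.conj_mem hx
  exact ⟨t, ht, rfl⟩

lemma pairC_norm {A B : Subgroup Γ} (h : ∀ m ∈ B, Acts X (π m) (R.σ j) → Cj m A A)
    (e : R.σ j (R.α i) = R.α i) : PairC R X π i j A B :=
  Or.inr ⟨A, fun m h1 h2 => ⟨h m h1 h2, h m h1 h2⟩, fun _ h1 _ => cj_self h1, Or.inl ⟨e, le_rfl⟩⟩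

lemma Cm.cj {A B : Subgroup Γ} (h : Cm A B ⊥) {m : Γ} (hm : m ∈ B) : Cj m A A := fun y hy => by
  rwa [← (h.commute hy hm).eq, mul_inv_cancel_right]

lemma cj_map (g : Γ) (A : Subgroup Γ) : Cj g A (A.map (MulAut.conj g).toMonoidHom) :=
  fun y hy => ⟨y, hy, rfl⟩

lemma cj_map' (g : Γ) (A : Subgroup Γ) : Cj g⁻¹ (A.map (MulAut.conj g).toMonoidHom) A := by
  rintro _ ⟨y, hy, rfl⟩; simpa [mul_assoc] using hy

lemma hm_inv {t : k} (ht : t ≠ 0) : (hm ht)⁻¹ = hm (inv_ne_zero ht) := by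
  rw [inv_eq_iff_mul_eq_one, hm_mul, hm_one _ (mul_inv_cancel₀ ht)]

lemma hm_wm {t : k} (ht : t ≠ 0) : hm ht * wm k = wm k * hm (inv_ne_zero ht) := by
  have := wm_hm (inv_ne_zero ht)
  rw [mul_inv_eq_iff_eq_mul] at this
  rw [this, ← hm_inv, inv_inv]

lemma pairC_conj {A : Subgroup Γ} (h : Nda R X π j ψ) (h1 : ∀ t (ht : t ≠ 0), Cj (ψ (hm ht)) A A)
    (h2 : ∀ m ∈ A, Acts X (π m) (R.σ i) → Cj ((ψ (wm k))⁻¹ * m * ψ (wm k)) A A)
    (e : R.σ i (R.σ j (R.α i)) = R.σ j (R.α i)) (e' : R.σ j (R.α i) ≠ R.α i) :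
    PairC R X π i j A ψ.range := by
  refine Or.inr ⟨A.map (MulAut.conj (ψ (wm k))).toMonoidHom, fun m h3 h4 => ?_, fun m h3 h4 => ?_,
    Or.inr ⟨e, e'⟩⟩
  · obtain ⟨t, ht, rfl⟩ := h.mon h3 h4
    refine ⟨?_, ?_⟩
    · rw [hm_wm, map_mul]
      exact (cj_map _ _).mul (h1 _ _)
    · have := ((h1 t ht).mul (h1 _ (neg_ne_zero.2 one_ne_zero))).mul (cj_map' (ψ (wm k)) A)
      rwa [← wm_sq, ← map_mul, ← map_inv, ← map_mul, sq, ← mul_assoc, mul_inv_cancel_right] at this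
  · simpa [mul_assoc] using ((cj_map (ψ (wm k)) A).mul (h2 m h3 h4)).mul (cj_map' (ψ (wm k)) A)

lemma cj_pow {g : Γ} {A : Subgroup Γ} (h : Cj g A A) (n : ℕ) : Cj (g ^ n) A A := by
  induction n with
  | zero => simpa using cj_self (one_mem A)
  | succ n ih => exact pow_succ g n ▸ ih.mul h

lemma cj_hm {ζ : k} {hζ : ζ ≠ 0} (h0 : ∀ a : k, a ≠ 0 → ∃ n : ℕ, ζ ^ n = a) {A : Subgroup Γ}
    (h : Cj (ψ (hm hζ)) A A) (t : k) (ht : t ≠ 0) : Cj (ψ (hm ht)) A A := by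
  obtain ⟨n, rfl⟩ := h0 t ht
  have := cj_pow h n
  rwa [← map_pow, hm_pow] at this

lemma Nda.node [Finite Φ] {E : RGD R G} {Y : Φ → Subgroup Γ} (h : Lf E.toPre π Y) (hF : E.Faith)
    (hi : ∀ i, Lf.Rk E.toPre π Y i) (N : Nda R E.X π i ψ) (hx : ∀ t, ψ (slx t) ∈ Y (R.α i))
    (hy : ∀ t, ψ (sly t) ∈ Y (R.neg (R.α i))) : ∃ S : Node (h.rgd hF hi).toPre i k,
      ∀ c (hc : c ≠ 0), S.h c = ψ (hm (inv_ne_zero hc)) := by
  have e : ∀ t (ht : t ≠ 0), ψ (sly t) * ψ (slx (-t⁻¹)) * ψ (sly t) =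
      ψ (hm (neg_ne_zero.2 (inv_ne_zero ht)) * wm k) := fun t ht => by
    rw [← map_mul, ← map_mul]; congr 1
    ext a b; fin_cases a <;> fin_cases b <;>
      simp [coe_hm, coe_wm, coe_slx, coe_sly, mul_apply, Fin.sum_univ_two, ht]
  refine ⟨{ x := fun t => ψ (sly t), y := fun t => ψ (slx t)
            x_add := fun a b => by rw [← map_mul]; exact congrArg ψ ((sl k).y_add a b).symm
            y_add := fun a b => by rw [← map_mul]; exact congrArg ψ ((sl k).x_add a b).symm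
            rel := fun t ht u => by
              simp only [← map_mul, ← map_inv]; exact congrArg ψ ((sl k).wy t u ht)
            mem_x := fun g => ⟨fun hg => ?_, ?_⟩, mem_y := fun g => ⟨fun hg => ?_, ?_⟩
            y_ne := fun t ht e => ht ?_, acts := fun t ht => ?_ }, fun c hc => ?_⟩
  · obtain ⟨t, ht⟩ := (N.nd.mem_y _).1 (h.mem hg)
    exact ⟨t, eq_of_inj (h.inj _) (hy t) hg ht⟩
  · rintro ⟨t, rfl⟩; exact hy t
  · obtain ⟨t, ht⟩ := (N.nd.mem_x _).1 (h.mem hg)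
    exact ⟨t, eq_of_inj (h.inj _) (hx t) hg ht⟩
  · rintro ⟨t, rfl⟩; exact hx t
  · have := N.nd.inj (a₁ := slx t) (a₂ := 1) (by simp [e])
    simpa [coe_slx] using congrArg (fun g => g.1 0 1) this
  · exact h.acts hF (hi i) (mul_mem (mul_mem (Subgroup.mem_sup_right (hy _))
      (Subgroup.mem_sup_left (hx _))) (Subgroup.mem_sup_right (hy _)))
      ((congrArg (fun g => Acts E.X (π g) _) (e t ht)).mpr (N.acts _ _))
  · simp only [SL2Rel.h, SL2Rel.w]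
    rw [e c hc, e 1 one_ne_zero, ← map_inv, ← map_mul, _root_.mul_inv_rev, mul_assoc,
      mul_inv_cancel_left, hm_inv, hm_mul]
    congr 2; simp

end node

variable {m : ℕ} {s : Bool} {hs : s = false → 1 ≤ m}
  {K V G Γ : Type*} [Field K] [AddCommGroup V] [Module K V] [Group G] [Group Γ]
  {E : Eich m K V G} {π : Γ →* G} {Z : Sym2 (J m) → Subgroup Γ}

lemma lp_rev' (p : Equiv.Perm (Fin (m + 1))) (a : J m) : lp p a.rev = (lp p a).rev := by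
  rcases ps_or a with ⟨i, rfl⟩ | ⟨i, rfl⟩ <;> simp

lemma lp_mul (p p' : Equiv.Perm (Fin (m + 1))) : lp (p * p') = lp p * lp p' :=
  Equiv.ext fun a => by rcases ps_or a with ⟨i, rfl⟩ | ⟨i, rfl⟩ <;> simp

lemma ok_perm {τ : Equiv.Perm (J m)} (h : ∀ a, τ a.rev = (τ a).rev) {a b : J m}
    (h1 : Ok s s(a, b)) : Ok s s(τ a, τ b) := VC.ok_map τ.injective h h1

lemma Mv.mul {g g' : Γ} {τ τ' : Equiv.Perm (J m)} (h : Mv s Z g τ) (h' : Mv s Z g' τ')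
    (hr : ∀ a, τ' a.rev = (τ' a).rev) : Mv s Z (g * g') (τ * τ') := fun a b e =>
  ⟨(h _ _ (ok_perm hr e)).1.mul (h' a b e).1,
    _root_.mul_inv_rev g g' ▸ (h' a b e).2.mul (h _ _ (ok_perm hr e)).2⟩

lemma Mv.inv {g : Γ} {τ : Equiv.Perm (J m)} (h : Mv s Z g τ) (hr : ∀ a, τ a.rev = (τ a).rev) :
    Mv s Z g⁻¹ τ⁻¹ := fun a b e => by
  simpa using (h (τ⁻¹ a) (τ⁻¹ b) (ok_perm (fun a => τ.injective (by simp [hr])) e)).symm

lemma mv_one : Mv s Z 1 1 := fun a b _ => by simpa using cj_self (one_mem _)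

lemma α1_cs (i : Fin m) : VC.α1 s i.castSucc = ps i.castSucc := by
  simp [Fin.ext_iff, VC.α1_val, ps_val]; omega

lemma α2_cs (i : Fin m) : VC.α2 i.castSucc = (ps i.succ).rev := by
  simp [Fin.ext_iff, VC.α2_val, ps_val]

lemma α2_last : VC.α2 (Fin.last m) = ps (Fin.last m) := by
  simp [Fin.ext_iff, VC.α2_val, ps_val]; omega

lemma cs_ne (i : Fin m) : i.castSucc ≠ i.succ := i.castSucc_lt_succ.ne

lemma Emb.acts {f : SpecialLinearGroup (Fin (m + 1)) K →* G} (hf : Emb E f) {i : Fin m}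
    {g : SpecialLinearGroup (Fin (m + 1)) K} {η : Fin (m + 1) → K}
    (h : Mn g (Equiv.swap i.castSucc i.succ) η) :
    Acts (E.X s) (f g) ((VC s m hs).toRoots.σ i.castSucc) := by
  obtain ⟨d, h1, -⟩ := hf.mono h
  refine MA.acts ⟨_, _, h1, fun r => (VC.refl_mk _ r).trans ?_⟩
  rw [lp_swap (cs_ne i), α1_cs, α2_cs]

variable {f : SpecialLinearGroup (Fin (m + 1)) K →* G} (hf : Emb E f)
  {φ : SpecialLinearGroup (Fin (m + 1)) K →* Γ} (hφ : ∀ g, π (φ g) = f g)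

include hf hφ in
lemma Emb.inj_D : ∀ y ∈ φ.range, π y = 1 → y = 1 := by
  rintro _ ⟨g, rfl⟩ e
  rw [hf.inj ((hφ g).symm.trans (e.trans (map_one f).symm)), map_one]

lemma mn_hm_wm {Ω : Type*} [Fintype Ω] [DecidableEq Ω] {i j : Ω}
    {ψ : SpecialLinearGroup (Fin 2) K →* SpecialLinearGroup Ω K}
    (h1 : ∀ t (ht : t ≠ 0), ψ (hm ht) = hd ht i j) {p : Equiv.Perm Ω} {η : Ω → K}
    (h2 : Mn (ψ (wm K)) p η) {t : K} (ht : t ≠ 0) : ∃ η, Mn (ψ (hm ht * wm K)) p η :=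
  ⟨_, by simpa [h1] using (mn_hd ht i j).mul h2⟩

include hf hφ in
lemma Emb.nda (i : Fin m) : ∃ ψ : SpecialLinearGroup (Fin 2) K →* _,
    Nda (VC s m hs).toRoots (E.X s) π i.castSucc (φ.comp ψ) ∧
      ψ.range = Bl K {i.castSucc, i.succ} ∧
      (∀ t, ψ (slx t) = SL.tv i.castSucc i.succ t) ∧ (∀ t, ψ (sly t) = SL.tv i.succ i.castSucc t) ∧
      (∀ t (ht : t ≠ 0), ψ (hm ht) = hd ht i.castSucc i.succ) ∧
      Mn (ψ (wm K)) (Equiv.swap i.castSucc i.succ) fun b => if b = i.castSucc then -1 else 1 := by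
  obtain ⟨ψ, h0, h1, h2, h3, h4, h5⟩ := exists_blk2 (K := K) (cs_ne i)
  refine ⟨ψ, ⟨?_, fun t ht => ?_⟩, h3, h1, h2, h4, h5⟩
  · have := hf.nd (cs_ne i) h0 h1 h2
    rw [← E.Xz_L (in_ps (cs_ne i)).rev, ← E.Xz_L (in_ps (cs_ne i)).rev'] at this
    change Nd (E.Xz s(_, _)) (E.Xz s(_, _)) _
    rwa [α1_cs, α2_cs, Fin.rev_rev, ← MonoidHom.comp_assoc, show π.comp φ = f from MonoidHom.ext hφ]
  · obtain ⟨η, h6⟩ := mn_hm_wm h4 h5 ht
    exact hφ _ ▸ hf.acts h6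

variable {k : Type*} [Field k] {ψ : SpecialLinearGroup (Fin 2) k →* Γ}

variable (hs E π φ ψ Z) in
/-- The output of the Curtis–Tits theorem. -/
structure ZS : Prop where
  lz : LZ s E π Z
  tv : ∀ i j, i ≠ j → ∀ t, φ (tv i j t) ∈ Z s(ps i, (ps j).rev)
  mw : ∀ i : Fin m, ∀ g ∈ Bl K {i.castSucc, i.succ}, ∀ η, Mn g (Equiv.swap i.castSucc i.succ) η →
    Mv s Z (φ g) (lp (Equiv.swap i.castSucc i.succ))
  mh : ∀ t (ht : t ≠ 0) i j, Mv s Z (φ (hd ht i j)) 1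
  ml : ∀ t (ht : t ≠ 0), Mv s Z (ψ (hm ht * wm k)) (VC.τp (VC.α1 s (Fin.last m)) (ps (Fin.last m)))
  pw : ∀ τ, PW hs τ → ∃ g, Mv s Z g τ
  x : ∀ t, ψ (slx t) ∈ Z s(VC.α1 s (Fin.last m), ps (Fin.last m))
  y : ∀ t, ψ (sly t) ∈ Z s((VC.α1 s (Fin.last m)).rev, (ps (Fin.last m)).rev)

lemma exists_perm2 {α : Type*} {a b i j : α} (h : a ≠ b) (h' : i ≠ j) :
    ∃ p : Equiv.Perm α, p a = i ∧ p b = j := by
  classical
  exact ⟨Equiv.swap (Equiv.swap a i b) j * Equiv.swap a i, by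
    rw [Equiv.Perm.mul_apply, Equiv.swap_apply_left, Equiv.swap_apply_of_ne_of_ne _ h']
    exact fun e => h ((Equiv.swap a i).injective (by simpa using e)), by simp⟩

include hf hφ in
theorem exists_ZS (hψ : Nda (VC s m hs).toRoots (E.X s) π (Fin.last m) ψ)
    (hp : ∀ i : Fin m, PairC (VC s m hs).toRoots (E.X s) π i.castSucc (Fin.last m)
      ((Bl K {i.castSucc, i.succ}).map φ) ψ.range ∧ PairC (VC s m hs).toRoots (E.X s) π
        (Fin.last m) i.castSucc ψ.range ((Bl K {i.castSucc, i.succ}).map φ)) :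
    ∃ Z, ZS hs E π Z φ ψ := by
  choose χ n1 n2 n3 n4 n5 n6 using hf.nda (hs := hs) hφ
  have hD := hf.inj_D hφ
  have n7 : ∀ i, (Bl K {i.castSucc, i.succ}).map φ = (φ.comp (χ i)).range := fun i => by
    rw [MonoidHom.range_comp, n2]
  obtain ⟨Z, z1, z2, z3, z4⟩ := exists_Z (hs := hs) (E := E) (π := π)
    (A := Fin.lastCases ψ.range fun i => (Bl K {i.castSucc, i.succ}).map φ)
    ⟨Fin.lastCases (by simpa using ⟨_, hψ.acts 1 one_ne_zero⟩) fun i => by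
        simpa only [Fin.lastCases_castSucc, n7] using ⟨_, ⟨_, rfl⟩, (n1 i).acts 1 one_ne_zero⟩,
      Fin.lastCases (by simpa using hψ.map) fun i => by
        simpa only [Fin.lastCases_castSucc, n7] using (n1 i).map,
      Fin.lastCases (by simpa only [Fin.lastCases_last] using hψ.inj) fun i => by
        simpa only [Fin.lastCases_castSucc, n7] using (n1 i).inj,
      Fin.lastCases (Fin.lastCases
        (Or.inl (by simpa only [Fin.lastCases_last, sup_idem] using hψ.inj)) fun i => by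
          simpa only [Fin.lastCases_last, Fin.lastCases_castSucc, PairC] using (hp i).2)
        fun i => Fin.lastCases
          (by simpa only [Fin.lastCases_last, Fin.lastCases_castSucc, PairC] using (hp i).1) fun j =>
          Or.inl fun y hy => hD y (by
            simp only [Fin.lastCases_castSucc] at hy
            exact sup_le (Subgroup.map_le_range _ _) (Subgroup.map_le_range _ _) hy)⟩
  have w1 : ∀ i : Fin m, ∀ g ∈ Bl K {i.castSucc, i.succ}, ∀ η,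
      Mn g (Equiv.swap i.castSucc i.succ) η → Mv s Z (φ g) (lp (Equiv.swap i.castSucc i.succ)) :=
    fun i g h1 η h2 => by
      have := z2 i.castSucc (φ g) (by simpa using ⟨g, h1, rfl⟩) (hφ g ▸ hf.acts h2)
      rwa [α1_cs, α2_cs, ← lp_swap (cs_ne i)] at this
  have w2 : ∀ (i : Fin m) t (ht : t ≠ 0),
      Mv s Z (φ (χ i (hm ht * wm K))) (lp (Equiv.swap i.castSucc i.succ)) := fun i t ht =>
    (mn_hm_wm (n5 i) (n6 i) ht).elim (w1 i _ (n2 i ▸ ⟨_, rfl⟩))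
  have w3 : ∀ p, ∃ g η, Mn g p η ∧ Mv s Z (φ g) (lp p) := fun p => by
    induction (Equiv.Perm.mclosure_swap_castSucc_succ m).ge (Submonoid.mem_top p) using
      Submonoid.closure_induction with
    | mem _ h => obtain ⟨i, rfl⟩ := h; exact ⟨_, _, n6 i, w1 i _ (n2 i ▸ ⟨_, rfl⟩) _ (n6 i)⟩
    | one => exact ⟨1, 1, fun a b => one_apply, by simpa [lp_one] using mv_one⟩
    | mul p p' _ _ h h' =>
      obtain ⟨g, _, h0, h⟩ := h
      obtain ⟨g', _, h0', h'⟩ := h'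
      exact ⟨g * g', _, h0.mul h0', by rw [map_mul, lp_mul]; exact h.mul h' (lp_rev' _)⟩
  have w4 : ∀ t (ht : t ≠ 0) j, Mv s Z (φ (hd ht 0 j)) 1 := fun t ht j => by
    induction j using Fin.induction with
    | zero => simpa [hd_self] using mv_one
    | succ j ih =>
      have := (w2 j t ht).mul ((w2 j 1 one_ne_zero).inv (lp_rev' _)) fun a =>
        (lp (Equiv.swap j.castSucc j.succ)).injective (by simp [lp_rev'])
      rw [hm_one _ rfl, one_mul, ← map_inv, ← map_mul, ← map_inv, ← map_mul, mul_inv_cancel_right,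
        mul_inv_cancel, n5] at this
      simpa [← map_mul, hd_mul] using ih.mul this fun _ => rfl
  have w5 : ∀ {z z' B}, Ok s z → Z z ⊔ Z z' = B → (∀ y ∈ B, π y = 1 → y = 1) → ∀ y ∈ B,
      π y ∈ E.Xz z → y ∈ Z z := fun h1 h2 h3 y h4 h5 =>
    mem_of_inj h3 (h2 ▸ le_sup_left) h4 (z1.map _ h1 ▸ h5)
  have z5 := z4 (Fin.last m)
  rw [Fin.lastCases_last] at z5
  refine ⟨Z, z1, fun i j hij t => ?_, w1, fun t ht i j => ?_, fun t ht => α2_last (m := m) ▸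
    z2 _ _ (by rw [Fin.lastCases_last]; exact ⟨_, rfl⟩) (hψ.acts t ht), z3, fun t => α2_last (m := m) ▸ w5 ((VC s m hs).α _).2 z5
      hψ.inj _ ⟨_, rfl⟩ (hψ.nd.x t), fun t => α2_last (m := m) ▸ w5
        ((VC s m hs).neg ((VC s m hs).α _)).2 ((sup_comm _ _).trans z5) hψ.inj _ ⟨_, rfl⟩
          (hψ.nd.y t)⟩
  · have i0 : Fin m := ⟨0, by have := Fin.val_ne_of_ne hij; omega⟩
    obtain ⟨p, rfl, rfl⟩ := exists_perm2 (cs_ne i0) hij
    obtain ⟨g, η, h1, h2⟩ := w3 p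
    have h3 := z4 i0.castSucc
    rw [Fin.lastCases_castSucc, n7, α1_cs, α2_cs] at h3
    have h4 := (in_ps (cs_ne i0)).rev
    have := (h2 _ _ h4.ok).1 _ (w5 h4.ok h3 (n1 i0).inj _ ⟨slx ((η i0.castSucc)⁻¹ * η i0.succ * t),
      rfl⟩ (by simpa [E.Xz_L h4, n3, hφ, hf.mem_L (cs_ne i0)] using ⟨_, rfl⟩))
    rwa [MonoidHom.comp_apply, n3, ← map_inv, ← map_mul, ← map_mul, h1.conj_tv (cs_ne i0), lp_ps,
      lp_rev, show ∀ a b : K, a ≠ 0 → b ≠ 0 → a * b⁻¹ * (a⁻¹ * b * t) = t from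
        fun a b _ _ => by field_simp] at this
    exacts [h1.ne _, h1.ne _]
  · have := ((w4 t ht i).inv fun _ => rfl).mul (w4 t ht j) fun _ => rfl
    rwa [← map_inv, ← map_mul, ← hd_mul ht 0 i j, inv_mul_cancel_left, inv_one, mul_one] at this

lemma cmL60 {a b c : J m} (h1 : In a b) (h2 : In a c) (h3 : In b c) : Cm (E.L a b) (E.L a c) ⊥ :=
  cm_bot (by rintro _ ⟨t, rfl⟩ _ ⟨u, rfl⟩; exact E.c60 h1 h2 h3 t u)

lemma cmL120 {a b c : J m} (h1 : In a b) (h2 : In a c) (h3 : In b c) :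
    Cm (E.L a b) (E.L b.rev c) (E.L a c) := by
  rintro _ ⟨t, rfl⟩ _ ⟨u, rfl⟩; exact ⟨_, (E.c120 h1 h2 h3 t u).symm⟩

lemma cmL90 {a b c d : J m} (h1 : In a b) (h2 : In a c) (h3 : In a d) (h4 : In b c) (h5 : In b d)
    (h6 : In c d) : Cm (E.L a b) (E.L c d) ⊥ :=
  cm_bot (by rintro _ ⟨t, rfl⟩ _ ⟨u, rfl⟩; exact E.c90 h1 h2 h3 h4 h5 h6 t u)

lemma L_eq_one {a b : J m} (h : In a b) {x : G} (hx : x ∈ E.L a b) (e : x ∈ E.Fix (E.e b.rev)) :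
    x = 1 := by
  obtain ⟨t, rfl⟩ := hx
  have := congrArg (E.B · (E.e a.rev)) (e : E.ρ _ _ = _)
  simp [E.ρ_xl h, E.B_in h, B_rev_e, B_e_rev, κ_ne] at this
  simp [this]

lemma LZ.memL (lz : LZ s E π Z) {a b : J m} (h : In a b) {y : Γ} (hy : y ∈ Z s(a, b)) :
    π y ∈ E.L a b := (lz.mapL h).le ⟨y, hy, rfl⟩

lemma LZ.exL (lz : LZ s E π Z) {a b : J m} (h : In a b) (t : K) :
    ∃ y ∈ Z s(a, b), π y = E.xl a b t := (lz.mapL h).ge ⟨t, rfl⟩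

lemma LZ.memS (lz : LZ true E π Z) {a : J m} {y : Γ} (hy : y ∈ Z s(a, a)) : π y ∈ E.S a :=
  (lz.mapS a).le ⟨y, hy, rfl⟩

lemma LZ.exS (lz : LZ true E π Z) (a : J m) {v : V} {c : K} (h : E.P v c) :
    ∃ y ∈ Z s(a, a), π y = E.T (E.e a) v c := (lz.mapS a).ge (h.mem a)

lemma LZ.inj_SL (lz : LZ true E π Z) {a b : J m} (h : In a b)
    (c45 : Cm (Z s(a, b)) (Z s(a, a)) ⊥) : ∀ y ∈ Z s(a, a) ⊔ Z s(a, b), π y = 1 → y = 1 := by
  intro y hy e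
  obtain ⟨c, hc, d, hd, rfl⟩ := exists_mul_of_mem_sup (fun _ hx _ => c45.cj hx _) hy
  have e1 : π d = (π c)⁻¹ := eq_inv_of_mul_eq_one_right (by rwa [map_mul] at e)
  obtain rfl := lz.inj _ h.ok d hd (L_eq_one h (lz.memL h hd) (e1 ▸ inv_mem
    (S_le_Fix h.rev (Subgroup.mem_sup_left (lz.memS hc)))))
  exact lz.inj _ (ok_diag a) _ (by simpa) e

lemma LZ.c90b (lz : LZ true E π Z) (H : E.Hyp true) {a b : J m}
    (h : In a b) (h1 : Cm (Z s(a, b)) (Z s(a, a)) ⊥) (h2 : Cm (Z s(a, b.rev)) (Z s(a, a)) ⊥)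
    (h3 : Cm (Z s(a, b)) (Z s(b.rev, b.rev)) (Z s(a, a) ⊔ Z s(a, b.rev))) :
    Cm (Z s(a, b)) (Z s(a, b.rev)) (Z s(a, a)) := fun x hx d hd => by
  have hN := lz.inj_SL h.rev h2
  obtain ⟨v, c, hv, hc⟩ := H.nt rfl
  obtain ⟨u, hu⟩ := lz.memL h.rev hd
  obtain ⟨y, hy, e1⟩ := lz.exS b.rev hv
  obtain ⟨z, hz, e2⟩ := lz.exL h (-(u / (c * E.κ b)))
  obtain ⟨w, hw, e3⟩ := lz.exS a (hv.neg.smul (E.ε * E.κ b * -(u / (c * E.κ b))))
  have e4 : ⁅y, z⁆ = w * d := eq_of_inj hN (h3.symm y hy z hz)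
    (mul_mem (Subgroup.mem_sup_left hw) (Subgroup.mem_sup_right hd)) (by
      rw [map_commutatorElement, map_mul, e3, e1, e2, E.c135 h hv, ← hu]
      have := E.κ_ne b
      congr 2; field_simp)
  have e5 : ⁅x, d⁆ = w⁻¹ * (⁅x, y⁆ * ⁅y, x * z⁆) * d⁻¹ := by
    rw [commutatorElement_def, mul_left_inj, show d = w⁻¹ * ⁅y, z⁆ by simp [e4], ← mul_assoc,
      (h1.commute hx (inv_mem hw)).eq]
    simp only [commutatorElement_def]; group
  refine mem_of_inj hN le_sup_left (e5 ▸ mul_mem (mul_mem (inv_mem (Subgroup.mem_sup_left hw))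
    (mul_mem (h3 x hx y hy) (h3.symm y hy _ (mul_mem hx hz)))) (inv_mem (Subgroup.mem_sup_right hd))) ?_
  obtain ⟨t, ht⟩ := lz.memL h hx
  rw [lz.mapS, map_commutatorElement, ← ht, ← hu, E.c90b h]
  exact (P.zero (E.Λ90b b t u)).mem a

section tv

variable (lz : LZ s E π Z) (tv : ∀ i j, i ≠ j → ∀ t, φ (SL.tv i j t) ∈ Z s(ps i, (ps j).rev))
include hf hφ lz tv

lemma LZ.ex_tv {i j : Fin (m + 1)} (h : i ≠ j) {y : Γ} (hy : y ∈ Z s(ps i, (ps j).rev)) :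
    ∃ t, φ (SL.tv i j t) = y := by
  obtain ⟨t, e⟩ := (hf.mem_L h _).1 (lz.memL (in_ps h).rev hy)
  exact ⟨t, eq_of_inj (lz.inj _ (in_ps h).rev.ok) (tv i j h t) hy ((hφ _).trans e)⟩

lemma LZ.le_Bl {i j : Fin (m + 1)} (h : i ≠ j) {S : Set (Fin (m + 1))} (hi : i ∈ S) (hj : j ∈ S) :
    Z s(ps i, (ps j).rev) ≤ (Bl K S).map φ := fun y hy => by
  obtain ⟨t, rfl⟩ := lz.ex_tv hf hφ tv h hy
  exact ⟨_, tv_mem hi hj t, rfl⟩

lemma LZ.le_D {i j : Fin (m + 1)} (h : i ≠ j) : Z s(ps i, (ps j).rev) ≤ φ.range :=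
  (lz.le_Bl hf hφ tv h (Set.mem_univ _) (Set.mem_univ _)).trans (Subgroup.map_le_range _ _)

lemma LZ.le_D' {i j : Fin (m + 1)} (h : i ≠ j) : Z s((ps i).rev, ps j) ≤ φ.range :=
  Sym2.eq_swap (a := ps j) ▸ lz.le_D hf hφ tv h.symm

lemma LZ.sup_le_D {i : Fin (m + 1)} (h : i ≠ Fin.last m) : Z ((VC s m hs).toRoots.α i).1 ⊔
    Z ((VC s m hs).toRoots.neg ((VC s m hs).toRoots.α i)).1 ≤ φ.range := by
  obtain ⟨i, rfl⟩ := Fin.exists_castSucc_eq.2 h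
  change Z s(_, _) ⊔ Z s(_, _) ≤ _
  rw [α1_cs, α2_cs, Fin.rev_rev]
  exact sup_le (lz.le_D hf hφ tv (cs_ne i)) (lz.le_D' hf hφ tv (cs_ne i))

omit hf hφ lz in
lemma D_le_XS : φ.range ≤ XS (fun r : PR s m => Z r.1) Set.univ := by
  rw [φ.range_eq_map, ← Bl_univ, Subgroup.map_le_iff_le_comap]
  exact Bl_le fun i _ j _ h t => mem_XS (r := ⟨_, (in_ps h).rev.ok⟩) (Set.mem_univ _) (tv i j h t)

theorem LZ.rl (pw : ∀ τ, PW hs τ → ∃ g, Mv s Z g τ) (h : s = false → ∀ i : Fin m, (i : ℕ) + 2 < m →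
    Cm (Z s(ps i.castSucc, (ps i.succ).rev)) (Z s(VC.α1 s (Fin.last m), ps (Fin.last m))) ⊥) :
    RL Z := by
  have hD := hf.inj_D hφ
  have i3 : 2 ≤ m → ∃ i j k : Fin (m + 1), i ≠ j ∧ i ≠ k ∧ j ≠ k := fun h =>
    ⟨⟨0, by omega⟩, ⟨1, by omega⟩, ⟨2, by omega⟩, by simp⟩
  have k : ∀ {P : J m → J m → J m → Prop}, (∀ τ, PW hs τ → ∀ a b c, In a b → In a c → In b c →
      P (τ a) (τ b) (τ c) → P a b c) → (∀ i j k, i ≠ j → i ≠ k → j ≠ k →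
        P (ps i) (ps j).rev (ps k).rev ∧ P (ps i).rev (ps j) (ps k)) →
      ∀ a b c, In a b → In a c → In b c → P a b c := fun h1 h2 => all3 h1 fun h => by
    obtain ⟨i, j, k, a1, a2, a3⟩ := i3 h
    have b1 := in_ps a1
    have b2 := in_ps a2
    have b3 := in_ps a3
    refine ⟨_, _, _, b1.rev, b2.rev, b3.rev.rev', (h2 i j k a1 a2 a3).1, fun _ => ?_⟩
    refine h1 _ ((pw_τp b1.ok).mul (pw_τp b1.rev.ok)) _ _ _ b1.rev b2.rev.rev b3.rev.rev.rev' ?_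
    simpa [VC.τ_in b2 b3, VC.τ_in b2 b3.rev'] using (h2 i j k a1 a2 a3).2
  refine ⟨k (fun τ hτ a b c h1 h2 _ H => ?_) fun i j k a1 a2 a3 => ?_,
    k (fun τ hτ a b c h1 h2 h3 H => ?_) fun i j k a1 a2 a3 => ?_,
    all4 (hs := hs) (fun τ hτ a b c d h1 h2 H => ?_) fun h3 => ?_⟩
  · obtain ⟨g, hg⟩ := pw τ hτ
    exact H.of_conj (hg _ _ h1.ok).1 (hg _ _ h2.ok).1 (cj_bot _)
  · have b1 := in_ps a1
    have b2 := in_ps a2
    have b3 := in_ps a3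
    refine ⟨.of_inj hD (lz.le_D hf hφ tv a1) (lz.le_D hf hφ tv a2) bot_le ?_,
      .of_inj hD (lz.le_D' hf hφ tv a1) (lz.le_D' hf hφ tv a2) bot_le ?_⟩
    · simpa only [lz.mapL b1.rev, lz.mapL b2.rev, Subgroup.map_bot] using
        cmL60 b1.rev b2.rev b3.rev.rev'
    · simpa only [lz.mapL b1.rev', lz.mapL b2.rev', Subgroup.map_bot] using cmL60 b1.rev' b2.rev' b3
  · obtain ⟨g, hg⟩ := pw τ hτ
    exact H.of_conj (hg _ _ h1.ok).1 (hτ.1 b ▸ (hg _ _ h3.rev'.ok).1) (hg _ _ h2.ok).2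
  · have b1 := in_ps a1
    have b2 := in_ps a2
    have b3 := in_ps a3
    refine ⟨.of_inj hD (lz.le_D hf hφ tv a1) (by simpa using lz.le_D hf hφ tv a3)
      (lz.le_D hf hφ tv a2) ?_, .of_inj hD (lz.le_D' hf hφ tv a1) (lz.le_D' hf hφ tv a3)
      (lz.le_D' hf hφ tv a2) ?_⟩
    · simpa only [lz.mapL b1.rev, lz.mapL b2.rev, lz.mapL b3.rev.rev'.rev'] using
        cmL120 b1.rev b2.rev b3.rev.rev'
    · simpa only [lz.mapL b1.rev', lz.mapL b2.rev', lz.mapL b3.rev'] using cmL120 b1.rev' b2.rev' b3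
  · obtain ⟨g, hg⟩ := pw τ hτ
    exact H.of_conj (hg _ _ h1.ok).1 (hg _ _ h2.ok).1 (cj_bot _)
  · let i : Fin m := ⟨0, by omega⟩
    let j : Fin m := ⟨m - 1, by omega⟩
    have e : j.succ = Fin.last m := by simp [j, Fin.ext_iff]; omega
    have a1 : i.castSucc ≠ j.castSucc := by simp [i, j, Fin.ext_iff]; omega
    have a2 : i.castSucc ≠ j.succ := by simp [i, j, Fin.ext_iff]
    have a3 : i.succ ≠ j.castSucc := by simp [i, j, Fin.ext_iff]; omega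
    have a4 : i.succ ≠ j.succ := fun e => a1 (congrArg _ (Fin.succ_inj.1 e))
    have b1 := (in_ps (cs_ne i)).rev
    have b2 := (in_ps (cs_ne j)).rev
    refine ⟨_, _, _, _, b1, in_ps a1, (in_ps a2).rev, (in_ps a3).rev', (in_ps a4).rev.rev', b2,
      .of_inj hD (lz.le_D hf hφ tv (cs_ne i)) (lz.le_D hf hφ tv (cs_ne j)) bot_le ?_, fun h4 => ?_⟩
    · simpa only [lz.mapL b1, lz.mapL b2, Subgroup.map_bot] using
        cmL90 b1 (in_ps a1) (in_ps a2).rev (in_ps a3).rev' (in_ps a4).rev.rev' b2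
    · rw [Fin.rev_rev, e, show ps j.castSucc = VC.α1 s (Fin.last m) by
        simp [Fin.ext_iff, ps_val, VC.α1_val, h4, j]]
      exact h h4 i h3

theorem LZ.rk (H : E.Hyp s) (hi : Lf.Rk H.rgd.toPre π (fun r => Z r.1) (Fin.last m)) (i) :
    Lf.Rk H.rgd.toPre π (fun r => Z r.1) i := by
  by_cases e : i = Fin.last m
  · exact e ▸ hi
  · exact Or.inr fun y hy => hf.inj_D hφ y (lz.sup_le_D hf hφ tv e hy)

end tv

theorem LZ.ker_SNA [Finite k] (hf : Emb E f) (hφ : ∀ g, π (φ g) = f g) (lz : LZ true E π Z)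
    (tv : ∀ i j, i ≠ j → ∀ t, φ (SL.tv i j t) ∈ Z s(ps i, (ps j).rev)) (A : E.SNA k) (rl : RL Z)
    (rs : RS Z) (hi : Lf.Rk A.hyp.rgd.toPre π (fun r => Z r.1) (Fin.last m)) :
    ∀ g ∈ XS (fun r : PR true m => Z r.1) Set.univ, π g = 1 → g = 1 := fun g => by
  have lf := lz.lf A.hyp rl (fun _ => rs) (by simp)
  have h1 := lz.rk hf hφ tv A.hyp hi
  obtain ⟨S, e1, e2⟩ := lf.exists_node A.hyp.faith h1 (A.sn.node A.hyp)
  refine lf.eq_one A.hyp.faith h1 (hf.inj_D hφ) (fun j => lz.sup_le_D hf hφ tv) S ?_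
  rintro c hc ⟨_, ⟨g, rfl⟩, e⟩
  obtain ⟨d, h2, h3, h4⟩ := A.exists_h (ps (Fin.last m)) hc
  have h5 := hf.prod_eq_one (g := g) (d := d) (by
    rw [← hφ, e]
    simpa only [SL2Rel.h, SL2Rel.w, map_mul, map_inv, e1, e2, SN.node, α2_last] using h2)
  rw [Finset.prod_eq_single (Fin.last m) (fun i _ h => h4 _ (in_ps h.symm)) (by simp), h3,
    inv_eq_one, map_eq_one_iff _ A.ι.injective] at h5
  rw [h5, SL2Rel.h_one]
  exact one_mem _

lemma ZS.top (h : ZS hs E π Z φ ψ) :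
    φ.range ⊔ ψ.range ≤ XS (fun r : PR s m => Z r.1) Set.univ := by
  refine sup_le (D_le_XS h.tv) ?_
  rw [ψ.range_eq_map, ← sl_closure, MonoidHom.map_closure, Subgroup.closure_le]
  rintro _ ⟨_, ⟨t, rfl⟩ | ⟨t, rfl⟩, rfl⟩
  · exact mem_XS (r := (VC s m hs).α (Fin.last m)) (Set.mem_univ _) (α2_last (m := m) ▸ h.x t :)
  · exact mem_XS (r := (VC s m hs).neg ((VC s m hs).α (Fin.last m))) (Set.mem_univ _)
      (α2_last (m := m) ▸ h.y t :)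

lemma ZS.le_x (h : ZS hs E π Z φ ψ) (N : Nda (VC s m hs).toRoots (E.X s) π (Fin.last m) ψ) {y : Γ}
    (hy : y ∈ Z s(VC.α1 s (Fin.last m), ps (Fin.last m))) : ∃ t, ψ (slx t) = y := by
  rw [← α2_last] at hy
  have h1 := ((VC s m hs).α (Fin.last m)).2
  obtain ⟨t, e⟩ := (N.nd.mem_x (π y)).1 ((h.lz.map _ h1).le ⟨y, hy, rfl⟩)
  exact ⟨t, eq_of_inj (h.lz.inj _ h1) (α2_last (m := m) ▸ h.x t :) hy e⟩

lemma ZS.le_y (h : ZS hs E π Z φ ψ) (N : Nda (VC s m hs).toRoots (E.X s) π (Fin.last m) ψ) {y : Γ}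
    (hy : y ∈ Z s((VC.α1 s (Fin.last m)).rev, (ps (Fin.last m)).rev)) : ∃ t, ψ (sly t) = y := by
  rw [← α2_last] at hy
  have h1 := ((VC s m hs).neg ((VC s m hs).α (Fin.last m))).2
  obtain ⟨t, e⟩ := (N.nd.mem_y (π y)).1 ((h.lz.map _ h1).le ⟨y, hy, rfl⟩)
  exact ⟨t, eq_of_inj (h.lz.inj _ h1) (α2_last (m := m) ▸ h.y t :) hy e⟩

lemma ZS.rk (h : ZS hs E π Z φ ψ) (H : E.Hyp s)
    (N : Nda (VC s m hs).toRoots (E.X s) π (Fin.last m) ψ) :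
    Lf.Rk H.rgd.toPre π (fun r => Z r.1) (Fin.last m) := Or.inr fun y hy => N.inj y <| by
  refine (sup_le (fun y hy => ?_) fun y hy => ?_ : _ ≤ ψ.range) hy
  · obtain ⟨t, rfl⟩ := h.le_x N (y := y) (α2_last (m := m) ▸ hy); exact ⟨_, rfl⟩
  · obtain ⟨t, rfl⟩ := h.le_y N (y := y) (α2_last (m := m) ▸ hy); exact ⟨_, rfl⟩

end H6.P6
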