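import Mathlib
import Cfsg.Agent.Lib.Pres6.Over

/-!
Two adjacent nodes of type `SL₂`, and the short node of the symplectic and even unitary groups.
-/

set_option autoImplicit false

open scoped commutatorElement

namespace H6.P6

open H63.St H63.St.Eich H63.St.SL Matrix H77.Pres H64.St2

section two

variable {Φ I : Type*} {R : Roots Φ I} {G Γ : Type*} [Group G] [Group Γ] {X : Φ → Subgroup G}
  {π : Γ →* G} {K k : Type*} [Field K] [Field k] {i j : I}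
  {ψ : SpecialLinearGroup (Fin 2) K →* Γ} {χ : SpecialLinearGroup (Fin 2) k →* Γ}

lemma Nda.of_comp {f : SpecialLinearGroup (Fin 2) K →* G} (N : Nda R X (MonoidHom.id G) i f)
    (h : ∀ x, π (ψ x) = f x) : Nda R X π i ψ :=
  ⟨(MonoidHom.ext h : π.comp ψ = (MonoidHom.id G).comp f) ▸ N.nd, fun t ht => h _ ▸ N.acts t ht⟩

lemma Nda.w (h : Nda R X π i ψ) : Acts X (π (ψ (wm K))) (R.σ i) := by
  simpa [hm_one one_ne_zero rfl] using h.acts 1 one_ne_zero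

lemma Nda.h (h : Nda R X π i ψ) {t : K} (ht : t ≠ 0) : Acts X (π (ψ (hm ht))) 1 := by
  simpa [mul_assoc] using (h.acts t ht).mul h.w.inv

lemma cj_of_norm {g : Γ} {A : Subgroup Γ} (h : g ∈ Subgroup.normalizer (A : Set Γ)) : Cj g A A :=
  fun y => (Subgroup.mem_normalizer_iff.1 h y).1

lemma norm_of_cj {g : Γ} {A : Subgroup Γ} (h : Cj g A A) (h' : Cj g⁻¹ A A) :
    g ∈ Subgroup.normalizer (A : Set Γ) :=
  Subgroup.mem_normalizer_iff.2 fun y => ⟨h y, fun e => by simpa [mul_assoc] using h' _ e⟩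

lemma Cj.centralizer {g : Γ} {A : Subgroup Γ} (h : Cj g⁻¹ A A) :
    Cj g (Subgroup.centralizer A) (Subgroup.centralizer A) := fun y hy z hz => by
  have := hy _ (h z hz)
  rw [inv_inv] at this
  calc _ = g * (g⁻¹ * z * g * y) * g⁻¹ := by group
    _ = _ := by rw [this]; group

lemma sl2_ind {P : SpecialLinearGroup (Fin 2) K → Prop} (h1 : P 1)
    (hx : ∀ t g, P g → P (slx t * g)) (hy : ∀ t g, P g → P (sly t * g)) (g) : P g := by
  induction (sl_closure K).ge (Subgroup.mem_top g) using Subgroup.closure_induction_left with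
  | one => exact h1
  | mul_left x h y _ ih => obtain ⟨t, rfl⟩ | ⟨t, rfl⟩ := h; exacts [hx t y ih, hy t y ih]
  | inv_mul_cancel x h y _ ih =>
    obtain ⟨t, rfl⟩ | ⟨t, rfl⟩ := h
    exacts [(sl K).x_neg t ▸ hx (-t) y ih, (sl K).y_neg t ▸ hy (-t) y ih]

lemma hm_conj {t : K} (ht : t ≠ 0) (x : SpecialLinearGroup (Fin 2) K) :
    hm ht * x * (hm ht)⁻¹ = θ (pow_ne_zero 2 ht) x := by
  rw [mul_inv_eq_iff_eq_mul]
  ext a b; fin_cases a <;> fin_cases b <;>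
    simp [coe_θ, coe_hm, mul_apply, Fin.sum_univ_two] <;> field_simp

variable (R X π) in
/-- Two nodes normalised by each other's torus. -/
structure Two (i j : I) (ψ : SpecialLinearGroup (Fin 2) K →* Γ)
    (χ : SpecialLinearGroup (Fin 2) k →* Γ) : Prop where
  n1 : Nda R X π i ψ
  n2 : Nda R X π j χ
  b : ∀ t (ht : t ≠ 0), Cj (ψ (hm ht)) χ.range χ.range
  c : ∀ t (ht : t ≠ 0), Cj (χ (hm ht)) ψ.range ψ.range

variable (X π) in
/-- The torus. -/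
def T2 (A B : Subgroup Γ) : Subgroup Γ :=
  Subgroup.normalizer (A : Set Γ) ⊓ Subgroup.normalizer (B : Set Γ) ⊓ (torus X).comap π

lemma T2_comm (A B : Subgroup Γ) : T2 X π A B = T2 X π B A := by
  rw [T2, T2, inf_comm (b := Subgroup.normalizer (B : Set Γ))]

variable (k) in
/-- `SL₂(k)` is generated by `n` elements under some diagonal automorphisms. -/
def GenL (n : ℕ) (S : k → Prop) : Prop :=
  ∃ L : List (SpecialLinearGroup (Fin 2) k), L.length ≤ n ∧ ∀ N : Subgroup _, (∀ x ∈ L, x ∈ N) →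
    (∀ v (hv : v ≠ 0), S v → ∀ x ∈ N, θ hv x ∈ N) → N = ⊤

lemma genL_two [Finite k] (S : k → Prop) : GenL k 2 S := by
  obtain ⟨a, b, h⟩ := sl_two_gen k 2
  exact ⟨[a, b], le_rfl, fun N h1 _ => eq_top_iff.2 (h ▸ (Subgroup.closure_le _).2
    (by rintro _ (rfl | rfl) <;> simp [h1]))⟩

lemma genL_one [Finite k] {S : k → Prop} (h : ∀ μ, μ ≠ 0 → S (μ ^ 2)) {v : k} (hv : v ≠ 0)
    (h1 : v ≠ 1) (h2 : S v) : GenL k 1 S :=
  ⟨[slx 1 * wm k], le_rfl, fun _ h3 h4 => gen_θ (fun μ hμ => h4 _ _ (h μ hμ)) hv h1 (h4 _ _ h2)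
    (h3 _ (by simp))⟩

namespace Two

variable (h : Two R X π i j ψ χ)
include h

lemma symm : Two R X π j i χ ψ := ⟨h.n2, h.n1, h.c, h.b⟩

lemma hm_mem {t : K} (ht : t ≠ 0) : ψ (hm ht) ∈ T2 X π ψ.range χ.range :=
  ⟨⟨Subgroup.le_normalizer ⟨_, rfl⟩, norm_of_cj (h.b t ht) (by
    rw [← map_inv, hm_inv]; exact h.b _ _)⟩, h.n1.h ht⟩

lemma hm_mem' {t : k} (ht : t ≠ 0) : χ (hm ht) ∈ T2 X π ψ.range χ.range :=
  (T2_comm χ.range ψ.range).le (h.symm.hm_mem ht)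

lemma conj {m x : Γ} (h1 : m ∈ ψ.range) (h2 : Acts X (π m) (R.σ i))
    (hx : x ∈ T2 X π ψ.range χ.range) : m * x * m⁻¹ ∈ T2 X π ψ.range χ.range := by
  obtain ⟨t, ht, e⟩ := h.n1.mon (cj_of_norm hx.1.1 _ (inv_mem h1)) (by
    simpa [R.σ_inv] using (Acts.mul hx.2 h2.inv).mul (Acts.inv hx.2))
  obtain ⟨u, hu, rfl⟩ := h.n1.mon h1 h2
  rw [show ∀ a : Γ, a * x * a⁻¹ = a * (x * a⁻¹ * x⁻¹) * x from fun a => by group, e, ← map_mul,
    hm_wm ht, ← mul_assoc, mul_assoc (hm hu), ← sq, wm_sq, hm_mul, hm_mul]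
  exact mul_mem (h.hm_mem _) hx

lemma conj_w {x : Γ} (hx : x ∈ T2 X π ψ.range χ.range) :
    ψ (wm K) * x * (ψ (wm K))⁻¹ ∈ T2 X π ψ.range χ.range ∧
      (ψ (wm K))⁻¹ * x * ψ (wm K) ∈ T2 X π ψ.range χ.range :=
  ⟨h.conj ⟨_, rfl⟩ h.n1.w hx, by
    simpa using h.conj (inv_mem ⟨_, rfl⟩) (by simpa [R.σ_inv] using h.n1.w.inv) hx⟩

lemma conj_w' {x : Γ} (hx : x ∈ T2 X π ψ.range χ.range) :
    χ (wm k) * x * (χ (wm k))⁻¹ ∈ T2 X π ψ.range χ.range ∧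
      (χ (wm k))⁻¹ * x * χ (wm k) ∈ T2 X π ψ.range χ.range := by
  rw [T2_comm] at hx ⊢; exact h.symm.conj_w hx

lemma pair (e : Cj ((χ (wm k))⁻¹ * ψ (wm K) * χ (wm k)) ψ.range ψ.range)
    (e1 : R.σ i (R.σ j (R.α i)) = R.σ j (R.α i)) (e2 : R.σ j (R.α i) ≠ R.α i) :
    PairC R X π i j ψ.range χ.range := pairC_conj h.n2 h.c (fun m h1 h2 => by
  obtain ⟨t, ht, rfl⟩ := h.n1.mon h1 h2
  simpa [mul_assoc] using (cj_of_norm (h.conj_w' (h.hm_mem ht)).2.1.1).mul e) e1 e2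

end Two

lemma cj_of_genL {S : k → Prop} {L : List (SpecialLinearGroup (Fin 2) k)}
    (hL : ∀ N : Subgroup _, (∀ x ∈ L, x ∈ N) →
      (∀ v (hv : v ≠ 0), S v → ∀ x ∈ N, θ hv x ∈ N) → N = ⊤) {g : Γ} {P : Subgroup Γ}
    (h1 : ∀ x ∈ L, g * χ x * g⁻¹ ∈ P) (h2 : ∀ v (hv : v ≠ 0), S v → ∃ t, Cj (g * t * g⁻¹) P P ∧
      ∀ x, t * χ x * t⁻¹ = χ (θ hv x)) : Cj g χ.range P := by
  rintro _ ⟨x, rfl⟩
  refine (hL ((P.comap (MulAut.conj g).toMonoidHom).comap χ) h1 fun v hv h3 x hx => ?_).ge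
    (Subgroup.mem_top x)
  obtain ⟨t, h4, h5⟩ := h2 v hv h3
  change g * χ _ * g⁻¹ ∈ P
  simpa [← h5, mul_assoc] using h4 _ hx

/-- The elements of the normaliser of `N` commuting with `a` modulo `N`. -/
def cS (a : Γ) (N : Subgroup Γ) : Subgroup Γ where
  carrier := {y | y ∈ Subgroup.normalizer (N : Set Γ) ∧ ⁅a, y⁆ ∈ N}
  one_mem' := ⟨one_mem _, by simp⟩
  mul_mem' {y z} hy hz := ⟨mul_mem hy.1 hz.1, by
    convert mul_mem hy.2 (cj_of_norm hy.1 _ hz.2) using 1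
    simp only [commutatorElement_def]; group⟩
  inv_mem' {y} hy := ⟨inv_mem hy.1, by
    convert cj_of_norm (inv_mem hy.1) _ (inv_mem hy.2) using 1
    simp only [commutatorElement_def]; group⟩

lemma spread [Finite k] {a : K → Γ} {b : k → Γ} {N : Subgroup Γ} (a0 : a 0 = 1)
    (hb : ∀ r r', b r * b r' = b (r + r')) (hN : ∀ r, b r ∈ Subgroup.normalizer (N : Set Γ))
    (h1 : ∀ μ, μ ≠ 0 → ∃ T, Cj T N N ∧ (∀ u, T * a u * T⁻¹ = a u) ∧
      ∀ r, T * b r * T⁻¹ = b (μ ^ 2 * r))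
    (h2 : ∀ μ, μ ≠ 0 → ∃ T v, v ≠ 0 ∧ Cj T N N ∧ (∀ u, T * a u * T⁻¹ = a (μ ^ 2 * u)) ∧
      T * b 1 * T⁻¹ = b v) {ζ : K} (hζ : ∀ a : K, a ≠ 0 → ∃ n : ℕ, ζ ^ n = a)
    (h3 : ⁅a 1, b 1⁆ ∈ N) (h4 : ⁅a ζ, b 1⁆ ∈ N) (t : K) (r : k) : ⁅a t, b r⁆ ∈ N := by
  have k1 : ∀ {T x y : Γ}, Cj T N N → ⁅x, y⁆ ∈ N → ⁅T * x * T⁻¹, T * y * T⁻¹⁆ ∈ N :=
    fun h h' => by simpa [commutatorElement_def, mul_assoc] using h _ h'
  by_cases ht : t = 0
  · simp [ht, a0]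
  obtain ⟨v, hv, h5⟩ : ∃ v, v ≠ 0 ∧ ⁅a t, b v⁆ ∈ N := by
    obtain ⟨n, rfl⟩ := hζ t ht
    obtain ⟨T, v, hv, h5, h6, h7⟩ := h2 (ζ ^ (n / 2)) fun e => ht (by
      rw [← Nat.div_add_mod n 2, pow_add, mul_comm 2, pow_mul, e]; simp)
    refine ⟨v, hv, ?_⟩
    rw [← h7, ← Nat.div_add_mod n 2, pow_add, mul_comm 2, pow_mul, ← h6]
    rcases Nat.mod_two_eq_zero_or_one n with e | e <;> simp only [e, pow_zero, pow_one]
    exacts [k1 h5 h3, k1 h5 h4]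
  refine (mem_of_sq hb (H := cS (a t) N) hv (fun μ hμ => ⟨hN _, ?_⟩) r).2
  obtain ⟨T, h6, h7, h8⟩ := h1 μ hμ
  rw [← h7, ← h8]
  exact k1 h6 h5

end two

variable {m : ℕ} {K V G : Type*} [Field K] [AddCommGroup V] [Module K V] [Group G]
  {E : Eich m K V G} {k : Type*} [Field k]

lemma Emb.conj_tv {f : SpecialLinearGroup (Fin (m + 1)) K →* G} (hf : Emb E f) {g : G}
    {d : J m → K} (h : E.Mono g d 1) {i j : Fin (m + 1)} (hij : i ≠ j) (u : K) :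
    g * f (SL.tv i j u) * g⁻¹ = f (SL.tv i j (d (ps i) * (d (ps j))⁻¹ * u)) := by
  simp [hf.tv hij, h.conj_xl (in_ps hij).rev, h.rev_eq]

lemma X_le_sup {s : Bool} {hs : s = false → 1 ≤ m} {f : SpecialLinearGroup (Fin (m + 1)) K →* G}
    (hf : Emb E f) {f2 : SpecialLinearGroup (Fin 2) k →* G}
    (N : Nda (VC s m hs).toRoots (E.X s) (MonoidHom.id G) (Fin.last m) f2) {z : Sym2 (J m)}
    (hz : Ok s z) : E.Xz z ≤ f.range ⊔ f2.range := by
  obtain ⟨Z, h⟩ := exists_ZS (π := (f.range ⊔ f2.range).subtype) hf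
    (φ := f.codRestrict _ fun x => Subgroup.mem_sup_left ⟨x, rfl⟩) (fun _ => rfl)
    (ψ := f2.codRestrict _ fun x => Subgroup.mem_sup_right ⟨x, rfl⟩) (N.of_comp fun _ => rfl)
    fun i => ⟨Or.inl fun _ _ e => Subtype.ext e, Or.inl fun _ _ e => Subtype.ext e⟩
  rw [← h.lz.map z hz]
  exact Subgroup.map_subtype_le _

/-- The short node. -/
structure Em2 (A : E.SNA k) (a : J m) (f : SpecialLinearGroup (Fin 2) k →* G) : Prop where
  x : ∀ t, f (slx t) = E.T (E.e a) 0 (A.ι t * A.θ)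
  y : ∀ t, f (sly t) = E.T (E.e a.rev) 0 (A.ι t * (A.θ * E.κ a * E.κ a.rev)⁻¹)

lemma exists_em2 [Finite k] (A : E.SNA k) (a : J m) : ∃ f, Em2 A a f := by
  obtain ⟨f, h1, h2⟩ := H64.St2.exists_hom
    { x := (A.R a).y, y := (A.R a).x
      x_add := fun t u => ((A.R a).y_add t u).symm
      y_add := fun t u => ((A.R a).x_add t u).symm
      wx := fun t u ht => by
        have := (A.R a).w_y (t := -t⁻¹) (by simpa) u
        rwa [(A.R a).w_eq (by simpa), inv_neg, inv_inv, neg_neg, neg_sq] at this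
      wy := fun t u ht => (A.R a).rel t ht u }
  exact ⟨f, h1, h2⟩

namespace Em2

variable {A : E.SNA k} {a : J m} {f : SpecialLinearGroup (Fin 2) k →* G} (h : Em2 A a f)
include h

lemma act (g : SpecialLinearGroup (Fin 2) k) :
    E.ρ (f g) (E.e a) = A.ι (g.1 0 0) • E.e a -
      (A.ι (g.1 1 0) * (A.θ * E.κ a.rev)⁻¹) • E.e a.rev ∧
    E.ρ (f g) (E.e a.rev) = A.ι (g.1 1 1) • E.e a.rev -
      (A.ι (g.1 0 1) * (A.θ * E.κ a.rev)) • E.e a := by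
  have := A.θ_ne
  have := E.κ_ne a
  have := E.κ_ne a.rev
  induction g using sl2_ind with
  | h1 => simp
  | hx t g ih | hy t g ih =>
    simp only [map_mul f, ρ_mul, ih.1, ih.2, h.x, h.y, map_sub, map_smul, ρ_T ((A.P _).adm _),
      ρ_T ((A.P' a _).adm _), B_e_e, B_e_rev, B_rev_e, Matrix.SpecialLinearGroup.coe_mul, coe_slx,
      coe_sly, mul_apply, Fin.sum_univ_two]
    constructor <;> match_scalars <;> simp [B_e_e, B_e_rev, B_rev_e] <;> field_simp <;> ring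

lemma nd : Nd (E.S a) (E.S a.rev) f := by
  refine ⟨(injective_iff_map_eq_one f).2 fun g e => ?_, fun g => by simp only [A.mem_S, h.x],
    fun g => by simp only [h.y]; exact A.sn.mem_x a g⟩
  obtain ⟨h1, h2⟩ := h.act g
  have h3 := congrArg (E.B · (E.e a)) h1
  have h4 := congrArg (E.B · (E.e a.rev)) h1
  have h5 := congrArg (E.B · (E.e a)) h2
  have h6 := congrArg (E.B · (E.e a.rev)) h2
  simp [e, B_e_e, B_e_rev, B_rev_e, E.κ_ne, A.θ_ne, eq_comm (a := E.κ _),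
    map_eq_one_iff _ A.ι.injective] at h3 h4 h5 h6
  ext i j; fin_cases i <;> fin_cases j <;> simp [*]

lemma fix (g : SpecialLinearGroup (Fin 2) k) {x : J m} (hx : In a x) : E.ρ (f g) (E.e x) = E.e x :=
  S_le_Fix hx (h.nd.range.le ⟨g, rfl⟩)

lemma mono_h {t : k} (ht : t ≠ 0) : ∃ d, E.Mono (f (hm ht)) d 1 ∧ d a = A.ι t ∧
    ∀ x, In a x → d x = 1 := by
  refine ⟨fun x => if x = a then A.ι t else if x = a.rev then A.ι t⁻¹ else 1, fun x => ?_, by simp,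
    fun x hx => by simp [hx.1, hx.2]⟩
  rcases VC.in_cases a x with rfl | rfl | e
  · simp [h.act, coe_hm]
  · simp [h.act, coe_hm, J.rev_ne]
  · simp [h.fix _ e, e.1, e.2]

lemma mono_w {t : k} (ht : t ≠ 0) : ∃ d, E.Mono (f (hm ht * wm k)) d (VC.τp a a) := by
  refine ⟨fun x => if x = a then A.ι t⁻¹ * (A.θ * E.κ a.rev)⁻¹ else if x = a.rev then
    -(A.ι t * (A.θ * E.κ a.rev)) else 1, fun x => ?_⟩
  rcases VC.in_cases a x with rfl | rfl | e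
  · simp [-map_mul, h.act, coe_hm, coe_wm]
  · simp [-map_mul, h.act, coe_hm, coe_wm, J.rev_ne]
  · simp [-map_mul, h.fix _ e, e.1, e.2, VC.τ_in e e]

lemma conj {g : G} {d : J m → K} (hg : E.Mono g d 1) {v : k} (hv : v ≠ 0)
    (e : A.ι v = d a * E.σ (d a)) (x : SpecialLinearGroup (Fin 2) k) :
    g * f x * g⁻¹ = f (θ hv x) := by
  refine DFunLike.congr_fun (sl2_ext (φ := (MulAut.conj g).toMonoidHom.comp f)
    (ψ := f.comp (θ hv)) (fun u => ?_) fun u => ?_) x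
  · simp [θ_slx, h.x, hg.conj_T (A.P u), e, mul_assoc]
  · change g * _ * g⁻¹ = f (θ hv _)
    rw [θ_sly, h.y, h.y, hg.conj_T (A.P' a u)]
    simp [e, mul_assoc, hg.rev_eq, mul_left_comm]

end Em2

lemma exists_nrm (A : E.SNA k) {d : K} (hd : d ≠ 0) : ∃ v, v ≠ 0 ∧ A.ι v = d * E.σ d := by
  obtain ⟨v, e⟩ := (A.Λ_iff _).1 (by simpa using ((A.P 1).smul d).2)
  have := mul_right_cancel₀ A.θ_ne e
  exact ⟨v, by rintro rfl; simp [hd, eq_comm (a := (0 : K))] at this, this⟩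

lemma Em2.nda {A : E.SNA k} {f : SpecialLinearGroup (Fin 2) k →* G}
    (h : Em2 A (ps (Fin.last m)) f) {hs : true = false → 1 ≤ m} :
    Nda (VC true m hs).toRoots (E.X true) (MonoidHom.id G) (Fin.last m) f := by
  refine ⟨?_, fun t ht => ?_⟩
  · change Nd (E.Xz s(_, _)) (E.Xz s(_, _)) _
    rw [α1_last, α2_last, Xz_S, Xz_S]
    exact h.nd
  · obtain ⟨d, e⟩ := h.mono_w ht
    exact MA.acts ⟨_, _, e, fun r => (VC.refl_mk _ r).trans (by rw [α1_last, α2_last])⟩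

end H6.P6
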