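import Mathlib
import Cfsg.Agent.Lib.Pres6.Two

/-!
Short presentations of the symplectic and even unitary groups over `SL_n * SL₂`.
-/

set_option autoImplicit false

open scoped commutatorElement

namespace H6.P6

open H63.St H63.St.Eich H63.St.SL Matrix H77.Pres H64.St2 H40 Monoid

/-- The embedding of `SL₂` at the indices `i`, `j`. -/
structure Blk {Ω K : Type*} [Fintype Ω] [DecidableEq Ω] [Field K]
    (χ : SpecialLinearGroup (Fin 2) K →* SpecialLinearGroup Ω K) (i j : Ω) : Prop where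
  inj : Function.Injective χ
  x : ∀ t, χ (slx t) = tv i j t
  y : ∀ t, χ (sly t) = tv j i t
  range : χ.range = Bl K {i, j}
  h : ∀ t (ht : t ≠ 0), χ (hm ht) = hd ht i j
  w : Mn (χ (wm K)) (Equiv.swap i j) fun b => if b = i then -1 else 1

lemma exists_blk' {Ω K : Type*} [Fintype Ω] [DecidableEq Ω] [Field K] {i j : Ω} (h : i ≠ j) :
    ∃ χ : SpecialLinearGroup (Fin 2) K →* _, Blk χ i j := by
  obtain ⟨χ, h0, h1, h2, h3, h4, h5⟩ := exists_blk2 (K := K) h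
  exact ⟨χ, h0, h1, h2, h3, h4, h5⟩

variable {m : ℕ} {K V G Γ : Type*} [Field K] [AddCommGroup V] [Module K V] [Group G] [Group Γ]
  {k : Type*} [Field k] {π : Γ →* G}

lemma σ_val {s : Bool} {hs : s = false → 1 ≤ m} (i : Fin (m + 1)) (r : PR s m) :
    ((VC s m hs).toRoots.σ i r).1 = r.1.map (VC.τp (VC.α1 s i) (VC.α2 i)) := VC.refl_mk _ r

lemma α_val {s : Bool} {hs : s = false → 1 ≤ m} (i : Fin (m + 1)) :
    ((VC s m hs).toRoots.α i).1 = s(VC.α1 s i, VC.α2 i) := rfl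

lemma Emb.nda' {s : Bool} {hs : s = false → 1 ≤ m} {E : Eich m K V G}
    {f : SpecialLinearGroup (Fin (m + 1)) K →* G} (hf : Emb E f)
    {φ : SpecialLinearGroup (Fin (m + 1)) K →* Γ} (hφ : ∀ g, π (φ g) = f g) {i : Fin m}
    {χ : SpecialLinearGroup (Fin 2) K →* _} (h : Blk χ i.castSucc i.succ) :
    Nda (VC s m hs).toRoots (E.X s) π i.castSucc (φ.comp χ) := by
  refine ⟨?_, fun t ht => ?_⟩
  · have := hf.nd (cs_ne i) h.inj h.x h.y
    rw [← E.Xz_L (in_ps (cs_ne i)).rev, ← E.Xz_L (in_ps (cs_ne i)).rev'] at this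
    change Nd (E.Xz s(_, _)) (E.Xz s(_, _)) _
    rwa [α1_cs, α2_cs, Fin.rev_rev, ← MonoidHom.comp_assoc, show π.comp φ = f from MonoidHom.ext hφ]
  · obtain ⟨η, h6⟩ := mn_hm_wm h.h h.w ht
    exact hφ _ ▸ hf.acts h6

lemma Emb.mono_hd {E : Eich m K V G} {f : SpecialLinearGroup (Fin (m + 1)) K →* G} (hf : Emb E f)
    {t : K} (ht : t ≠ 0) (i j : Fin (m + 1)) :
    ∃ d, E.Mono (f (hd ht i j)) d 1 ∧ ∀ a, d (ps a) = t ^ ep i j a := by
  obtain ⟨d, h1, h2, -⟩ := hf.mono (mn_hd ht i j)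
  exact ⟨d, lp_one (m := m) ▸ h1, h2⟩

@[simp] lemma τ_rev_right (a b : J m) : VC.τ a b.rev b = a := by
  simpa using VC.τ_right_rev a b.rev

lemma Mv.cj {s : Bool} {Z : Sym2 (J m) → Subgroup Γ} {g : Γ} (h : Mv s Z g 1) {a b : J m}
    (e : Ok s s(a, b)) : Cj g (Z s(a, b)) (Z s(a, b)) := (h a b e).1

variable {E : Eich (m + 1) K V G} {A : E.SNA k} {f : SpecialLinearGroup (Fin (m + 2)) K →* G}
  {f2 : SpecialLinearGroup (Fin 2) k →* G} {φ : SpecialLinearGroup (Fin (m + 2)) K →* Γ}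
  {ψ : SpecialLinearGroup (Fin 2) k →* Γ}
  {χ : SpecialLinearGroup (Fin 2) K →* SpecialLinearGroup (Fin (m + 2)) K}

set_option hygiene false in
local notation "p₀" => Fin.castSucc (Fin.last m)
set_option hygiene false in
local notation "l₀" => Fin.last (m + 1)

lemma pl_ne : p₀ ≠ l₀ := cs_ne (Fin.last m)

section

variable (hf : Emb E f) (h2 : Em2 A (ps l₀) f2) (hφ : ∀ g, π (φ g) = f g)
  (hψ : ∀ g, π (ψ g) = f2 g) (hχ : Blk χ p₀ l₀)
  (T : Two (VC true (m + 1) A.hyp.le).toRoots (E.X true) π p₀ l₀ (φ.comp χ) ψ)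
include hf h2 hφ hψ hχ T

lemma tor_act {t : Γ} (ht : t ∈ T2 (E.X true) π (φ.comp χ).range ψ.range) {d : J (m + 1) → K}
    (hd : E.Mono (π t) d 1) : (∀ i ∈ ({p₀, l₀} : Set _), ∀ j ∈ ({p₀, l₀} : Set _), i ≠ j → ∀ u,
      t * φ (tv i j u) * t⁻¹ = φ (tv i j (d (ps i) * (d (ps j))⁻¹ * u))) ∧
      ∀ v (hv : v ≠ 0), A.ι v = d (ps l₀) * E.σ (d (ps l₀)) → ∀ x, t * ψ x * t⁻¹ = ψ (θ hv x) := by
  refine ⟨fun i hi j hj hij u => ?_, fun v hv e x => eq_of_inj T.n2.inj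
    (cj_of_norm ht.1.2 _ ⟨_, rfl⟩) ⟨_, rfl⟩ (by simp [hψ, h2.conj hd hv e])⟩
  have k : ∀ u, φ (tv i j u) ∈ (φ.comp χ).range := fun u => by
    rw [MonoidHom.range_comp, hχ.range]; exact ⟨_, tv_mem hi hj u, rfl⟩
  exact eq_of_inj T.n1.inj (cj_of_norm ht.1.1 _ (k u)) (k _) (by simp [hφ, hf.conj_tv hd hij])

lemma tor_ex {μ : K} (hμ : μ ≠ 0) {ν : k} (hν : ν ≠ 0) : ∃ d,
    φ (hd hμ p₀ l₀) * ψ (hm hν) ∈ T2 (E.X true) π (φ.comp χ).range ψ.range ∧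
    E.Mono (π (φ (hd hμ p₀ l₀) * ψ (hm hν))) d 1 ∧ d (ps p₀) = μ ∧ d (ps l₀) = A.ι ν * μ⁻¹ := by
  obtain ⟨d, h3, h4⟩ := hf.mono_hd hμ p₀ l₀
  obtain ⟨d', h5, h6, h7⟩ := h2.mono_h hν
  refine ⟨_, mul_mem (hχ.h μ hμ ▸ T.hm_mem hμ) (T.hm_mem' hν), by
    simpa [hφ, hψ] using h3.mul h5, ?_, ?_⟩
  · simp [h4, h7 _ (in_ps pl_ne.symm), ep, pl_ne]
  · simp [h4, h6, ep, pl_ne.symm]

theorem thmC [Finite K] [Finite k] (ha : Cm ((Bl K {l₀}ᶜ).map φ) ψ.range ⊥)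
    (hd : Cj (φ (χ (wm K)))⁻¹ ψ.range (Subgroup.centralizer ψ.range))
    (he : Cj ((ψ (wm k))⁻¹ * φ (χ (wm K)) * ψ (wm k)) (φ.comp χ).range (φ.comp χ).range)
    {ζ : K} (hζ : ∀ a : K, a ≠ 0 → ∃ n : ℕ, ζ ^ n = a)
    (h3 : ∀ t ∈ [1, ζ], Commute (φ (tv l₀ p₀ t)) (ψ (slx 1)))
    (h4 : ∀ t ∈ [1, ζ], ∃ r u, ⁅φ (tv p₀ l₀ t), ψ (slx 1)⁆ =
      φ (χ (wm K)) * ψ (slx r) * (φ (χ (wm K)))⁻¹ * (ψ (wm k) * φ (tv p₀ l₀ u) * (ψ (wm k))⁻¹)) :
    ∀ y ∈ φ.range ⊔ ψ.range, π y = 1 → y = 1 := by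
  have b0 := in_ps (pl_ne (m := m))
  obtain ⟨Z, z⟩ := exists_ZS hf hφ T.n2 fun i => by
    by_cases e : i = Fin.last m
    · subst e
      rw [Fin.succ_last, ← hχ.range, ← MonoidHom.range_comp]
      refine ⟨T.pair he (Subtype.ext ?_) fun e => ?_, T.symm.pair (fun y hy => ?_)
        (Subtype.ext ?_) fun e => ?_⟩
      · simp only [σ_val, α_val]
        simp [α1_cs, α2_cs, α1_last, α2_last, VC.τ_in b0.symm b0.symm, VC.τ_rev]
      · have := congrArg Subtype.val e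
        simp only [σ_val, α_val] at this
        simp [α1_cs, α2_cs, α1_last, α2_last, VC.τ_in b0.symm b0.symm, VC.τ_rev] at this
      · have := hd _ ⟨wm k, rfl⟩ y hy
        rw [inv_inv] at this
        rwa [MonoidHom.comp_apply, ← this, mul_inv_cancel_right]
      · simp only [σ_val, α_val]
        simp [α1_cs, α2_cs, α1_last, α2_last, VC.τ_in b0.symm b0.symm, VC.τ_rev]
      · have := congrArg Subtype.val e
        simp only [σ_val, α_val] at this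
        simp [α1_cs, α2_cs, α1_last, α2_last, pl_ne] at this
    · have e1 : i.castSucc ≠ l₀ := (Fin.castSucc_lt_last i).ne
      have e2 : i.succ ≠ l₀ := fun h => e (Fin.succ_inj.1 h)
      have b1 := in_ps e1
      have b2 := in_ps e2
      have h5 := ha.mono (Subgroup.map_mono (Bl_two_le (fun t => tv_mem e1 e2 t)
        fun t => tv_mem e2 e1 t)) le_rfl le_rfl
      refine ⟨pairC_norm (fun _ h _ => h5.cj h) (Subtype.ext ?_),
        pairC_norm (fun _ h _ => h5.symm.cj h) (Subtype.ext ?_)⟩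
      · simp only [σ_val, α_val]
        simp [α1_cs, α2_cs, α1_last, α2_last, VC.τ_in b1.symm b1.symm, VC.τ_rev,
          VC.τ_in b2.symm b2.symm]
      · simp only [σ_val, α_val]
        simp [α1_cs, α2_cs, α1_last, α2_last, VC.τ_in b1 b2.rev']
  have e0 : VC.α1 true l₀ = ps l₀ := α1_last.trans α2_last
  have zx : ∀ r, ψ (slx r) ∈ Z s(ps l₀, ps l₀) := e0 ▸ z.x
  have zx' : ∀ y ∈ Z s(ps l₀, ps l₀), ∃ r, ψ (slx r) = y := fun y hy => z.le_x T.n2 (e0 ▸ hy)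
  have zx2 : Z s(ps l₀, ps l₀) ≤ ψ.range := fun y hy => (zx' y hy).elim fun _ e => ⟨_, e⟩
  have zl : ∀ t (ht : t ≠ 0), Mv true Z (ψ (hm ht * wm k)) (VC.τp (ps l₀) (ps l₀)) := e0 ▸ z.ml
  have n2 : Mv true Z (ψ (wm k)) (VC.τp (ps l₀) (ps l₀)) := by
    simpa [hm_one one_ne_zero rfl] using zl 1 one_ne_zero
  have n1 := z.mw (Fin.last m) _ (hχ.range.le ⟨_, rfl⟩) _ hχ.w
  have tz : ∀ μ (hμ : μ ≠ 0) ν (hν : ν ≠ 0), Mv true Z (φ (H77.Pres.hd hμ p₀ l₀) * ψ (hm hν)) 1 :=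
    fun μ hμ ν hν => by
      have := (zl ν hν).mul (n2.inv (VC.τ_rev _ _)) (VC.τ_rev _ _)
      rw [map_mul, mul_inv_cancel_right, mul_inv_cancel] at this
      exact (z.mh μ hμ _ _).mul this fun _ => rfl
  have sp : ∀ i ∈ ({p₀, l₀} : Set _), ∀ j ∈ ({p₀, l₀} : Set _), i ≠ j → ∀ N : Subgroup Γ,
      (∀ g, Mv true Z g 1 → Cj g N N) → (∀ r, Cj (ψ (slx r)) N N) →
      (∀ t ∈ [1, ζ], ⁅φ (tv i j t), ψ (slx 1)⁆ ∈ N) →
      Cm (Z s(ps i, (ps j).rev)) (Z s(ps l₀, ps l₀)) N := by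
    intro i hi j hj hij N a1 a2 a3 x hx y hy
    obtain ⟨t, rfl⟩ := z.lz.ex_tv hf hφ z.tv hij hx
    obtain ⟨r, rfl⟩ := zx' y hy
    refine spread (a := fun t => φ (tv i j t)) (b := fun r => ψ (slx r)) (by simp)
      (fun r r' => by rw [← map_mul, ← slx_isAdd]) (fun r => norm_of_cj (a2 r) (by
        rw [← map_inv]; exact (sl k).x_neg r ▸ a2 (-r))) (fun μ hμ => ?_) (fun μ hμ => ?_) hζ
      (a3 _ (by simp)) (a3 _ (by simp)) t r
    · have h0 : A.ι μ ≠ 0 := by simpa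
      obtain ⟨d, d1, d2, d3, d4⟩ := tor_ex hf h2 hφ hψ hχ T h0 (pow_ne_zero 2 hμ)
      obtain ⟨d5, d6⟩ := tor_act hf h2 hφ hψ hχ T d1 d2
      rw [map_pow, sq, mul_inv_cancel_right₀ h0] at d4
      refine ⟨_, a1 _ (tz _ h0 _ _), fun u => (d5 i hi j hj hij u).trans ?_, fun r => by
        rw [d6 _ (pow_ne_zero 2 hμ) (by rw [d4, A.σι, map_pow, sq]), θ_slx]⟩
      rcases hi with rfl | rfl <;> rcases hj with rfl | rfl <;> simp [d3, d4, h0]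
    · obtain ⟨ξ, h0, e⟩ : ∃ ξ : K, ξ ≠ 0 ∧ ξ = if i = p₀ then μ else μ⁻¹ :=
        ⟨_, by split_ifs <;> simpa, rfl⟩
      obtain ⟨d, d1, d2, d3, d4⟩ := tor_ex hf h2 hφ hψ hχ T h0 one_ne_zero
      obtain ⟨d5, d6⟩ := tor_act hf h2 hφ hψ hχ T d1 d2
      obtain ⟨v, hv, d7⟩ := exists_nrm A (d2.ne (ps l₀))
      refine ⟨_, v, hv, a1 _ (tz _ h0 _ _), fun u => (d5 i hi j hj hij u).trans ?_, by
        rw [d6 _ hv d7, θ_slx, mul_one]⟩
      rcases hi with rfl | rfl <;> rcases hj with rfl | rfl <;> simp_all [sq, pl_ne.symm]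
  have pw := z.pw
  have c45 : ∀ a b, In a b → Cm (Z s(a, b)) (Z s(a, a)) ⊥ :=
    all2 (hs := A.hyp.le) (fun τ hτ a b h H => (pw τ hτ).elim fun g hg =>
      H.of_conj (hg _ _ h.ok).1 (hg _ _ (ok_diag _)).1 (cj_bot _)) b0.symm.rev
      (sp _ (by simp) _ (by simp) pl_ne.symm ⊥ (fun _ _ => cj_bot _) (fun _ => cj_bot _)
        fun t ht => (h3 t ht).commutator_eq) (by simp)
  have cSS : ∀ a b, In a b → Cm (Z s(a, a)) (Z s(b, b)) ⊥ :=
    all2 (hs := A.hyp.le) (fun τ hτ a b h H => (pw τ hτ).elim fun g hg =>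
      H.of_conj (hg _ _ (ok_diag _)).1 (hg _ _ (ok_diag _)).1 (cj_bot _)) b0.symm
      (Cm.of_conj (g := (φ (χ (wm K)))⁻¹) (cm_bot fun x hx y hy => (hx y hy).symm)
        (hd.mono zx2 le_rfl) (by simpa using (n1 _ _ (ok_diag (ps l₀))).2.mono le_rfl zx2)
        (cj_bot _)) (by simp)
  have c135 : ∀ a b, In a b → Cm (Z s(a, b)) (Z s(b.rev, b.rev)) (Z s(a, a) ⊔ Z s(a, b.rev)) := by
    refine all2 (hs := A.hyp.le) (fun τ hτ a b h H => (pw τ hτ).elim fun g hg =>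
      H.of_conj (hg _ _ h.ok).1 (hτ.1 b ▸ (hg _ _ (ok_diag _)).1)
        ((hg _ _ (ok_diag _)).2.sup' (hτ.1 b ▸ (hg _ _ h.rev.ok).2))) b0.rev ?_ (by simp)
    rw [Fin.rev_rev]
    refine sp _ (by simp) _ (by simp) pl_ne _ (fun g hg => (hg.cj (ok_diag _)).sup' (hg.cj b0.ok))
      (fun r => ((cSS _ _ b0).cj (zx r)).sup' ?_) fun t ht => ?_
    · exact Sym2.eq_swap (a := ps l₀) ▸ (c45 _ _ b0.symm).cj (zx r)
    · obtain ⟨r, u, e⟩ := h4 t ht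
      refine e ▸ mul_mem (Subgroup.mem_sup_left ?_) (Subgroup.mem_sup_right ?_)
      · simpa using (n1 _ _ (ok_diag _)).1 _ (zx r)
      · simpa [VC.τ_in b0.symm b0.symm] using (n2 _ _ b0.rev.ok).1 _ (z.tv _ _ pl_ne u)
  refine fun y hy => z.lz.ker_SNA hf hφ z.tv A (z.lz.rl hf hφ z.tv pw (by simp))
    ⟨fun a b h => z.lz.c90b A.hyp h (c45 a b h) (c45 _ _ h.rev) (c135 a b h), c45,
      all3 (hs := A.hyp.le) (fun τ hτ a b c h _ _ H => (pw τ hτ).elim fun g hg =>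
        H.of_conj (hg _ _ h.ok).1 (hg _ _ (ok_diag _)).1 (cj_bot _)) fun h => ?_, c135,
      fun a b h => (cSS a b h).mono le_rfl le_rfl bot_le⟩ (z.rk A.hyp T.n2) y (z.top hy)
  have e1 : 0 ≠ p₀ := by simp [Fin.ext_iff]; omega
  have e2 : 0 ≠ l₀ := by simp [Fin.ext_iff]
  exact ⟨_, _, _, (in_ps e1).rev, in_ps e2, b0.rev', ha.mono (z.lz.le_Bl hf hφ z.tv e1 e2 pl_ne)
    zx2 le_rfl, by simp⟩

end

section cost

universe u

variable {P : Type u} [Group P] {F : P →* G} {H H' : Type*} [Group H] [Group H']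

lemma gen_map (α : H →* P) {A : Subgroup H} {a b : H} (h : Subgroup.closure {a, b} = A) :
    Subgroup.closure {x | x ∈ [α a, α b]} = A.map α := by
  rw [← h, MonoidHom.map_closure, Set.image_pair]; congr 1; ext; simp

lemma gen_range [Finite k] (α : SpecialLinearGroup (Fin 2) k →* P) :
    ∃ a b, Subgroup.closure {x | x ∈ [a, b]} = α.range := by
  obtain ⟨a, b, h⟩ := sl_two_gen k 2
  exact ⟨_, _, (gen_map α h).trans α.range_eq_map.symm⟩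

lemma Cost.cjR [Finite k] (α : SpecialLinearGroup (Fin 2) k →* P) (g : P)
    (h : Cj (F g) (F.comp α).range (F.comp α).range) :
    Cost F 2 fun _ _ q => Cj (q g) (q.comp α).range (q.comp α).range := by
  obtain ⟨a, b, e⟩ := gen_range α
  simp only [MonoidHom.range_comp] at h ⊢
  exact Cost.cj _ e h

end cost

lemma Mono_cjL {E : Eich m K V G} {g : G} {d : J m → K} {τ : Equiv.Perm (J m)} (h : E.Mono g d τ)
    {a b : J m} (e : In a b) : Cj g (E.L a b) (E.L (τ a) (τ b)) := fun _ => h.conj_L e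

lemma Mono_cjS {E : Eich m K V G} {g : G} {d : J m → K} {τ : Equiv.Perm (J m)} (h : E.Mono g d τ)
    (a : J m) : Cj g (E.S a) (E.S (τ a)) := fun _ => h.conj_S

lemma Cm.sup_bot {A B C : Subgroup Γ} (h : Cm A C ⊥) (h' : Cm B C ⊥) : Cm (A ⊔ B) C ⊥ :=
  cm_bot fun x hx y hy => ((sup_le (fun _ hx _ hy => (h.commute hx hy).eq.symm)
    (fun _ hx _ hy => (h'.commute hx hy).eq.symm) : _ ≤ Subgroup.centralizer C) hx y hy).symm

lemma cmLS {E : Eich m K V G} {a b c : J m} (h1 : In a b) (h2 : In a c) (h3 : In b c) :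
    Cm (E.L a b) (E.S c ⊔ E.S c.rev) ⊥ := by
  have : ∀ {c}, In a c → In b c → Cm (E.S c) (E.L a b) ⊥ := fun h2 h3 => cm_bot (by
    rintro _ ⟨v, k, hv, rfl⟩ _ ⟨t, rfl⟩; exact (E.c90S h1 h2 h3 hv t).symm)
  exact ((this h2 h3).sup_bot (this h2.rev h3.rev)).symm

lemma cmSS {E : Eich m K V G} (A : E.SNA k) {a b : J m} (h : In a b) :
    Cm (E.S a ⊔ E.S a.rev) (E.S b ⊔ E.S b.rev) ⊥ := by
  have : ∀ {a b}, In a b → Cm (E.S a) (E.S b) ⊥ := fun h => by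
    rintro _ ⟨v, k, hv, rfl⟩ _ ⟨w, l, hw, rfl⟩
    rw [E.cSS h hv hw, A.V0_eq _ hv.1]; simp
  exact ((this h.symm).sup_bot (this h.rev.symm)).symm.sup_bot
    ((this h.rev'.symm).sup_bot (this h.rev.rev'.symm)).symm

theorem cost_C [Finite K] [Finite k] (hf : Emb E f) (h2 : Em2 A (ps l₀) f2) {na nd ne : ℕ}
    (ha : m = 0 ∨ 4 ≤ na) (hd : GenL k nd fun v => ∃ ξ, A.ι v = ξ * E.σ ξ)
    (he : GenL K ne fun v => ∃ μ, v = μ ^ 2) :
    Cost (Coprod.lift f f2) (na + 8 + nd * 2 + ne) fun J _ q => Function.Surjective q →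
      ∀ π : J →* G, (∀ x, π (q x) = Coprod.lift f f2 x) → ∀ y, π y = 1 → y = 1 := by
  obtain ⟨χ, hχ⟩ := exists_blk' (K := K) (pl_ne (m := m))
  obtain ⟨ζ, hζ0, hζ, -⟩ := exists_prim K
  obtain ⟨ν, hν0, hν, -⟩ := exists_prim k
  obtain ⟨Ld, d1, d2⟩ := hd
  obtain ⟨Le, e1, e2⟩ := he
  have b0 := in_ps (pl_ne (m := m))
  have r1 : (f.comp χ).range = E.L (ps p₀) (ps l₀).rev ⊔ E.L (ps p₀).rev (ps l₀) := by
    rw [MonoidHom.range_comp, hχ.range, hf.map_Bl pl_ne]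
  have r2 := h2.nd.range
  obtain ⟨w1, n1, -⟩ := hf.mono hχ.w
  obtain ⟨w3, n3, -⟩ := hf.mono hχ.w.inv
  rw [map_inv, Equiv.swap_inv] at n3
  obtain ⟨w2, n2⟩ := h2.mono_w one_ne_zero
  rw [hm_one _ rfl, one_mul] at n2
  have ca : Cost (Coprod.lift f f2) na fun J _ q => Cm ((Bl K {l₀}ᶜ).map (q.comp Coprod.inl))
      (q.comp Coprod.inr).range ⊥ := by
    rcases ha with rfl | ha
    · refine Cost.zero fun J _ q => Cm.mono (A := ⊥) (by rintro _ rfl; simp) ?_ le_rfl le_rfl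
      rw [Subgroup.map_le_iff_le_comap]
      exact Bl_le fun i hi j hj h => absurd (by fin_cases i <;> fin_cases j <;> simp_all) h
    obtain ⟨a, b, h⟩ := Bl_two_gen K ({l₀}ᶜ : Set (Fin (m + 2)))
    obtain ⟨a', b', h'⟩ := gen_range (Coprod.inr : _ →* Coprod (SpecialLinearGroup (Fin (m + 2)) K)
      (SpecialLinearGroup (Fin 2) k))
    refine ((Cost.cm _ _ (gen_map Coprod.inl h) h' ?_).imp fun J _ q hq => by
      rwa [Subgroup.map_map, ← MonoidHom.range_comp] at hq).le ha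
    rw [Subgroup.map_map, ← MonoidHom.range_comp, Coprod.lift_comp_inl, Coprod.lift_comp_inr, r2]
    refine cm_bot fun x hx y hy => ((?_ : _ ≤ Subgroup.centralizer _) hx y hy).symm
    rw [Subgroup.map_le_iff_le_comap]
    exact Bl_le fun i hi j hj h t y hy => ((cmLS (in_ps h).rev (in_ps hi) (in_ps hj).rev').commute
      ((hf.mem_L h _).2 ⟨t, rfl⟩) hy).symm
  have cb := Cost.cjR (F := Coprod.lift f f2) Coprod.inr (Coprod.inl (χ (hm hζ0))) (by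
    obtain ⟨d, h3, -⟩ := hf.mono_hd hζ0 p₀ l₀
    rw [Coprod.lift_comp_inr, r2, Coprod.lift_apply_inl, hχ.h]
    exact (Mono_cjS h3 _).sup' (Mono_cjS h3 _))
  have cc := Cost.cjR (F := Coprod.lift f f2) (Coprod.inl.comp χ) (Coprod.inr (hm hν0)) (by
    obtain ⟨d, h3, -⟩ := h2.mono_h hν0
    rw [← MonoidHom.comp_assoc, Coprod.lift_comp_inl, r1, Coprod.lift_apply_inr]
    exact (Mono_cjL h3 b0.rev).sup' (Mono_cjL h3 b0.rev'))
  obtain ⟨a', b', h'⟩ := gen_range (Coprod.inr : _ →* Coprod (SpecialLinearGroup (Fin (m + 2)) K)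
    (SpecialLinearGroup (Fin 2) k))
  have cd := Cost.list Ld fun x _ => Cost.comm1 (f := Coprod.lift f f2)
    (x := (Coprod.inl (χ (wm K)))⁻¹ * Coprod.inr x * Coprod.inl (χ (wm K))) _ h' (by
      rintro _ ⟨y, rfl⟩
      refine (cmSS A b0).commute ?_ (r2.le ⟨y, rfl⟩)
      simpa using ((Mono_cjS n3 _).sup' (Mono_cjS n3 _)) _ (r2.le ⟨x, rfl⟩))
  have ce := Cost.list Le fun x _ => Cost.mem (f := Coprod.lift f f2)
    (H := (Coprod.inl.comp χ).range) (x := (Coprod.inr (wm k))⁻¹ * Coprod.inl (χ (wm K)) *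
      Coprod.inr (wm k) * Coprod.inl (χ x) * ((Coprod.inr (wm k))⁻¹ * Coprod.inl (χ (wm K)) *
        Coprod.inr (wm k))⁻¹) (by
      have h3 := (n2.inv.mul n1).mul n2
      rw [← MonoidHom.range_comp, ← MonoidHom.comp_assoc, Coprod.lift_comp_inl, r1]
      simpa [VC.τ_in b0.symm b0.symm, VC.τ_rev, E.L_comm (ps l₀), E.L_comm (ps l₀).rev] using
        ((Mono_cjL h3 b0.rev).sup' (Mono_cjL h3 b0.rev')) _ (r1.le ⟨x, rfl⟩))
  have cf := Cost.list [1, ζ] fun t _ => Cost.comm (f := Coprod.lift f f2)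
    (x := Coprod.inl (tv l₀ p₀ t)) (y := Coprod.inr (slx 1)) (by
      simpa [hf.tv pl_ne.symm, h2.x] using E.c45 b0.symm.rev (A.P 1) _)
  have cg := Cost.list [1, ζ] (n := 1) (C := fun t J _ q => ∃ r u,
      ⁅q (Coprod.inl (tv p₀ l₀ t)), q (Coprod.inr (slx 1))⁆ = q (Coprod.inl (χ (wm K))) *
        q (Coprod.inr (slx r)) * (q (Coprod.inl (χ (wm K))))⁻¹ * (q (Coprod.inr (wm k)) *
          q (Coprod.inl (tv p₀ l₀ u)) * (q (Coprod.inr (wm k)))⁻¹))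
    (f := Coprod.lift f f2) fun t _ => by
      obtain ⟨x, hx, z, hz, h3⟩ : ∃ x ∈ E.S (ps p₀), ∃ z ∈ E.L (ps p₀) (ps l₀),
          ⁅f (tv p₀ l₀ t), f2 (slx 1)⁆ = x * z := by
        have h3 := E.c135 b0.rev (A.P 1) (E.σ t)
        rw [← commutatorElement_inv, inv_eq_iff_eq_inv, _root_.mul_inv_rev, Fin.rev_rev, ← h2.x,
          ← hf.tv pl_ne, ((E.c45 b0 ((A.P 1).neg.smul _) _).inv_inv).eq] at h3
        exact ⟨_, inv_mem (((A.P 1).neg.smul _).mem _), _, inv_mem (E.xl_mem _ _ _), h3⟩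
      obtain ⟨r, hr⟩ := (h2.nd.mem_x _).1 (show (f (χ (wm K)))⁻¹ * x * f (χ (wm K)) ∈ _ by
        simpa using Mono_cjS n3 _ _ hx)
      obtain ⟨u, hu⟩ := (hf.mem_L pl_ne _).1 (show (f2 (wm k))⁻¹ * z * f2 (wm k) ∈ _ by
        simpa [VC.τ_in b0.symm b0.symm] using Mono_cjL n2.inv b0 _ hz)
      refine (Cost.eq (x := Coprod.inl (tv p₀ l₀ t) * Coprod.inr (slx 1) * (Coprod.inl (tv p₀ l₀ t))⁻¹ *
          (Coprod.inr (slx 1))⁻¹)
        (y := Coprod.inl (χ (wm K)) * Coprod.inr (slx r) * (Coprod.inl (χ (wm K)))⁻¹ *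
          (Coprod.inr (wm k) * Coprod.inl (tv p₀ l₀ u) * (Coprod.inr (wm k))⁻¹)) ?_).imp
        fun J _ q hq => ⟨r, u, by simpa only [commutatorElement_def, map_mul, map_inv] using hq⟩
      simpa [hr, hu, mul_assoc, commutatorElement_def] using h3
  refine ((((((ca.and cb).and cc).and cd).and ce).and cf).and cg |>.imp ?_).le (by simp; omega)
  rintro J _ q ⟨⟨⟨⟨⟨⟨a1, a2⟩, a3⟩, a4⟩, a5⟩, a6⟩, a7⟩ hq π hπ y
  have hφ : ∀ g, π ((q.comp Coprod.inl) g) = f g := fun g => hπ _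
  have hψ : ∀ g, π ((q.comp Coprod.inr) g) = f2 g := fun g => hπ _
  have T : Two (VC true (m + 1) A.hyp.le).toRoots (E.X true) π p₀ l₀ ((q.comp Coprod.inl).comp χ)
      (q.comp Coprod.inr) := ⟨hf.nda' hφ hχ, h2.nda.of_comp hψ, cj_hm hζ a2, cj_hm hν a3⟩
  refine thmC hf h2 hφ hψ hχ T a1 (cj_of_genL d2 (fun x hx z hz => ?_) ?_)
    (cj_of_genL e2 (fun x hx => ?_) ?_) hζ a6 a7 y ?_
  · simpa using (a4 x hx z ((MonoidHom.range_comp q _).le hz)).symm.eq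
  · rintro v hv ⟨ξ, e⟩
    have h0 : ξ ≠ 0 := by rintro rfl; simp [hv] at e
    obtain ⟨d, h3, h4, -, h5⟩ := tor_ex hf h2 hφ hψ hχ T (inv_ne_zero h0) one_ne_zero
    exact ⟨_, by rw [inv_inv]; exact (cj_of_norm (inv_mem (T.conj_w h3).2).1.2).centralizer,
      (tor_act hf h2 hφ hψ hχ T h3 h4).2 v hv (by simp [e, h5])⟩
  · have := a5 x hx
    simp only [map_mul, map_inv, ← MonoidHom.range_comp] at this
    exact this
  · rintro _ hv ⟨μ, rfl⟩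
    have h0 : μ ≠ 0 := by rintro rfl; simp at hv
    refine ⟨_, ?_, fun x => by rw [← hm_conj h0, map_mul, map_mul, map_inv]⟩
    simpa [mul_assoc] using
      cj_of_norm (T.conj_w' (T.conj_w (T.conj_w' (T.hm_mem h0)).1).1).2.1.1
  · rw [← Coprod.range_eq]
    exact hq y

lemma Em2.top (hf : Emb E f) (h2 : Em2 A (ps l₀) f2) (hg : E.Gen) : f.range ⊔ f2.range = ⊤ :=
  eq_top_iff.2 ((A.hyp.top hg (by simp)).ge.trans
    (XS_le.2 fun r _ => X_le_sup hf (h2.nda (hs := A.hyp.le)) r.2))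

theorem pr_C [Finite K] [Finite k] (hf : Emb E f) (h2 : Em2 A (ps l₀) f2) (hg : E.Gen)
    {na nd ne : ℕ} (ha : m = 0 ∨ 4 ≤ na) (hd : GenL k nd fun v => ∃ ξ, A.ι v = ξ * E.σ ξ)
    (he : GenL K ne fun v => ∃ μ, v = μ ^ 2) {ι κ : Type} {g : ι → _} {g' : κ → _} {r r' : ℕ}
    (h : Pr g r) (h' : Pr g' r') : Pr (Sum.elim (fun i => f (g i)) fun i => f2 (g' i))
      (r + r' + (na + 8 + nd * 2 + ne)) := by
  convert pr_of_cost (pr_coprod h h') (MonoidHom.range_eq_top.1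
    ((Coprod.range_lift f f2).trans (h2.top hf hg))) (cost_C hf h2 ha hd he) using 1
  ext (i | i) <;> rfl

theorem hasPr_C [Finite K] [Finite k] (A : E.SNA k) (hg : E.Gen) {na d d' r r' : ℕ}
    (ha : m = 0 ∨ 4 ≤ na) (h : HasPr (SpecialLinearGroup (Fin (m + 2)) K) d r)
    (h' : HasPr (SpecialLinearGroup (Fin 2) k) d' r') : HasPr G (d + d') (r + r' + (na + 14)) := by
  obtain ⟨c, hc, h1⟩ := exists_nm E
  obtain ⟨f, hf⟩ := h1.exists_emb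
  obtain ⟨f2, h2⟩ := exists_em2 (rescaleA A c hc) (ps l₀)
  obtain ⟨g, h⟩ := h
  obtain ⟨g', h'⟩ := h'
  exact (pr_C hf h2 hg ha (genL_two _) (genL_two _) h h').hasPr (by simp) (by simp)

theorem hasPr_C' [Finite K] [Finite k] (A : E.SNA k) (hg : E.Gen) {na d r r' : ℕ}
    (ha : m = 0 ∨ 4 ≤ na) (h : HasPr (SpecialLinearGroup (Fin (m + 2)) K) d r)
    {x : SpecialLinearGroup (Fin 2) k} (h' : Pr ![slx 1, x, wm k] r') {ξ μ : K} (h0 : ξ ≠ 0)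
    (h1 : ξ * E.σ ξ ≠ 1) (h2 : μ ≠ 0) (h3 : μ ^ 2 ≠ 1) : HasPr G (d + 2) (r + r' + (na + 11)) := by
  obtain ⟨c, hc, h4⟩ := exists_nm E
  obtain ⟨f, hf⟩ := h4.exists_emb
  obtain ⟨f2, h5⟩ := exists_em2 (rescaleA A c hc) (ps l₀)
  obtain ⟨g, h⟩ := h
  obtain ⟨v, hv, e⟩ := exists_nrm A h0
  have e1 : ∀ μ : k, A.ι (μ ^ 2) = A.ι μ * E.σ (A.ι μ) := fun μ => by rw [A.σι, map_pow, sq]
  refine ((pr_C hf h5 hg ha (genL_one (fun μ _ => ⟨_, e1 μ⟩) hv (by rintro rfl; simp_all) ⟨ξ, e⟩)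
    (genL_one (fun μ _ => ⟨μ, rfl⟩) (pow_ne_zero 2 h2) h3 ⟨μ, rfl⟩) h h').remove
    (Sum.map id ![0, 2]) (Sum.map_injective.2 ⟨Function.injective_id, by decide⟩) _
    (fun _ => rfl) ?_).hasPr (by simp) (by simp)
  rw [eq_top_iff, ← h5.top hf hg]
  set H : Subgroup G := Subgroup.closure _
  have k1 : f.range ≤ H := by
    rw [f.range_eq_map, ← h.closure_eq, MonoidHom.map_closure]
    exact Subgroup.closure_mono (by rintro _ ⟨_, ⟨i, rfl⟩, rfl⟩; exact ⟨Sum.inl i, rfl⟩)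
  refine sup_le k1 ?_
  rw [f2.range_eq_map, Subgroup.map_le_iff_le_comap, top_le_iff]
  refine top_of_slx_wm _ (mem_of_sq (fun a b => (slx_isAdd a b).symm) one_ne_zero fun a ha => ?_)
    (Subgroup.subset_closure ⟨Sum.inr 1, rfl⟩)
  obtain ⟨d, h6, h7⟩ := hf.mono_hd (t := A.ι a) (by simpa) l₀ p₀
  rw [← θ_slx (pow_ne_zero 2 ha), Subgroup.mem_comap, ← h5.conj h6 _ (by
    rw [h7, show ep l₀ p₀ l₀ = 1 by simp [ep, pl_ne.symm], zpow_one]; exact e1 a)]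
  exact mul_mem (mul_mem (k1 ⟨_, rfl⟩) (Subgroup.subset_closure ⟨Sum.inr 0, rfl⟩))
    (inv_mem (k1 ⟨_, rfl⟩))

end H6.P6
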