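import Mathlib
import Cfsg.Agent.Lib.Pres6.ThmC
import Cfsg.Agent.Lib.Pres.SLn
import Cfsg.Agent.Lib.Pres.SL2
import Cfsg.Agent.Lib.Pres.SL3
import Cfsg.Agent.Lib.Stein.SpM

/-!
Short presentations of the symplectic groups.
-/

set_option autoImplicit false

namespace H6.P6

open H40 H77.Pres H63.St

variable (F : Type*) [Field F] [Finite F]

theorem hasPr_SL_any (n : ℕ) (hn : 2 ≤ n) : HasPr (Matrix.SpecialLinearGroup (Fin n) F) 5 23 := by
  rcases (by omega : n = 2 ∨ n = 3 ∨ 4 ≤ n) with rfl | rfl | h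
  exacts [(hasPr_SL_two F).pad (by omega) (by omega), (hasPr_SL_three F).pad (by omega) (by omega),
    hasPr_SL F n h]

theorem hasPr_Sp (n : ℕ) (hn : 2 ≤ n) : HasPr (Matrix.symplecticGroup (Fin n) F) 8 50 := by
  obtain ⟨m, rfl⟩ : ∃ m, n = m + 2 := ⟨n - 2, by omega⟩
  exact hasPr_C (Sp.A (m + 1) F) (Sp.gen _ F) (Or.inr le_rfl) (hasPr_SL_any F _ hn) (hasPr_SL_two F)

theorem hasPr_Sp_four : HasPr (Matrix.symplecticGroup (Fin 2) F) 6 32 :=
  hasPr_C (na := 0) (Sp.A 1 F) (Sp.gen _ F) (Or.inl rfl) (hasPr_SL_two F) (hasPr_SL_two F)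

variable {F} in
theorem hasPr_PSp {n d r : ℕ} (hn : 1 ≤ n) (h : HasPr (Matrix.symplecticGroup (Fin n) F) d r) :
    HasPr (Cfsg.PSp n F) d (r + 1) := by
  have := Fintype.ofFinite F
  exact h.quot_cyclic _ (isCyclic_of_card_dvd_prime (p := 2)
    (by rw [H11.Sp.card_center hn]; exact Nat.gcd_dvd_left _ _))

end H6.P6
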