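import Mathlib
import Cfsg.Agent.Lib.Pres6.ThmC

/-!
Lifts of the root subgroups of type `D_n` determine lifts of the centres of the remaining root
subgroups.
-/

set_option autoImplicit false

open scoped commutatorElement

namespace H6.P6

open H63.St H63.St.Eich H63.St.SL Matrix H77.Pres H64.St2

variable {m : ℕ} {K V G Γ : Type*} [Field K] [AddCommGroup V] [Module K V] [Group G] [Group Γ]
  {π : Γ →* G} {E : Eich m K V G} {Z : Sym2 (J m) → Subgroup Γ} {s : Bool}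

lemma Cm.comm_bot {A B C : Subgroup Γ} (h : Cm A B ⊥) (h' : Cm A C ⊥) : Cm A ⁅B, C⁆ ⊥ :=
  cm_bot fun x hx y hy => ((Subgroup.commutator_le.2 fun p hp q hq => by
    rw [commutatorElement_def]
    have h1 : p ∈ Subgroup.centralizer A := fun z hz => h.commute hz hp
    have h2 : q ∈ Subgroup.centralizer A := fun z hz => h'.commute hz hq
    exact mul_mem (mul_mem (mul_mem h1 h2) (inv_mem h1)) (inv_mem h2) :
      _ ≤ Subgroup.centralizer A) hy x hx)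

lemma Cj.comm {g : Γ} {A B A' B' : Subgroup Γ} (h : Cj g A A') (h' : Cj g B B') :
    Cj g ⁅A, B⁆ ⁅A', B'⁆ :=
  show ⁅A, B⁆ ≤ ⁅A', B'⁆.comap (MulAut.conj g).toMonoidHom from Subgroup.commutator_le.2
    fun p hp q hq => by
      rw [Subgroup.mem_comap, map_commutatorElement]
      exact Subgroup.commutator_mem_commutator (h p hp) (h' q hq)

lemma conj_comm (x p q : Γ) : x * ⁅p, q⁆ * x⁻¹ = ⁅⁅x, p⁆ * p, ⁅x, q⁆ * q⁆ := by
  simp only [commutatorElement_def]; group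

lemma comm_mul_right (p r q : Γ) : ⁅p, r * q⁆ = ⁅p, r⁆ * (r * ⁅p, q⁆ * r⁻¹) := by
  simp only [commutatorElement_def]; group

lemma comm_mul_left (p r q : Γ) : ⁅p * r, q⁆ = p * ⁅r, q⁆ * p⁻¹ * ⁅p, q⁆ := by
  simp only [commutatorElement_def]; group

lemma comm_id {x p q : Γ} (h : Commute x p) (h' : Commute ⁅x, q⁆ ⁅p, q⁆) :
    ⁅x, ⁅p, q⁆⁆ = ⁅p, ⁅x, q⁆⁆ := by
  rw [commutatorElement_def x, conj_comm, h.commutator_eq, one_mul, comm_mul_right, h'.eq,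
    mul_inv_cancel_right, mul_inv_cancel_right]

lemma Cm.of_gen {A B C N : Subgroup Γ} (h1 : ∀ y ∈ ⁅B, C⁆, Cj y N N)
    (h2 : ∀ x ∈ A, ∀ p ∈ B, ∀ q ∈ C, ⁅x, ⁅p, q⁆⁆ ∈ N) : Cm A ⁅B, C⁆ N := fun x hx _ hy =>
  ((Subgroup.commutator_le.2 fun p hp q hq => have := Subgroup.commutator_mem_commutator hp hq
    ⟨norm_of_cj (h1 _ this) (h1 _ (inv_mem this)), h2 x hx p hp q hq⟩ : _ ≤ cS x N) hy).2

variable (Z) in
/-- The lifts of the centres of the short root subgroups. -/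
def Ys (a : J m) : Subgroup Γ := ⨆ b, ⨆ (_ : In a b), ⁅Z s(a, b), Z s(a, b.rev)⁆

lemma le_Ys {a b : J m} (h : In a b) : ⁅Z s(a, b), Z s(a, b.rev)⁆ ≤ Ys Z a :=
  le_iSup₂_of_le b h le_rfl

lemma Mv.ys {g : Γ} {τ : Equiv.Perm (J m)} (h : Mv s Z g τ) (hτ : ∀ a, τ a.rev = (τ a).rev)
    (a : J m) : Cj g (Ys Z a) (Ys Z (τ a)) :=
  show _ ≤ (Ys Z (τ a)).comap (MulAut.conj g).toMonoidHom from iSup₂_le fun b hb =>
    ((h _ _ hb.ok).1.comm (hτ b ▸ (h _ _ hb.rev.ok).1)).mono le_rfl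
      (le_Ys ⟨τ.injective.ne hb.1, hτ a ▸ τ.injective.ne hb.2⟩)

variable (lz : LZ s E π Z) (rl : RL Z)
include lz rl

lemma YY_le {a b c : J m} (h1 : In a b) (h2 : In a c) (h3 : In b c) :
    ⁅Z s(a, b), Z s(a, b.rev)⁆ ≤ ⁅Z s(a, c), Z s(a, c.rev)⁆ := by
  refine Subgroup.commutator_le.2 fun x hx y hy => ?_
  obtain ⟨u, hu⟩ := lz.memL h1.rev hy
  obtain ⟨p, hp, e1⟩ := lz.exL h2 (E.ε * (E.κ c)⁻¹ * u)
  obtain ⟨q, hq, e2⟩ := lz.exL h3.symm.rev.rev' 1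
  have e3 : ⁅p, q⁆ = y := eq_of_inj (lz.inj _ h1.rev.ok)
    (rl.c120 _ _ _ h2 h1.rev h3.symm.rev p hp q hq) hy (by
      rw [map_commutatorElement, e1, e2, E.c120 h2 h1.rev h3.symm.rev, ← hu]
      have := E.κ_ne c
      congr 1; field_simp; simp [E.ε_sq])
  have h4 := rl.c120 _ _ _ h1 h2.rev h3.rev x hx q (Sym2.eq_swap ▸ hq)
  have h5 := (rl.c60 _ _ _ h1 h2 h3).commute hx hp
  have h6 := (rl.c60 _ _ _ h2.rev h1.rev h3.symm.rev.rev').commute h4 hy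
  rw [← e3] at h6 ⊢
  exact comm_id h5 h6 ▸ Subgroup.commutator_mem_commutator hp h4

lemma Ys_eq (hm : 2 ≤ m) {a b : J m} (h : In a b) : Ys Z a = ⁅Z s(a, b), Z s(a, b.rev)⁆ := by
  refine le_antisymm (iSup₂_le fun c hc => ?_) (le_Ys h)
  rcases VC.in_cases b c with rfl | rfl | e
  · rfl
  · rw [Fin.rev_rev, Subgroup.commutator_comm]
  · exact YY_le lz rl hc h e.symm

variable (hm : 2 ≤ m)
include hm

lemma y45 {a b : J m} (h : In a b) : Cm (Z s(a, b)) (Ys Z a) ⊥ := by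
  obtain ⟨c, hc⟩ := J.exists_in [a, b] hm
  simp only [List.forall_mem_cons] at hc
  rw [Ys_eq lz rl hm hc.1]
  exact (rl.c60 _ _ _ h hc.1 hc.2.1).comm_bot (rl.c60 _ _ _ h hc.1.rev hc.2.1.rev)

lemma y90 {a b c : J m} (h1 : In a b) (h2 : In a c) (h3 : In b c) : Cm (Z s(a, b)) (Ys Z c) ⊥ := by
  rw [Ys_eq lz rl hm h3.symm]
  refine .of_gen (fun _ _ => cj_bot _) fun x hx p hp q hq => ?_
  have h4 := rl.c120 _ _ _ h1 h2 h3 x hx q (Sym2.eq_swap ▸ hq)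
  have h5 := (rl.c60 _ _ _ h1.symm h3 h2).commute (Sym2.eq_swap ▸ hx) (Sym2.eq_swap ▸ hp)
  rw [Sym2.eq_swap] at h4
  rw [comm_id h5 ((y45 lz rl hm h2.symm).commute h4
    (le_Ys h3.symm (Subgroup.commutator_mem_commutator hp hq)))]
  exact rl.c60 _ _ _ h3.symm h2.symm h1.symm p hp _ h4

lemma ySS {a b : J m} (h : In a b) : Cm (Ys Z a) (Ys Z b) ⊥ := by
  obtain ⟨c, hc⟩ := J.exists_in [a, b] hm
  simp only [List.forall_mem_cons] at hc
  rw [Ys_eq lz rl hm hc.2.1]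
  exact (y90 lz rl hm hc.2.1 h.symm hc.1.symm).symm.comm_bot
    (y90 lz rl hm hc.2.1.rev h.symm hc.1.rev.symm).symm

lemma y135 {a b : J m} (h : In a b) : Cm (Z s(a, b)) (Ys Z b.rev) (Ys Z a ⊔ Z s(a, b.rev)) := by
  obtain ⟨c, hc⟩ := J.exists_in [a, b] hm
  simp only [List.forall_mem_cons] at hc
  obtain ⟨h1, h2, -⟩ := hc
  have k1 : Cm (Ys Z a ⊔ Z s(a, b.rev)) (Ys Z b.rev) ⊥ :=
    (ySS lz rl hm h.rev).sup_bot (Sym2.eq_swap ▸ y45 lz rl hm h.rev.symm)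
  have e := Ys_eq lz rl hm h2.rev'
  refine e ▸ Cm.of_gen (fun y hy => k1.cj (e ▸ hy)) fun x hx q hq r hr => ?_
  have hy := e.ge (Subgroup.commutator_mem_commutator hq hr)
  have hp := rl.c120 _ _ _ h h1 h2 x hx q hq
  have hu := rl.c120 _ _ _ h h1.rev h2.rev x hx r hr
  have k2 : ∀ {c}, In a c → In b c → ∀ {z}, z ∈ Z s(a, c) → Cj z (Ys Z a ⊔ Z s(a, b.rev))
      (Ys Z a ⊔ Z s(a, b.rev)) ∧ Commute z ⁅q, r⁆ := fun h1 h2 z hz =>
    ⟨((y45 lz rl hm h1).symm.sup_bot (rl.c60 _ _ _ h.rev h1 h2.rev')).cj hz,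
      (y90 lz rl hm h1 h.rev h2.rev'.symm).commute hz hy⟩
  have k3 : ⁅q, ⁅x, r⁆⁆ ∈ Z s(a, b.rev) := by
    have := (rl.c120 _ _ _ h1.rev h.rev h2.rev.rev'.symm).symm q (by
      rwa [Fin.rev_rev, Sym2.eq_swap]) _ hu
    exact this
  have k4 := rl.c120 _ _ _ h1 h.rev h2.rev'.symm _ hp r (Sym2.eq_swap ▸ hr)
  rw [commutatorElement_def x, conj_comm, comm_mul_left, comm_mul_right q, (k2 h1.rev h2.rev hu).2.eq,
    mul_inv_cancel_right, comm_mul_right, show ∀ p a y n : Γ, p * (a * y) * p⁻¹ * n * y⁻¹ =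
      p * a * p⁻¹ * (p * y * p⁻¹ * n * y⁻¹) from fun _ _ _ _ => by group,
    (k2 h1 h2 hp).2.eq, mul_inv_cancel_right]
  exact mul_mem ((k2 h1 h2 hp).1 _ (Subgroup.mem_sup_right k3)) (k1.cj hy _ (mul_mem
    (Subgroup.mem_sup_left (le_Ys h1 (Subgroup.commutator_mem_commutator hp hu)))
    ((k2 h1.rev h2.rev hu).1 _ (Subgroup.mem_sup_right k4))))

/-- The lift of the centre of a short root subgroup is faithful. -/
lemma Ys_inj {a b : J m} (h : In a b) (k1 : E.κ b = 1) (k2 : E.κ b.rev = E.ε) {θ : K}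
    (hθ : θ + E.σ θ = 1) (U1 : ∀ μ, μ ≠ 0 → ∃ T d, Mv s Z T 1 ∧ T ∈ Subgroup.centralizer (Ys Z a) ∧
      E.Mono (π T) d 1 ∧ d a = 1 ∧ d b = μ)
    (U2 : ∃ g d τ, Mv s Z g τ ∧ g ∈ Subgroup.centralizer (Ys Z a) ∧ E.Mono (π g) d τ ∧ τ a = a ∧
      τ b = b.rev ∧ d a = 1 ∧ d b = 1 ∧ d b.rev = E.ε) : ∀ y ∈ Ys Z a, π y = 1 → y = 1 := by
  choose x hx hx' using lz.exL h
  choose y hy hy' using lz.exL h.rev
  have c0 : ∀ t u, ⁅x t, y u⁆ ∈ Ys Z a := fun t u =>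
    le_Ys h (Subgroup.commutator_mem_commutator (hx t) (hy u))
  have c1 : ∀ t t' u, ⁅x t, y u⁆ * ⁅x t', y u⁆ = ⁅x (t + t'), y u⁆ := fun t t' u => by
    rw [← eq_of_inj (lz.inj _ h.ok) (mul_mem (hx t') (hx t)) (hx (t + t')) (by
      rw [map_mul, hx', hx', hx', xl_add, add_comm]), comm_mul_left,
      ((y45 lz rl hm h).commute (hx t') (c0 _ _)).eq, mul_inv_cancel_right]
  have c2 : ∀ {T}, T ∈ Subgroup.centralizer (Ys Z a) → ∀ t u,
      ⁅T * x t * T⁻¹, T * y u * T⁻¹⁆ = ⁅x t, y u⁆ := fun {T} hT t u => by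
    rw [← conjugate_commutatorElement, ← hT _ (c0 t u), mul_inv_cancel_right]
  have c3 : ∀ t u, ⁅x t, y u⁆ = ⁅x (t * E.σ u), y 1⁆ := fun t u => by
    by_cases e : u = 0
    · rw [e, lz.inj _ h.rev.ok _ (hy 0) (by simp [hy']), map_zero, mul_zero,
        lz.inj _ h.ok _ (hx 0) (by simp [hx'])]
      simp
    obtain ⟨T, d, h1, h2, h3, h4, h5⟩ := U1 _ (E.σ_ne e)
    rw [← c2 h2, eq_of_inj (lz.inj _ h.ok) (h1.cj h.ok _ (hx t)) (hx (t * E.σ u)) (by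
      simp [hx', h3.conj_xl h, h4, h5, mul_comm]), eq_of_inj (lz.inj _ h.rev.ok)
      (h1.cj h.rev.ok _ (hy u)) (hy 1) (by simp [hy', h3.conj_xl h.rev, h4, h5, h3.rev_eq, e])]
  have c4 : ∀ t, ⁅x (t + E.ε * E.σ t), y 1⁆ = 1 := fun t => by
    obtain ⟨g, d, τ, h1, h2, h3, h4, h5, h6, h7, h8⟩ := U2
    have h9 : τ b.rev = b := by rw [h3.rev, h5, Fin.rev_rev]
    have e1 := (h1 _ _ h.ok).1 _ (hx t)
    have e2 := (h1 _ _ h.rev.ok).1 _ (hy 1)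
    rw [h4, h5] at e1
    rw [h4, h9] at e2
    rw [← c1, ← c3, ← c2 h2, eq_of_inj (lz.inj _ h.rev.ok) e1 (hy t)
      (by simp [hx', hy', h3.conj_xl h, h4, h5, h6, h7]), eq_of_inj (lz.inj _ h.ok) e2 (hx E.ε)
      (by simp [hx', hy', h3.conj_xl h.rev, h4, h9, h6, h8]), ← commutatorElement_inv,
      inv_mul_cancel]
  have c5 : Ys Z a ≤ (MonoidHom.mk' (fun t : Multiplicative K => ⁅x t.toAdd, y 1⁆)
      fun _ _ => (c1 _ _ _).symm).range := by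
    rw [Ys_eq lz rl hm h]
    refine Subgroup.commutator_le.2 fun p hp q hq => ?_
    obtain ⟨t, ht⟩ := lz.memL h hp
    obtain ⟨u, hu⟩ := lz.memL h.rev hq
    rw [eq_of_inj (lz.inj _ h.ok) hp (hx t) (by rw [hx', ht]),
      eq_of_inj (lz.inj _ h.rev.ok) hq (hy u) (by rw [hy', hu]), c3]
    exact ⟨Multiplicative.ofAdd _, rfl⟩
  intro z hz e
  obtain ⟨t, rfl⟩ := c5 hz
  change ⁅x _, y 1⁆ = 1
  change π ⁅x _, y 1⁆ = 1 at e
  rw [map_commutatorElement, hx', hy', E.c90b h] at e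
  have := (P.zero (E.Λ90b b t.toAdd 1)).ne_one (a := a)
  rw [← c4 (θ * t.toAdd)]
  congr 2
  have e' := not_not.1 fun h => this h e
  simp only [k1, k2, map_one, map_mul] at e' ⊢
  linear_combination -t.toAdd * hθ - E.ε * E.σ θ * e' + E.σ θ * (E.ε * E.σ t.toAdd - t.toAdd) * E.ε_mul_ε

omit lz rl hm in
lemma all1 {hs : s = false → 1 ≤ m} {P : J m → Prop} (hP : ∀ τ, PW hs τ → ∀ a, P (τ a) → P a)
    {x : J m} (h : P x) (a : J m) : P a := by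
  obtain ⟨τ, h1, -, h2 | h2⟩ := mov (hs := hs) (a, x) [] (by simp) (by simp)
  · exact hP τ h1 a ((show τ a = x from h2) ▸ h)
  · have := hs h2.1; simp at h2; omega

omit lz rl hm in
lemma Ys_inj_all {hs : s = false → 1 ≤ m} (pw : ∀ τ, PW hs τ → ∃ g, Mv s Z g τ) {x : J m}
    (h : ∀ y ∈ Ys Z x, π y = 1 → y = 1) (a : J m) : ∀ y ∈ Ys Z a, π y = 1 → y = 1 :=
  all1 (hs := hs) (P := fun a => ∀ y ∈ Ys Z a, π y = 1 → y = 1) (fun τ hτ a H y hy e => by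
    obtain ⟨g, hg⟩ := pw τ hτ
    simpa [conj_eq_one_iff] using H _ (hg.ys hτ.1 a y hy) (by simp [e])) h a

omit rl hm in
lemma cm_Cl (hc : E.Cl) (h : ∀ a, ∀ y ∈ Ys Z a, π y = 1 → y = 1) (a b : J m) (e : In a b) :
    Cm (Z s(a, b)) (Z s(a, b.rev)) ⊥ := fun x hx y hy => by
  refine h a _ (le_Ys e (Subgroup.commutator_mem_commutator hx hy)) ?_
  obtain ⟨t, ht⟩ := lz.memL e hx
  obtain ⟨u, hu⟩ := lz.memL e.rev hy
  rw [map_commutatorElement, ← ht, ← hu, (hc.c90b e t u).commutator_eq]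

omit lz rl hm in
lemma S_eq_comm {k : Type*} [Field k] (A : E.SNA k) {θ : K} (hθ : θ + E.σ θ = 1) {a b : J m}
    (h : In a b) : ⁅E.L a b, E.L a b.rev⁆ = E.S a := by
  refine le_antisymm (Subgroup.commutator_le.2 ?_) ?_
  · rintro _ ⟨t, rfl⟩ _ ⟨u, rfl⟩
    exact E.c90b h t u ▸ (P.zero (E.Λ90b b t u)).mem a
  · rintro _ ⟨v, c, hv, rfl⟩
    obtain rfl := A.V0_eq v hv.1
    convert Subgroup.commutator_mem_commutator (E.xl_mem a b 1)
      (E.xl_mem a b.rev (E.ε * (E.κ b.rev)⁻¹ * (θ * c))) using 1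
    have h1 := E.Λ_B hv.2
    have h2 := E.κ_ne b
    have h3 := E.κ_ne b.rev
    rw [E.c90b h]
    simp only [map_zero, LinearMap.zero_apply, map_mul, map_inv₀, σ_κ_rev, σ_ε, map_one] at h1 ⊢
    congr 1
    rw [show E.σ c = -(E.ε * c) by linear_combination -h1, show E.σ θ = 1 - θ by
      linear_combination hθ]
    rcases E.hε with h | h <;> simp only [h] <;> field_simp <;> ring

theorem ker_U {k : Type*} [Field k] [Finite k] (A : E.SNA k) {θ : K} (hθ : θ + E.σ θ = 1)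
    {f : SpecialLinearGroup (Fin (m + 1)) K →* G} (hf : Emb E f)
    {φ : SpecialLinearGroup (Fin (m + 1)) K →* Γ} (hφ : ∀ g, π (φ g) = f g)
    (tv : ∀ i j, i ≠ j → ∀ t, φ (SL.tv i j t) ∈ Z s(ps i, (ps j).rev)) (hs : s = false)
    (h : ∀ a, ∀ y ∈ Ys Z a, π y = 1 → y = 1) :
    ∀ g ∈ XS (fun r : PR s m => Z r.1) Set.univ, π g = 1 → g = 1 := by
  subst hs
  let Z' : Sym2 (J m) → Subgroup Γ := Sym2.lift ⟨fun a b => if a = b then Ys Z a else Z s(a, b),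
    fun a b => by by_cases e : a = b <;> simp [e, eq_comm (a := b), Sym2.eq_swap (a := b)]⟩
  have e1 : ∀ a, Z' s(a, a) = Ys Z a := fun a => if_pos rfl
  have e2 : ∀ {a b}, In a b → Z' s(a, b) = Z s(a, b) := fun h => if_neg h.ne
  have lz' : LZ true E π Z' := by
    constructor <;> refine Sym2.ind fun a b hz => ?_ <;> by_cases e : a = b
    · obtain ⟨c, hc⟩ := J.exists_in [a] (by simp; omega)
      have hc := hc a (by simp)
      rw [← e, e1, Ys_eq lz rl hm hc, Subgroup.map_commutator, lz.mapL hc, lz.mapL hc.rev, Xz_S,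
        S_eq_comm A hθ hc]
    · exact e2 (VC.in_of_ok hz e) ▸ lz.map _ (VC.in_of_ok hz e).ok
    · exact e ▸ e1 a ▸ h a
    · exact e2 (VC.in_of_ok hz e) ▸ lz.inj _ (VC.in_of_ok hz e).ok
  refine fun g hg => lz'.ker_SNA hf hφ (fun i j h => e2 (in_ps h).rev ▸ tv i j h) A
    ⟨fun a b c h1 h2 h3 => e2 h1 ▸ e2 h2 ▸ rl.c60 a b c h1 h2 h3,
      fun a b c h1 h2 h3 => e2 h1 ▸ e2 h2 ▸ e2 h3.rev' ▸ rl.c120 a b c h1 h2 h3,
      fun a b c d h1 h2 h3 h4 h5 h6 => e2 h1 ▸ e2 h6 ▸ rl.c90 a b c d h1 h2 h3 h4 h5 h6⟩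
    ⟨fun a b h1 => e2 h1 ▸ e2 h1.rev ▸ e1 a ▸ fun x hx y hy =>
        le_Ys h1 (Subgroup.commutator_mem_commutator hx hy),
      fun a b h1 => e2 h1 ▸ e1 a ▸ y45 lz rl hm h1,
      fun a b c h1 h2 h3 => e2 h1 ▸ e1 c ▸ y90 lz rl hm h1 h2 h3,
      fun a b h1 => by rw [e2 h1, e2 h1.rev, e1, e1]; exact y135 lz rl hm h1,
      fun a b h1 => by rw [e1, e1]; exact (ySS lz rl hm h1).mono le_rfl le_rfl bot_le⟩
    (Or.inl ?_) g (XS_le.2 (fun r _ => ?_) hg)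
  · obtain ⟨τ, ⟨h1, w, hw, h2⟩, -, h3 | h3⟩ := mov (hs := A.hyp.le) (ps (Fin.last m), ps 0) []
      (by simp) (by simp)
    swap
    · simp at h3
    have h4 : In (ps (0 : Fin (m + 1))) (ps ⟨1, by omega⟩) := in_ps (by simp [Fin.ext_iff])
    have h5 : NR A.hyp.rgd.toPre ⟨_, ok_diag (ps 0)⟩ := by
      refine ⟨1, one_mem _, (VC.pos_iff _).2 (by simp [ps_val]), ?_⟩
      change E.Xz s(_, _) ≤ _
      rw [Xz_S, ← S_eq_comm A hθ h4]
      refine (Subgroup.commutator_le_sup _ _).trans (sup_le ?_ ?_)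
      · exact E.Xz_L h4 ▸ le_XS (X := E.X true) (r := ⟨_, h4.ok⟩)
          ⟨(VC.pos_iff _).2 (by simp [ps_val]; omega), by simp [Fin.ext_iff, ps_val]⟩
      · exact E.Xz_L h4.rev ▸ le_XS (X := E.X true) (r := ⟨_, h4.rev.ok⟩)
          ⟨(VC.pos_iff _).2 (by simp [ps_val]), by simp⟩
    convert h5.act (inv_mem hw) using 1
    rw [Equiv.Perm.eq_inv_iff_eq, Subtype.ext_iff, h2, α_val, α1_last, α2_last, Sym2.map_mk, h3]
  · induction r using VC.ind with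
    | _ a b h1 =>
    have h2 := VC.in_of_ok h1 (h1.2 rfl)
    exact e2 h2 ▸ le_XS (X := fun r : PR true m => Z' r.1) (r := ⟨_, h2.ok⟩) (Set.mem_univ _)

end H6.P6
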