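import Mathlib
import Cfsg.Agent.Lib.Pres6.ThmU

/-!
The elements exchanging two of the hyperbolic pairs and their lifts.
-/

set_option autoImplicit false

open scoped commutatorElement

namespace H6.P6

open H63.St H63.St.Eich H63.St.SL Matrix H77.Pres H64.St2

variable {m : ℕ} {K V G Γ : Type*} [Field K] [AddCommGroup V] [Module K V] [Group G] [Group Γ]
  {π : Γ →* G} {E : Eich m K V G} {i j k : Fin (m + 1)}

/-- The sign change at `i` and `j`. -/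
def sp (i j : Fin (m + 1)) : Equiv.Perm (J m) := VC.τp (ps i) (ps i) * VC.τp (ps j) (ps j)

/-- The scalars of the sign change. -/
def sd (ε : K) (i j : Fin (m + 1)) (a : J m) : K := if a = (ps i).rev ∨ a = ps j then ε else 1

lemma τ_ps (i k : Fin (m + 1)) : VC.τ (ps i) (ps i) (ps k) = if k = i then (ps k).rev else ps k := by
  split_ifs with h
  · simp [h]
  · exact VC.τ_in (in_ps (Ne.symm h)) (in_ps (Ne.symm h))

lemma sp_rev (a : J m) : sp i j a.rev = (sp i j a).rev := by simp [sp, VC.τ_rev]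

lemma sp_ps (h : i ≠ j) (k : Fin (m + 1)) :
    sp i j (ps k) = if k = i ∨ k = j then (ps k).rev else ps k := by
  simp only [sp, Equiv.Perm.mul_apply, VC.τp_apply, τ_ps]
  have := h.symm
  split_ifs <;> simp_all [τ_ps, VC.τ_rev]

lemma sd_ps (ε : K) (i j k : Fin (m + 1)) : sd ε i j (ps k) = if k = j then ε else 1 := by simp [sd]

lemma sd_rev (ε : K) (i j k : Fin (m + 1)) : sd ε i j (ps k).rev = if k = i then ε else 1 := by
  simp [sd]

variable (E) in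
/-- The element `x` exchanges `e` and its dual at the indices `i`, `j`. -/
def Sg (x : G) (i j : Fin (m + 1)) : Prop := E.Mono x (sd E.ε i j) (sp i j)

lemma Mono_congr {g : G} {d d' : J m → K} {τ τ' : Equiv.Perm (J m)} (h : E.Mono g d τ)
    (h1 : ∀ i, d (ps i) = d' (ps i) ∧ d (ps i).rev = d' (ps i).rev ∧ τ (ps i) = τ' (ps i) ∧
      τ (ps i).rev = τ' (ps i).rev) : E.Mono g d' τ' := fun a => by
  rcases ps_or a with ⟨i, rfl⟩ | ⟨i, rfl⟩ <;> simp only [h _, h1]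

lemma mono_ext (hV : ∀ v ∈ E.V0, v = 0) {g g' : G} {d : J m → K} {τ : Equiv.Perm (J m)}
    (h : E.Mono g d τ) (h' : E.Mono g' d τ) : g = g' :=
  E.ext' (fun a => (h a).trans (h' a).symm) fun v hv => by simp [hV v hv]

lemma Mono_conj1 {g x : G} {d c : J m → K} {τ : Equiv.Perm (J m)} (h : E.Mono g d 1)
    (h' : E.Mono x c τ) : E.Mono (x⁻¹ * g * x) (fun a => d (τ a)) 1 := fun a => by
  have := h'.ne a
  rw [(h'.inv.mul h).mul h' a]
  simp; congr 1; field_simp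

lemma exists_sg (h : Nm E) (hij : i ≠ j) : ∃ x, Sg E x i j := by
  have b := in_ps hij
  refine ⟨_, Mono_congr ((E.mono_wL b (t := -1) (by simp)).mul (E.mono_wL b.rev one_ne_zero))
    fun k => ?_⟩
  by_cases e : k = i
  · simp [e, fL, sd_ps, sd_rev, sp_ps hij, sp_rev, hij, hij.symm, h.κ_ps, h.κ_rev, J.rev_ne,
      div_neg]
  by_cases e' : k = j
  · simp [e', fL, sd_ps, sd_rev, sp_ps hij, sp_rev, hij, hij.symm, h.κ_ps, h.κ_rev, J.rev_ne,
      neg_div, inv_eq_of_mul_eq_one_left E.ε_mul_ε]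
  · simp [e, e', fL, sd_ps, sd_rev, sp_ps hij, sp_rev, VC.τ_rev,
      VC.τ_in (in_ps (Ne.symm e)) (in_ps (Ne.symm e')),
      VC.τ_in (in_ps (Ne.symm e)) (in_ps (Ne.symm e')).rev']

variable {f : SpecialLinearGroup (Fin (m + 1)) K →* G} {x y : G}

lemma Sg.conj (hf : Emb E f) (h : Sg E x i j) (hij : i ≠ j) {g : SpecialLinearGroup (Fin (m + 1)) K}
    {p : Equiv.Perm (Fin (m + 1))} (hg : SP g p) : Sg E (f g * x * (f g)⁻¹) (p i) (p j) := by
  obtain ⟨η, h1, h2⟩ := hg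
  obtain ⟨d, h3, h4, h5⟩ := hf.mono h2
  have h6 : ∀ b, (E.σ (η b))⁻¹ = η b := fun b => by
    rcases mul_self_eq_one_iff.1 (h1 b) with e | e <;> simp [e]
  refine Mono_congr ((h3.mul h).mul h3.inv) fun k => ?_
  obtain ⟨k, rfl⟩ := p.surjective k
  have e1 : (lp p).symm (ps (p k)) = ps k := by simp [Equiv.symm_apply_eq]
  have e2 : (lp p).symm (ps (p k)).rev = (ps k).rev := by simp [Equiv.symm_apply_eq]
  have := h2.ne k
  by_cases e : k = i ∨ k = j <;>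
    simp [e, e1, e2, sd_ps, sd_rev, sp_ps hij, sp_ps (p.injective.ne hij), sp_rev, h4, h5, h6] <;>
    refine ⟨?_, ?_⟩ <;> split_ifs <;> field_simp

lemma Sg.mul (h : Sg E x i j) (h' : Sg E y j k) (h1 : i ≠ j) (h2 : j ≠ k) (h3 : i ≠ k) :
    Sg E (x * y) i k := by
  refine Mono_congr (Mono.mul h h') fun l => ?_
  by_cases e1 : l = i
  · simp [e1, h1, h3, sd_ps, sd_rev, sp_ps, sp_rev, h2]
  by_cases e2 : l = j
  · simp [e2, h1, h3, h1.symm, sd_ps, sd_rev, sp_ps, sp_rev, h2]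
  by_cases e3 : l = k
  · simp [e3, h1, h3, h3.symm, sd_ps, sd_rev, sp_ps, sp_rev, h2, h2.symm]
  · simp [e1, e2, e3, h1, h3, sd_ps, sd_rev, sp_ps, sp_rev, h2]

lemma Sg.sq (hf : Emb E f) (hV : ∀ v ∈ E.V0, v = 0) (h : Sg E x i j) (hij : i ≠ j) :
    x * x = f (hd E.ε_ne i j) := by
  obtain ⟨d, h1, h2, h3⟩ := hf.mono (mn_hd E.ε_ne i j)
  have := inv_eq_of_mul_eq_one_left E.ε_mul_ε
  refine mono_ext hV (Mono_congr (Mono.mul h h) fun l => ?_) h1
  by_cases e1 : l = i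
  · simp [e1, hij, sd_ps, sd_rev, sp_ps, sp_rev, h2, h3, ep, this]
  by_cases e2 : l = j
  · simp [e2, hij, hij.symm, sd_ps, sd_rev, sp_ps, sp_rev, h2, h3, ep, this]
  · simp [e1, e2, hij, sd_ps, sd_rev, sp_ps, sp_rev, h2, h3, ep]

lemma Sg.cj (hf : Emb E f) (h : Sg E x i j) (hij : i ≠ j) :
    Cj x ((Bl K {i, j}).map f) ((Bl K {i, j}).map f) := by
  rw [hf.map_Bl hij]
  have h1 := Mono_cjL h (in_ps hij).rev
  have h2 := Mono_cjL h (in_ps hij).rev'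
  simp only [sp_rev, sp_ps hij, true_or, or_true, if_true, Fin.rev_rev] at h1 h2
  exact (h1.mono le_rfl le_sup_right).sup (h2.mono le_rfl le_sup_left)

lemma Sg.comm (hf : Emb E f) (h : Sg E x i j) (hij : i ≠ j)
    {g : SpecialLinearGroup (Fin (m + 1)) K} (hg : g ∈ Bl K {i, j}ᶜ) : Commute x (f g) := by
  refine Subgroup.mem_centralizer_singleton_iff.1 (Bl_le (H := (Subgroup.centralizer {x}).comap f)
    (fun a ha b hb hab t => Subgroup.mem_centralizer_singleton_iff.2 ?_) hg) |>.symm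
  simp only [Set.mem_compl_iff, Set.mem_insert_iff, Set.mem_singleton_iff, not_or] at ha hb
  rw [eq_comm, ← mul_inv_eq_iff_eq_mul, hf.tv hab, Mono.conj_xl h (in_ps hab).rev]
  simp [sp_rev, sp_ps hij, sd_ps, sd_rev, ha, hb]

lemma exists_perm3' {α : Type*} {a b c i j k : α} (h1 : a ≠ b) (h2 : a ≠ c) (h3 : b ≠ c)
    (h4 : i ≠ j) (h5 : i ≠ k) (h6 : j ≠ k) : ∃ p : Equiv.Perm α, p a = i ∧ p b = j ∧ p c = k := by
  classical
  obtain ⟨p, rfl, rfl⟩ := exists_perm2 h1 h4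
  exact ⟨Equiv.swap (p c) k * p, Equiv.swap_apply_of_ne_of_ne (p.injective.ne h2) h5,
    Equiv.swap_apply_of_ne_of_ne (p.injective.ne h3) h6, by simp⟩

variable (E π) in
/-- Lifts of the sign changes. -/
structure SF (φ : SpecialLinearGroup (Fin (m + 1)) K →* Γ) (S : Fin (m + 1) → Fin (m + 1) → Γ) :
    Prop where
  map : ∀ i j, i ≠ j → Sg E (π (S i j)) i j
  conj : ∀ g p, SP g p → ∀ i j, i ≠ j → φ g * S i j * (φ g)⁻¹ = S (p i) (p j)
  nrm : ∀ i j, i ≠ j → Cj (S i j) ((Bl K {i, j} ⊔ Bl K {i, j}ᶜ).map φ) φ.range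
  mul : ∀ i j k, i ≠ j → j ≠ k → i ≠ k → S i j * S j k = S i k

variable {φ : SpecialLinearGroup (Fin (m + 1)) K →* Γ} (hf : Emb E f) (hφ : ∀ g, π (φ g) = f g)
include hf hφ

lemma comm_of_nrm {s : Γ} (h : Sg E (π s) i j) (hij : i ≠ j)
    (h1 : Cj s ((Bl K {i, j} ⊔ Bl K {i, j}ᶜ).map φ) φ.range) {g : SpecialLinearGroup (Fin (m + 1)) K}
    (hg : g ∈ Bl K {i, j} ⊔ Bl K {i, j}ᶜ) (e : Commute (π s) (f g)) : Commute s (φ g) :=
  mul_inv_eq_iff_eq_mul.1 (eq_of_inj (hf.inj_D hφ) (h1 _ ⟨g, hg, rfl⟩) ⟨g, rfl⟩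
    (by simp [hφ, e.eq]))

theorem exists_SF (hV : ∀ v ∈ E.V0, v = 0) {s : Γ} (h : Sg E (π s) i j) (hij : i ≠ j) (hik : i ≠ k)
    (hjk : j ≠ k) (h1 : Cj s ((Bl K {i, j} ⊔ Bl K {i, j}ᶜ).map φ) φ.range)
    (h2 : Commute s (φ (hd (neg_ne_zero.2 (one_ne_zero' K)) i k)))
    {g1 g2 : SpecialLinearGroup (Fin (m + 1)) K} {p1 p2 : Equiv.Perm (Fin (m + 1))} (a1 : SP g1 p1)
    (a2 : SP g2 p2) (a3 : p1 i = j) (a4 : p1 j = k) (a5 : p2 i = i) (a6 : p2 j = k)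
    (h3 : s * (φ g1 * s * (φ g1)⁻¹) = φ g2 * s * (φ g2)⁻¹) : ∃ S, SF π E φ S ∧ S i j = s := by
  have : ∀ a b, ∃ p g, SP (K := K) g p ∧ (a ≠ b → p i = a ∧ p j = b) := fun a b => by
    by_cases e : a = b
    · exact ⟨1, _, sp_hd i j, fun h => absurd e h⟩
    obtain ⟨p, h1⟩ := exists_perm2 hij e
    exact ⟨p, _, (exists_sp K p).choose_spec, fun _ => h1⟩
  choose p g b1 b2 using this
  have k1 : ∀ g' p', SP g' p' → φ g' * s * (φ g')⁻¹ =
      φ (g (p' i) (p' j)) * s * (φ (g (p' i) (p' j)))⁻¹ := fun g' p' hg => by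
    obtain ⟨c1, c2⟩ := b2 _ _ (p'.injective.ne hij)
    have := ((b1 (p' i) (p' j)).inv.mul hg).mem_stab hij hik hjk (by simp [Equiv.symm_apply_eq, c1])
      (by simp [Equiv.symm_apply_eq, c2]) (H := (Subgroup.centralizer {s}).comap φ)
      (fun x hx => Subgroup.mem_centralizer_singleton_iff.2 (comm_of_nrm hf hφ h hij h1
        (Subgroup.mem_sup_right hx) (h.comm hf hij hx)).symm.eq)
      (Subgroup.mem_centralizer_singleton_iff.2 (comm_of_nrm hf hφ h hij h1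
        (Subgroup.mem_sup_left (hd_mem _ i j)) (mul_inv_eq_iff_eq_mul.1
          (mono_ext hV (h.conj hf hij (sp_hd i j)) h)).symm).symm.eq)
      (Subgroup.mem_centralizer_singleton_iff.2 h2.symm.eq)
    rw [Subgroup.mem_comap, Subgroup.mem_centralizer_singleton_iff, map_mul, map_inv] at this
    rw [← mul_inv_cancel_left (φ (g (p' i) (p' j))) (φ g'), mul_assoc (φ _), this]
    group
  have k2 : ∀ g' p', SP g' p' → ∀ a b, a ≠ b → φ g' * (φ (g a b) * s * (φ (g a b))⁻¹) * (φ g')⁻¹ =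
      φ (g (p' a) (p' b)) * s * (φ (g (p' a) (p' b)))⁻¹ := fun g' p' hg a b hab => by
    simpa [b2 a b hab, mul_assoc] using k1 _ _ (hg.mul (b1 a b))
  have k3 : φ (g i j) * s * (φ (g i j))⁻¹ = s := by
    simpa using (k1 1 1 ⟨1, by simp, fun a b => one_apply⟩).symm
  refine ⟨fun a b => φ (g a b) * s * (φ (g a b))⁻¹, ⟨fun a b hab => ?_, k2, fun a b hab => ?_,
    fun a b c h4 h5 h6 => ?_⟩, k3⟩
  · simpa [hφ, b2 a b hab] using h.conj hf hij (b1 a b)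
  · refine ((cj_self (A := φ.range) ⟨_, rfl⟩).mul h1).mul ?_
    obtain ⟨η, -, h4⟩ := (b1 a b).inv
    obtain ⟨c1, c2⟩ := b2 a b hab
    have : ⇑(p a b)⁻¹ '' {a, b} = {i, j} := by
      rw [Set.image_pair, Equiv.Perm.inv_eq_iff_eq.2 c1.symm, Equiv.Perm.inv_eq_iff_eq.2 c2.symm]
    rw [Subgroup.map_sup, Subgroup.map_sup, ← this, ← Equiv.image_compl, ← map_inv]
    refine Cj.sup' ?_ ?_ <;> rintro _ ⟨x, hx, rfl⟩ <;> exact ⟨_, h4.conj_Bl hx, by simp⟩
  · obtain ⟨p', rfl, rfl, rfl⟩ := exists_perm3' hij hik hjk h4 h6 h5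
    obtain ⟨g', hg⟩ := exists_sp K p'
    rw [k1 _ _ a1, k1 _ _ a2, a3, a4, a5, a6] at h3
    simp only [← k2 g' p' hg i j hij, ← k2 g' p' hg j k hjk, ← k2 g' p' hg i k hik, ← h3, k3]
    group

end H6.P6
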