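import Mathlib
import Cfsg.Agent.Lib.Pres6.Sg

/-!
Short presentations of the even orthogonal and unitary groups over `SL_n` with one more generator.
-/

set_option autoImplicit false

open scoped commutatorElement

namespace H6.P6

open H63.St H63.St.Eich H63.St.SL Matrix H77.Pres H64.St2 H40 Monoid

variable {m : ℕ} {K V G Γ : Type*} [Field K] [AddCommGroup V] [Module K V] [Group G] [Group Γ]
  {π : Γ →* G}

lemma Nd.conj {A B A' B' : Subgroup G} {ψ ψ' : SpecialLinearGroup (Fin 2) K →* G} (h : Nd A B ψ)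
    {g : G} (e : ∀ x, ψ' x = g * ψ x * g⁻¹) (h1 : Cj g A A') (h2 : Cj g⁻¹ A' A) (h3 : Cj g B B')
    (h4 : Cj g⁻¹ B' B) : Nd A' B' ψ' := by
  refine ⟨fun x y hxy => h.inj (by simpa [e] using hxy), fun x => ⟨fun hx => ?_, ?_⟩,
    fun x => ⟨fun hx => ?_, ?_⟩⟩
  · exact ((h.mem_x _).1 (h2 x hx)).imp fun t ht => by simp [e, ht, mul_assoc]
  · rintro ⟨t, rfl⟩; exact e _ ▸ h1 _ (h.x t)
  · exact ((h.mem_y _).1 (h4 x hx)).imp fun t ht => by simp [e, ht, mul_assoc]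
  · rintro ⟨t, rfl⟩; exact e _ ▸ h3 _ (h.y t)

lemma Mono_cjL' {E : Eich m K V G} {g : G} {d : J m → K} {τ : Equiv.Perm (J m)} (h : E.Mono g d τ)
    {a b : J m} (e : In a b) : Cj g⁻¹ (E.L (τ a) (τ b)) (E.L a b) := by
  simpa using Mono_cjL h.inv (h.in_map e)

lemma Mn.nrm {Ω : Type*} [Fintype Ω] [DecidableEq Ω] {g : SpecialLinearGroup Ω K} {η : Ω → K}
    (h : Mn g 1 η) (φ : SpecialLinearGroup Ω K →* Γ) (S : Set Ω) :
    φ g ∈ Subgroup.normalizer ((Bl K S).map φ : Set Γ) := by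
  refine norm_of_cj ?_ ?_ <;> rintro _ ⟨x, hx, rfl⟩
  · exact ⟨_, by simpa using h.conj_Bl hx, by simp⟩
  · exact ⟨_, by simpa using h.inv.conj_Bl hx, by simp⟩

/-- Conjugation by `x` identifies `A` and `B`. -/
def Tw (x : Γ) (A B : Subgroup Γ) : Prop := Cj x A B ∧ Cj x⁻¹ B A

lemma Tw.mul {x y : Γ} {A B : Subgroup Γ} (h : Tw x A B) (hy : y ∈ Subgroup.normalizer (A : Set Γ)) :
    Tw (x * y) A B :=
  ⟨h.1.mul (cj_of_norm hy), _root_.mul_inv_rev x y ▸ (cj_of_norm (inv_mem hy)).mul h.2⟩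

lemma Tw.cj {x y : Γ} {A B : Subgroup Γ} (h : Tw x A B) (hy : Cj (x⁻¹ * y * x) A A) : Cj y B B := by
  simpa [mul_assoc] using (h.1.mul hy).mul h.2

lemma Tw.inj {x : Γ} {A B C D : Subgroup Γ} (hD : ∀ y ∈ D, π y = 1 → y = 1) (h : Tw x A B)
    (h1 : A ≤ D) (h2 : Cj x⁻¹ C D) : ∀ y ∈ C ⊔ B, π y = 1 → y = 1 := fun y hy e => by
  exact conj_eq_one_iff.1 (hD _ (h2.sup (h.2.mono le_rfl h1) y hy) (by simp [e]))

variable {E : Eich (m + 2) K V G} {f : SpecialLinearGroup (Fin (m + 3)) K →* G}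
  {φ : SpecialLinearGroup (Fin (m + 3)) K →* Γ} {S : Fin (m + 3) → Fin (m + 3) → Γ}
  {ψ : SpecialLinearGroup (Fin 2) K →* Γ}
  {χ : SpecialLinearGroup (Fin 2) K →* SpecialLinearGroup (Fin (m + 3)) K}

set_option hygiene false in
local notation "p₀" => Fin.castSucc (Fin.last (m + 1))
set_option hygiene false in
local notation "l₀" => Fin.last (m + 2)
set_option hygiene false in
local notation "A₁" => Subgroup.map φ (Bl K {p₀, l₀})

lemma p_ne_zero : p₀ ≠ 0 := by simp [Fin.ext_iff]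

lemma l_ne_zero : l₀ ≠ 0 := by simp [Fin.ext_iff]

lemma α1_false : VC.α1 false l₀ = ps p₀ := by simp [Fin.ext_iff, VC.α1_val, ps_val]

lemma sp_swap : sp l₀ 0 * lp (Equiv.swap p₀ l₀) * (sp l₀ 0)⁻¹ = VC.τp (ps p₀) (ps l₀) := by
  have k : ∀ i, sp l₀ 0 (ps (Equiv.swap p₀ l₀ i)) = VC.τ (ps p₀) (ps l₀) (sp l₀ 0 (ps i)) := by
    intro i
    have := @pl_ne (m + 1)
    have := @p_ne_zero m
    have := @l_ne_zero m
    by_cases e1 : i = p₀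
    · simp [*, sp_ps]
    by_cases e2 : i = l₀
    · simp [*, sp_ps]
    rw [Equiv.swap_apply_of_ne_of_ne e1 e2, sp_ps l_ne_zero]
    split_ifs <;> simp [VC.τ_rev, VC.τ_in (in_ps (Ne.symm e1)) (in_ps (Ne.symm e2))]
  rw [mul_inv_eq_iff_eq_mul]
  ext a : 1
  rcases ps_or a with ⟨i, rfl⟩ | ⟨i, rfl⟩ <;> simp [k, sp_rev, VC.τ_rev]

lemma sp_lp : VC.τp (ps p₀) (ps l₀) * (lp (Equiv.swap p₀ l₀))⁻¹ = sp l₀ p₀ := by
  have k : ∀ i, VC.τ (ps p₀) (ps l₀) (ps i) = sp l₀ p₀ (ps (Equiv.swap p₀ l₀ i)) := by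
    intro i
    have := (@pl_ne (m + 1)).symm
    by_cases e1 : i = p₀
    · simp [*, sp_ps]
    by_cases e2 : i = l₀
    · simp [*, sp_ps]
    rw [Equiv.swap_apply_of_ne_of_ne e1 e2, sp_ps this]
    simp [e1, e2, VC.τ_in (in_ps (Ne.symm e1)) (in_ps (Ne.symm e2))]
  rw [mul_inv_eq_iff_eq_mul]
  ext a : 1
  rcases ps_or a with ⟨i, rfl⟩ | ⟨i, rfl⟩ <;> simp [k, sp_rev, VC.τ_rev]

namespace SF

variable (h : SF π E φ S) (hf : Emb E f) (hφ : ∀ g, π (φ g) = f g)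
include h

lemma inv {i j : Fin (m + 3)} (hij : i ≠ j) : (S i j)⁻¹ = S j i := by
  obtain ⟨k, h1, h2⟩ := Fin.exists_ne_and_ne_of_two_lt i j (by omega)
  rw [inv_eq_iff_mul_eq_one, ← mul_left_inj (S i k), mul_assoc, h.mul j i k hij.symm h1.symm h2.symm,
    h.mul i j k hij h2.symm h1.symm, one_mul]

include hf hφ

lemma comm {i j : Fin (m + 3)} (hij : i ≠ j) {g : SpecialLinearGroup (Fin (m + 3)) K}
    (hg : g ∈ Bl K {i, j}ᶜ) : Commute (S i j) (φ g) :=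
  comm_of_nrm hf hφ (h.map i j hij) hij (h.nrm i j hij) (Subgroup.mem_sup_right hg)
    ((h.map i j hij).comm hf hij hg)

lemma cj {i j : Fin (m + 3)} (hij : i ≠ j) :
    Cj (S i j) ((Bl K {i, j}).map φ) ((Bl K {i, j}).map φ) :=
  Cj.of_inj (hf.inj_D hφ) ((h.nrm i j hij).mono (Subgroup.map_mono le_sup_left) le_rfl)
    (Subgroup.map_le_range _ _) (by
      rw [Subgroup.map_map, show π.comp φ = f from MonoidHom.ext hφ]
      exact (h.map i j hij).cj hf hij)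

lemma nrm' {i j : Fin (m + 3)} (hij : i ≠ j) :
    S i j ∈ Subgroup.normalizer ((Bl K {i, j}).map φ : Set Γ) :=
  norm_of_cj (h.cj hf hφ hij) (by rw [h.inv hij, Set.pair_comm]; exact h.cj hf hφ hij.symm)

lemma sq (hV : ∀ v ∈ E.V0, v = 0) {i j : Fin (m + 3)} (hij : i ≠ j) :
    S i j * S i j = φ (hd E.ε_ne i j) := by
  obtain ⟨g, h1, h2⟩ := exists_sp_swap (K := K) hij
  have h3 := h.conj g _ h2 i j hij
  rw [Equiv.swap_apply_left, Equiv.swap_apply_right, ← h.inv hij] at h3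
  refine eq_of_inj (hf.inj_D hφ) ?_ ⟨_, rfl⟩ (by rw [map_mul, hφ, (h.map i j hij).sq hf hV hij])
  rw [show S i j * S i j = S i j * φ g * (S i j)⁻¹ * (φ g)⁻¹ by
    simpa [mul_assoc] using (congrArg (·⁻¹) h3).symm]
  exact mul_mem (h.nrm i j hij _ ⟨g, Subgroup.mem_sup_left h1, rfl⟩) (inv_mem ⟨g, rfl⟩)

variable (hV : ∀ v ∈ E.V0, v = 0) (hχ : Blk χ p₀ l₀)
  (hψ : ∀ x, ψ x = S l₀ 0 * φ (χ x) * (S l₀ 0)⁻¹)
include hχ hψ

lemma tw_l {o : Fin (m + 3)} (h1 : o ≠ p₀) (h2 : o ≠ l₀) : Tw (S l₀ o) A₁ ψ.range := by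
  have k : Tw (S l₀ 0) A₁ ψ.range := by
    rw [← hχ.range]
    exact ⟨by rintro _ ⟨_, ⟨x, rfl⟩, rfl⟩; exact ⟨x, hψ x⟩,
      by rintro _ ⟨x, rfl⟩; exact ⟨_, ⟨x, rfl⟩, by simp [hψ, mul_assoc]⟩⟩
  by_cases e : o = 0
  · exact e ▸ k
  rw [← h.mul _ 0 _ l_ne_zero (Ne.symm e) h2.symm]
  refine k.mul (Subgroup.centralizer_le_normalizer _ ?_)
  rintro _ ⟨g, hg, rfl⟩
  refine (h.comm hf hφ (Ne.symm e) (Subgroup.closure_mono ?_ hg)).symm
  rintro _ ⟨i, hi, j, hj, t, rfl⟩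
  have : ∀ i ∈ ({p₀, l₀} : Set _), i ∈ ({0, o} : Set _)ᶜ := by
    rintro _ (rfl | rfl) <;> simp [p_ne_zero, l_ne_zero, h1.symm, h2.symm]
  exact ⟨i, this i hi, j, this j hj, t, rfl⟩

lemma nda {hs : false = false → 1 ≤ m + 2} :
    Nda (VC false (m + 2) hs).toRoots (E.X false) π l₀ ψ := by
  have b := in_ps (@pl_ne (m + 1))
  have h1 := h.map _ _ (@l_ne_zero m)
  refine ⟨?_, fun t ht => ?_⟩
  · change Nd (E.Xz s(_, _)) (E.Xz s(_, _)) _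
    rw [α1_false, α2_last, E.Xz_L b, E.Xz_L b.rev.rev']
    refine (hf.nd pl_ne hχ.inj hχ.x hχ.y).conj (g := π (S l₀ 0)) (by simp [hψ, hφ]) ?_ ?_ ?_ ?_
    · simpa [sp_rev, sp_ps l_ne_zero, pl_ne, p_ne_zero] using Mono_cjL h1 b.rev
    · simpa [sp_rev, sp_ps l_ne_zero, pl_ne, p_ne_zero] using Mono_cjL' h1 b.rev
    · simpa [sp_rev, sp_ps l_ne_zero, pl_ne, p_ne_zero] using Mono_cjL h1 b.rev'
    · simpa [sp_rev, sp_ps l_ne_zero, pl_ne, p_ne_zero] using Mono_cjL' h1 b.rev'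
  · obtain ⟨η, h2⟩ := mn_hm_wm hχ.h hχ.w ht
    obtain ⟨d, h3, -⟩ := hf.mono h2
    have := (Mono.mul h1 h3).mul (Mono.inv h1)
    rw [sp_swap] at this
    rw [hψ, map_mul, map_mul, map_inv, hφ]
    exact MA.acts ⟨_, _, this, fun r => (VC.refl_mk _ r).trans (by rw [α1_false, α2_last])⟩

omit hf hφ in
lemma w_eq : ψ (wm K) = S l₀ p₀ * φ (χ (wm K)) := by
  have := h.conj _ _ ⟨_, fun b => by split_ifs <;> simp, hχ.w⟩ 0 l₀ l_ne_zero.symm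
  rw [Equiv.swap_apply_of_ne_of_ne p_ne_zero.symm l_ne_zero.symm, Equiv.swap_apply_right] at this
  rw [hψ, h.inv l_ne_zero, ← h.mul _ 0 _ l_ne_zero p_ne_zero.symm pl_ne.symm, ← this]
  group

lemma tor_cj {x y : Γ} {d c : J (m + 2) → K} {τ : Equiv.Perm (J (m + 2))} (h1 : Tw x A₁ ψ.range)
    (h2 : x⁻¹ * y * x ∈ φ.range) (h3 : E.Mono (π y) d 1) (h4 : E.Mono (π x) c τ) :
    Cj y ψ.range ψ.range := by
  refine h1.cj (Cj.of_inj (hf.inj_D hφ) ((cj_self h2).mono (Subgroup.map_le_range _ _) le_rfl)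
    (Subgroup.map_le_range _ _) ?_)
  have b := in_ps (@pl_ne (m + 1))
  rw [Subgroup.map_map, show π.comp φ = f from MonoidHom.ext hφ, hf.map_Bl pl_ne, map_mul, map_mul,
    map_inv]
  exact (Mono_cjL (Mono_conj1 h3 h4) b.rev).sup' (Mono_cjL (Mono_conj1 h3 h4) b.rev')

lemma ψ_conj {y : Γ} {d : J (m + 2) → K} (h1 : E.Mono (π y) d 1) (u : K) :
    π (y * ψ (slx u) * y⁻¹) = π (ψ (slx (d (ps p₀) * E.σ (d (ps l₀)) * u))) := by
  have b : p₀ ≠ l₀ := pl_ne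
  have := hf.conj_tv (Mono_conj1 h1 (h.map _ _ (@l_ne_zero m))) b u
  simp only [sp_ps l_ne_zero, b, p_ne_zero, true_or, or_self, if_true, if_false, h1.rev_eq,
    inv_inv] at this
  simp only [hψ, hφ, hχ.x, ← this, map_mul, map_inv]
  group

include hV

lemma tw_p {o : Fin (m + 3)} (h1 : o ≠ p₀) (h2 : o ≠ l₀) : Tw (S p₀ o) A₁ ψ.range := by
  have := ((h.tw_l hf hφ hχ hψ h1 h2).mul (inv_mem ((mn_hd E.ε_ne l₀ o).nrm φ _))).mul (mul_mem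
    (Set.pair_comm p₀ l₀ ▸ h.nrm' hf hφ pl_ne.symm) (inv_mem ((mn_hd E.ε_ne o p₀).nrm φ _)))
  rwa [← h.sq hf hφ hV h2.symm, ← h.sq hf hφ hV h1, ← h.mul _ o _ h2.symm h1 pl_ne.symm,
    show ∀ a b : Γ, a * (a * a)⁻¹ * (a * b * (b * b)⁻¹) = b⁻¹ from fun a b => by group,
    h.inv h1] at this

lemma hd_cj {t : K} (ht : t ≠ 0) : Cj (φ (hd ht p₀ 0)) ψ.range ψ.range ∧
    Cj (φ (hd ht p₀ l₀)) ψ.range ψ.range := by
  have k : ∀ i j a b, a ≠ b → ({i, j} : Set _) = {a, b} → Tw (S a b) A₁ ψ.range →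
      Cj (φ (hd ht i j)) ψ.range ψ.range := fun i j a b e1 e2 e3 => by
    obtain ⟨d, h1, -⟩ := hf.mono_hd ht i j
    refine h.tor_cj hf hφ hχ hψ e3 (Subgroup.map_le_range φ (Bl K {a, b}) ?_) (hφ _ ▸ h1)
      (h.map a b e1)
    simpa using cj_of_norm (inv_mem (h.nrm' hf hφ e1)) _ ⟨_, e2 ▸ hd_mem ht i j, rfl⟩
  have h1 := k _ _ _ _ p_ne_zero rfl (h.tw_p hf hφ hV hχ hψ p_ne_zero.symm l_ne_zero.symm)
  refine ⟨h1, ?_⟩
  rw [← hd_mul ht _ 0, map_mul]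
  exact h1.mul (k _ _ _ _ l_ne_zero (Set.pair_comm _ _)
    (h.tw_l hf hφ hχ hψ p_ne_zero.symm l_ne_zero.symm))

lemma mon_cj {t : K} (ht : t ≠ 0) : Cj (φ (χ (hm ht * wm K))) ψ.range ψ.range := by
  rw [map_mul, map_mul, hχ.h]
  refine (h.hd_cj hf hφ hV hχ hψ ht).2.mul ?_
  have := h.conj _ _ ⟨_, fun b => by split_ifs <;> simp, hχ.w⟩ l₀ 0 l_ne_zero
  rw [Equiv.swap_apply_of_ne_of_ne p_ne_zero.symm l_ne_zero.symm, Equiv.swap_apply_right] at this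
  simpa [← this, mul_assoc] using ((h.tw_p hf hφ hV hχ hψ p_ne_zero.symm l_ne_zero.symm).1.mul
    (cj_self ⟨_, hχ.range.le ⟨wm K, rfl⟩, rfl⟩)).mul
      (h.tw_l hf hφ hχ hψ p_ne_zero.symm l_ne_zero.symm).2

lemma cm_far [Finite K] (h6 : m = 1 → ∀ y ∈ (Bl K {p₀, l₀}ᶜ).map φ, Commute (ψ (slx 1)) y)
    (i : Fin (m + 2)) (hi : (i : ℕ) < m) : Cm ((Bl K {i.castSucc, i.succ}).map φ) ψ.range ⊥ := by
  have k : ∀ {S T : Set (Fin (m + 3))}, S ⊆ T → Bl K S ≤ Bl K T := fun h =>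
    Bl_le fun i hi j hj _ t => tv_mem (h hi) (h hj) t
  have k1 : ({i.castSucc, i.succ} : Set _) ⊆ {p₀, l₀}ᶜ := by
    rintro _ (rfl | rfl) <;> simp [Fin.ext_iff] <;> omega
  by_cases e : m = 1
  · refine Cm.mono (cm_bot fun x hx y hy => ?_) (Subgroup.map_mono (k k1)) le_rfl le_rfl
    obtain ⟨y, rfl⟩ := hy
    refine (top_of_slx_wm ((Subgroup.centralizer ((Bl K {p₀, l₀}ᶜ).map φ : Set Γ)).comap ψ)
      (fun t => ?_) ?_).ge (Subgroup.mem_top y) x hx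
    · by_cases ht : t = 0
      · rw [ht, show slx (0 : K) = 1 from (sl K).x_zero]; exact one_mem _
      obtain ⟨d, h1, h2⟩ := hf.mono_hd ht p₀ 0
      rw [Subgroup.mem_comap, ← eq_of_inj (h.nda hf hφ hχ hψ (hs := by simp)).inj
        ((h.hd_cj hf hφ hV hχ hψ ht).1 _ ⟨slx 1, rfl⟩) ⟨slx t, rfl⟩ (by
          rw [h.ψ_conj hf hφ hχ hψ (hφ _ ▸ h1)]
          simp [h2, ep, p_ne_zero, l_ne_zero, pl_ne.symm])]
      exact (cj_of_norm (inv_mem ((mn_hd ht p₀ 0).nrm φ _))).centralizer _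
        fun y hy => (h6 e y hy).symm
    · rintro _ ⟨x, hx, rfl⟩
      rw [h.w_eq hχ hψ]
      exact (Commute.mul_left (h.comm hf hφ pl_ne.symm (Set.pair_comm p₀ l₀ ▸ hx))
        ((Bl_commute disjoint_compl_right (hχ.range.le ⟨_, rfl⟩) hx).map φ)).symm
  · obtain ⟨o, h1, h2, h3, h4⟩ : ∃ o, o ≠ p₀ ∧ o ≠ l₀ ∧ i.castSucc ≠ o ∧ i.succ ≠ o :=
      by
      by_cases e : (i : ℕ) = 0
      · exact ⟨⟨2, by omega⟩, by simp only [ne_eq, Fin.ext_iff]; simp; omega⟩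
      · exact ⟨0, p_ne_zero.symm, l_ne_zero.symm, fun h => e (congrArg Fin.val h), i.succ_ne_zero⟩
    refine Cm.of_conj (g := (S l₀ o)⁻¹) (cm_bot ?_) ?_ (h.tw_l hf hφ hχ hψ h1 h2).2 (cj_bot _)
      (A' := (Bl K {i.castSucc, i.succ}).map φ)
    · rintro _ ⟨x, hx, rfl⟩ _ ⟨y, hy, rfl⟩
      exact (Bl_commute disjoint_compl_right hy (k k1 hx)).symm.map φ
    · rintro _ ⟨x, hx, rfl⟩
      rw [(h.comm hf hφ h2.symm (k ?_ hx)).inv_left.eq, mul_inv_cancel_right]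
      · exact ⟨x, hx, rfl⟩
      · rintro _ (rfl | rfl) <;> simp [h3, h4, Fin.ext_iff] <;> omega

theorem exists_ZD [Finite K] (h6 : m = 1 → ∀ y ∈ (Bl K {p₀, l₀}ᶜ).map φ, Commute (ψ (slx 1)) y)
    {hs : false = false → 1 ≤ m + 2} : ∃ Z, ZS hs E π Z φ ψ ∧ RL Z ∧
      ∀ θ, θ + E.σ θ = 1 → ∀ a, ∀ y ∈ Ys Z a, π y = 1 → y = 1 := by
  have N := h.nda hf hφ hχ hψ (hs := hs)
  have b0 := in_ps (@pl_ne (m + 1))
  obtain ⟨Z, z⟩ := exists_ZS hf hφ N fun i => by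
    rcases lt_trichotomy (i : ℕ) m with e | e | e
    · have h5 := h.cm_far hf hφ hV hχ hψ h6 i e
      have b1 : In (ps i.castSucc) (ps p₀) := in_ps (by simp [Fin.ext_iff]; omega)
      have b2 : In (ps i.castSucc) (ps l₀) := in_ps (by simp [Fin.ext_iff]; omega)
      have b3 : In (ps i.succ) (ps p₀) := in_ps (by simp [Fin.ext_iff]; omega)
      have b4 : In (ps i.succ) (ps l₀) := in_ps (by simp [Fin.ext_iff]; omega)
      refine ⟨pairC_norm (fun _ h _ => h5.cj h) (Subtype.ext ?_),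
        pairC_norm (fun _ h _ => h5.symm.cj h) (Subtype.ext ?_)⟩ <;> simp only [σ_val, α_val]
      · simp [α1_cs, α2_cs, α1_false, α2_last, VC.τ_in b1.symm b2.symm, VC.τ_rev,
          VC.τ_in b3.symm b4.symm]
      · simp [α1_cs, α2_cs, α1_false, α2_last, VC.τ_in b1 b3.rev', VC.τ_in b2 b4.rev']
    · have e1 : i.succ = p₀ := by simp [Fin.ext_iff, e]
      have e2 : i.castSucc ≠ p₀ := by simp [Fin.ext_iff]; omega
      have := (h.tw_p hf hφ hV hχ hψ e2 (Fin.castSucc_lt_last i).ne).inj (hf.inj_D hφ)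
        (Subgroup.map_le_range _ _) (C := (Bl K {i.castSucc, i.succ}).map φ) (by
          rw [h.inv e2.symm, ← e1]
          exact (h.cj hf hφ (cs_ne i)).mono le_rfl (Subgroup.map_le_range _ _))
      exact ⟨Or.inl this, Or.inl (by rwa [sup_comm])⟩
    · obtain rfl : i = Fin.last (m + 1) := by rw [Fin.ext_iff, Fin.val_last]; omega
      rw [Fin.succ_last]
      refine ⟨pairC_norm (fun y h1 h2 => ?_) (Subtype.ext ?_),
        pairC_norm (fun y h1 h2 => ?_) (Subtype.ext ?_)⟩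
      · obtain ⟨t, ht, rfl⟩ := N.mon h1 h2
        have h3 := h.tw_l hf hφ hχ hψ p_ne_zero.symm l_ne_zero.symm
        have h4 := (mn_hd E.ε_ne l₀ 0).nrm φ {p₀, l₀}
        rw [← h.sq hf hφ hV l_ne_zero] at h4
        simpa [hψ, mul_assoc, -map_mul] using (((cj_of_norm h4).mul h3.2).mul
          (h.mon_cj hf hφ hV hχ hψ ht)).mul (h3.mul (inv_mem h4)).1
      · simp only [σ_val, α_val]
        simp [α1_cs, α2_cs, α1_false, α2_last, Sym2.eq_swap]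
      · rw [← hχ.range, ← MonoidHom.range_comp] at h1
        obtain ⟨t, ht, rfl⟩ := (hf.nda' hφ hχ).mon h1 h2
        exact h.mon_cj hf hφ hV hχ hψ ht
      · simp only [σ_val, α_val]
        simp [α1_cs, α2_cs, α1_false, α2_last, Sym2.eq_swap]
  have rl := z.lz.rl hf hφ z.tv z.pw fun _ i hi => (h.cm_far hf hφ hV hχ hψ h6 i (by omega)).mono
    (z.lz.le_Bl hf hφ z.tv (cs_ne i) (by simp) (by simp))
    (fun y hy => (z.le_x N hy).elim fun _ e => ⟨_, e⟩) le_rfl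
  refine ⟨Z, z, rl, fun θ hθ => Ys_inj_all z.pw (x := ps 0) ?_⟩
  have b1 := in_ps (@p_ne_zero m)
  have b2 := in_ps (@l_ne_zero m)
  have c1 : A₁ ≤ Subgroup.centralizer (Ys Z (ps 0)) := Subgroup.map_le_iff_le_comap.2 <|
    Bl_two_le (fun t y hy => ((y90 z.lz rl (by omega) b0.rev b1 b2.rev').commute
      (z.tv _ _ pl_ne t) hy).symm) fun t y hy => ((y90 z.lz rl (by omega) b0.symm.rev b2
        b1.rev').commute (z.tv _ _ pl_ne.symm t) hy).symm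
  have c2 : ψ.range ≤ Subgroup.centralizer (Ys Z (ps 0)) := by
    rw [ψ.range_eq_map, ← sl_closure, MonoidHom.map_closure, Subgroup.closure_le]
    rintro _ ⟨_, ⟨t, rfl⟩ | ⟨t, rfl⟩, rfl⟩ y hy
    · exact ((y90 z.lz rl (by omega) b0 b1 b2).commute (α1_false (m := m) ▸ z.x t) hy).symm
    · exact ((y90 z.lz rl (by omega) b0.rev.rev' b1.rev' b2.rev').commute
        (α1_false (m := m) ▸ z.y t) hy).symm
  refine Ys_inj z.lz rl (by omega) b2.symm (hf.nm _) (hf.nm.κ_rev _) hθ (fun μ hμ => ?_) ?_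
  · obtain ⟨d, h1, h2⟩ := hf.mono_hd hμ l₀ p₀
    exact ⟨_, d, z.mh μ hμ l₀ p₀, c1 ⟨_, Set.pair_comm l₀ p₀ ▸ hd_mem hμ _ _, rfl⟩, hφ _ ▸ h1,
      by simp [h2, ep, p_ne_zero.symm, l_ne_zero.symm], by simp [h2, ep, pl_ne.symm]⟩
  · have e := eq_mul_inv_of_mul_eq (h.w_eq hχ hψ).symm
    have := (z.ml 1 one_ne_zero).mul ((z.mw (Fin.last _) _ (hχ.range.le ⟨_, rfl⟩) _ hχ.w).inv
      (lp_rev' _)) fun a => (lp (Equiv.swap p₀ l₀)).injective (by simp [lp_rev'])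
    rw [hm_one _ rfl, one_mul, ← e, α1_false, Fin.succ_last, sp_lp] at this
    exact ⟨_, _, _, this, e ▸ mul_mem (c2 ⟨_, rfl⟩) (inv_mem (c1 ⟨_, hχ.range.le ⟨_, rfl⟩, rfl⟩)),
      h.map _ _ pl_ne.symm, by simp [sp_ps pl_ne.symm, p_ne_zero.symm, l_ne_zero.symm],
      by simp [sp_ps pl_ne.symm], by simp [sd_ps, p_ne_zero.symm], by simp [sd_ps, pl_ne.symm],
      by simp [sd_rev]⟩

end SF

end H6.P6
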