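import Mathlib
import Cfsg.Agent.Lib.Pres6.ThmD

/-!
Counting the relators for the even orthogonal and unitary groups.
-/

set_option autoImplicit false

open scoped commutatorElement

namespace H6.P6

open H63.St H63.St.Eich H63.St.SL Matrix H77.Pres H64.St2 H40 Monoid

universe u

variable {m : ℕ} {K : Type u} {V G Γ : Type*} [Field K] [AddCommGroup V] [Module K V] [Group G]
  [Group Γ] {π : Γ →* G} {E : Eich (m + 2) K V G} {f : SpecialLinearGroup (Fin (m + 3)) K →* G}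
  {φ : SpecialLinearGroup (Fin (m + 3)) K →* Γ} {S : Fin (m + 3) → Fin (m + 3) → Γ}
  {ψ : SpecialLinearGroup (Fin 2) K →* Γ} {k : Type*} [Field k]
  {χ : SpecialLinearGroup (Fin 2) K →* SpecialLinearGroup (Fin (m + 3)) K}

set_option hygiene false in
local notation "p₀" => Fin.castSucc (Fin.last (m + 1))
set_option hygiene false in
local notation "l₀" => Fin.last (m + 2)

namespace SF

variable (h : SF π E φ S) (hf : Emb E f) (hφ : ∀ g, π (φ g) = f g) (hχ : Blk χ p₀ l₀)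
  (hψ : ∀ x, ψ x = S l₀ 0 * φ (χ x) * (S l₀ 0)⁻¹)
include h hχ hψ

lemma gen : S l₀ 0 ∈ φ.range ⊔ ψ.range := by
  obtain ⟨g, -, h1⟩ := exists_sp_swap (K := K) (@p_ne_zero m)
  have b : l₀ ≠ p₀ := pl_ne.symm
  have := h.conj g _ h1 _ _ b
  rw [Equiv.swap_apply_left, Equiv.swap_apply_of_ne_of_ne b l_ne_zero,
    eq_mul_inv_of_mul_eq (h.w_eq hχ hψ).symm] at this
  have k : ∀ g, φ g ∈ φ.range ⊔ ψ.range := fun g => Subgroup.mem_sup_left ⟨g, rfl⟩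
  exact this ▸ mul_mem (mul_mem (k _) (mul_mem (Subgroup.mem_sup_right ⟨_, rfl⟩) (inv_mem (k _))))
    (inv_mem (k _))

variable [Finite K] (h6 : m = 1 → ∀ y ∈ (Bl K {p₀, l₀}ᶜ).map φ, Commute (ψ (slx 1)) y)
include hf hφ h6

theorem ker_SU [Finite k] (A : E.SNA k) {θ : K} (hθ : θ + E.σ θ = 1) :
    ∀ y ∈ φ.range ⊔ ψ.range, π y = 1 → y = 1 := by
  obtain ⟨Z, z, rl, h1⟩ := h.exists_ZD hf hφ A.V0_eq hχ hψ h6 (hs := by simp)
  exact fun y hy => ker_U z.lz rl (by omega) A hθ hf hφ z.tv rfl (h1 θ hθ) y (z.top hy)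

theorem ker_O (hc : E.Cl) (hV : ∀ v ∈ E.V0, v = 0)
    (h7 : Commute (φ (tv p₀ l₀ 1)) (ψ (slx 1))) : ∀ y ∈ φ.range ⊔ ψ.range, π y = 1 → y = 1 := by
  have H := hc.hyp (by omega)
  obtain ⟨Z, z, rl, h1⟩ := h.exists_ZD hf hφ hV hχ hψ h6 (hs := H.le)
  have N := h.nda hf hφ hχ hψ (hs := H.le)
  have b : p₀ ≠ l₀ := pl_ne
  have b0 := in_ps b
  have cm : ∀ a b, In a b → Cm (Z s(a, b)) (Z s(a, b.rev)) ⊥ := by
    by_cases h2 : (2 : K) = 0
    swap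
    · exact cm_Cl z.lz hc (h1 2⁻¹ (by rw [hc.σ_eq]; field_simp; norm_num))
    refine all2 (hs := H.le) (fun τ hτ a b h H => (z.pw τ hτ).elim fun g hg =>
      H.of_conj (hg _ _ h.ok).1 (hτ.1 b ▸ (hg _ _ h.rev.ok).1) (cj_bot _)) b0 (cm_bot ?_) (by simp)
    intro x hx y hy
    obtain ⟨u, rfl⟩ := z.le_x N (y := x) (by rwa [α1_false])
    obtain ⟨t, rfl⟩ := z.lz.ex_tv hf hφ z.tv b hy
    by_cases hu : u = 0
    · rw [hu, show slx (0 : K) = 1 from (sl K).x_zero, map_one]; exact Commute.one_left _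
    by_cases ht : t = 0
    · simp [ht]
    have := CharTwo.of_one_ne_zero_of_two_eq_zero one_ne_zero h2
    obtain ⟨μ, e⟩ := FiniteField.isSquare_of_char_two (ringChar.eq K 2) (t * u)
    have hμ : μ ≠ 0 := by rintro rfl; simp [ht, hu] at e
    have hν := div_ne_zero hμ ht
    have n := (mn_hd hμ p₀ 0).mul (mn_hd hν l₀ 0)
    obtain ⟨d, d1, d2, -⟩ := hf.mono n
    rw [mul_one, lp_one, ← hφ] at d1
    have d3 := (z.mh _ hμ p₀ 0).mul (z.mh _ hν l₀ 0) fun _ => rfl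
    rw [← map_mul, mul_one] at d3
    have := h7.conj (φ (hd hμ p₀ 0 * hd hν l₀ 0))
    rw [← map_inv, ← map_mul, ← map_mul, n.conj_tv b, map_inv, eq_of_inj (z.lz.inj _ b0.ok)
      (d3.cj b0.ok _ (α1_false (m := m) ▸ z.x 1)) hx (by
        rw [h.ψ_conj hf hφ hχ hψ d1]
        congr 3
        simp [d2, ep, p_ne_zero, l_ne_zero, b, b.symm, hc.σ_eq]
        field_simp; linear_combination -e)] at this
    simpa [ep, p_ne_zero, l_ne_zero, b, b.symm, mul_div_cancel₀ _ hμ] using this.symm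
  have lf := z.lz.lf H rl (by simp) fun _ => cm
  have h1 := z.lz.rk hf hφ z.tv H (z.rk H N)
  obtain ⟨Sn, e1⟩ := N.node lf H.faith h1 (α2_last (m := m + 2) ▸ z.x :)
    (α2_last (m := m + 2) ▸ z.y :)
  refine fun y hy => lf.eq_one H.faith h1 (hf.inj_D hφ) (fun j => z.lz.sup_le_D hf hφ z.tv) Sn ?_
    (z.top hy)
  rintro c hc0 ⟨_, ⟨g, rfl⟩, e⟩
  rw [e1 c hc0, hψ, hχ.h] at e ⊢
  obtain ⟨d, d1, d2, d3⟩ := hf.mono (mn_hd (inv_ne_zero hc0) p₀ l₀)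
  have d4 := Mono_conj1 (lp_one (m := m + 2) ▸ d1) (h.map _ _ (@l_ne_zero m).symm)
  rw [← h.inv l_ne_zero, map_inv, inv_inv, ← hφ, ← map_inv, ← map_mul, ← map_mul, ← e, hφ] at d4
  have d5 := hf.prod_eq_one d4
  rw [Finset.prod_eq_mul p₀ l₀ b (fun i _ hi => by
    rw [sp_ps l_ne_zero.symm]; split_ifs <;> simp [d2, d3, ep, hi]) (by simp) (by simp)] at d5
  simp only [sp_ps l_ne_zero.symm, p_ne_zero, b, or_true, or_self, if_true, if_false, d2, d3, ep,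
    b.symm, hc.σ_eq] at d5
  have := h.conj _ 1 ⟨_, fun a => by
    rw [← mul_zpow, show c⁻¹ * c⁻¹ = 1 by simpa using d5, _root_.one_zpow],
    mn_hd (inv_ne_zero hc0) p₀ l₀⟩ l₀ 0 l_ne_zero
  rw [mul_inv_eq_iff_eq_mul] at this
  exact ⟨_, eq_mul_inv_of_mul_eq this⟩

end SF

/-- The two cases. -/
def HK (E : Eich m K V G) (k : Type*) [Field k] (n : ℕ) : Prop :=
  (Nonempty (E.SNA k) ∧ ∃ θ, θ + E.σ θ = 1) ∨ E.Cl ∧ (∀ v c, E.P v c → v = 0 ∧ c = 0) ∧ 1 ≤ n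

lemma HK.V0 {E : Eich m K V G} {n : ℕ} (h : HK E k n) : ∀ v ∈ E.V0, v = 0 := fun v hv => by
  obtain ⟨⟨A⟩, -⟩ | ⟨-, h, -⟩ := h
  exacts [A.V0_eq v hv, (E.Λ_ex v).elim fun c hc => (h v c ⟨hv, hc⟩).1]

lemma HK.top {E : Eich (m + 1) K V G} {n : ℕ} (h : HK E k n) (hg : E.Gen) {B : Subgroup G}
    (hB : ∀ a b, In a b → E.L a b ≤ B) : B = ⊤ := by
  refine hg _ fun u v c => T_mem (fun a b => ?_) fun a => ?_
  · rintro _ ⟨t, rfl⟩
    by_cases e : In a b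
    · exact hB a b e (E.xl_mem _ _ _)
    · simp [xl, e]
  obtain ⟨⟨A⟩, θ, hθ⟩ | ⟨-, h, -⟩ := h
  · obtain ⟨b, hb⟩ := J.exists_in [a] (by simp)
    have hb := hb a (by simp)
    rw [← S_eq_comm A hθ hb]
    exact (Subgroup.commutator_le_sup _ _).trans (sup_le (hB _ _ hb) (hB _ _ hb.rev))
  · rintro _ ⟨v, c, hv, rfl⟩
    by_contra e
    exact hv.ne_zero (fun e' => e (e' ▸ Subgroup.one_mem _)) (h v c hv).2

theorem hasPr_D [Finite K] [Finite k] {n6 n7 : ℕ} (h6 : m ≠ 1 ∨ 2 ≤ n6) (hK : HK E k n7)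
    (hf : Emb E f) (hg : E.Gen) {d r : ℕ} (hP : HasPr (SpecialLinearGroup (Fin (m + 3)) K) d r) :
    HasPr G (d + 1) (r + (5 + n6 + n7)) := by
  have hV := hK.V0
  have b : l₀ ≠ p₀ := pl_ne.symm
  have b0 := in_ps b.symm
  have b1 := @l_ne_zero m
  have b2 := (@p_ne_zero m).symm
  obtain ⟨x, hx⟩ := exists_sg hf.nm b1
  obtain ⟨χ, hχ⟩ := exists_blk' (K := K) b.symm
  obtain ⟨p1, a3, a4⟩ := exists_perm2 b1 b2
  obtain ⟨p2, a5, a6⟩ := exists_perm2 b1 b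
  obtain ⟨g1, a1⟩ := exists_sp K p1
  obtain ⟨g2, a2⟩ := exists_sp K p2
  have e1 : Cj x ((Bl K {l₀, 0} ⊔ Bl K {l₀, 0}ᶜ).map f) f.range := by
    rw [Subgroup.map_sup]
    refine ((hx.cj hf b1).mono le_rfl (Subgroup.map_le_range _ _)).sup ?_
    rintro _ ⟨g, hg, rfl⟩
    exact ⟨g, by rw [(hx.comm hf b1 hg).eq, mul_inv_cancel_right]⟩
  have e2 : Commute x (f (hd (neg_ne_zero.2 (one_ne_zero' K)) l₀ p₀)) :=
    (mul_inv_eq_iff_eq_mul.1 (mono_ext hV (hx.conj hf b1 (sp_hd _ _)) hx)).symm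
  have e3 : x * (f g1 * x * (f g1)⁻¹) = f g2 * x * (f g2)⁻¹ :=
    mono_ext hV (hx.mul (a3 ▸ a4 ▸ hx.conj hf b1 a1) b1 b2 b) (a5 ▸ a6 ▸ hx.conj hf b1 a2)
  have e4 : x * f (χ (slx 1)) * x⁻¹ ∈ E.L (ps p₀) (ps l₀) := by
    simpa [sp_rev, sp_ps b1, b.symm, b2.symm] using
      Mono_cjL hx b0.rev _ ((hf.mem_L b.symm _).2 ⟨1, congrArg f (hχ.x 1).symm⟩)
  let s : Coprod (SpecialLinearGroup (Fin (m + 3)) K) (FreeGroup (Fin 1)) :=
    Coprod.inr (FreeGroup.of 0)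
  let F := Coprod.lift f (FreeGroup.lift fun _ : Fin 1 => x)
  have Fs : F s = x := by simp [F, s]
  have Fi : ∀ g, F (Coprod.inl g) = f g := fun _ => rfl
  have Fc : F.comp Coprod.inl = f := rfl
  have tp : ∀ {J : Type u} [Group J] (q : _ →* J), (q.comp Coprod.inl).range ⊔
      Subgroup.zpowers (q s) = q.range := fun q => by
    rw [Coprod.range_eq, (q.comp Coprod.inr).range_eq_map, ← FreeGroup.closure_range_of,
      MonoidHom.map_closure, ← Set.range_comp, Set.range_unique, Subgroup.zpowers_eq_closure]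
    rfl
  refine hasPr_of_cost (f := F) (by simpa using hasPr_coprod hP ⟨_, pr_free (Fin 1)⟩) ?_ ?_
  · obtain ⟨S, h, e⟩ := exists_SF (π := MonoidHom.id G) hf (fun _ => rfl) hV hx b1 b b2 e1 e2 a1 a2
      a3 a4 a5 a6 e3
    have N := h.nda hf (fun _ => rfl) hχ (ψ := (MulAut.conj x).toMonoidHom.comp (f.comp χ))
      (fun _ => by rw [e]; rfl) (hs := by simp)
    refine MonoidHom.range_eq_top.1 (hK.top hg fun a c h1 => E.Xz_L h1 ▸
      (X_le_sup hf N h1.ok).trans (sup_le ?_ ?_))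
    · rintro _ ⟨g, rfl⟩; exact ⟨_, Fi g⟩
    · rintro _ ⟨g, rfl⟩; exact ⟨s * Coprod.inl (χ g) * s⁻¹, by simp [Fs, Fi]⟩
  obtain ⟨y1, y2, y3, hy⟩ := Bl_three_gen K (S := {l₀, 0}) disjoint_compl_right
  have c1 := Cost.cj (f := F) (g := s) (B := Coprod.inl.range)
    [Coprod.inl y1, Coprod.inl y2, Coprod.inl y3] (A := (Bl K {l₀, 0} ⊔ Bl K {l₀, 0}ᶜ).map Coprod.inl)
    (by rw [← hy, MonoidHom.map_closure, Set.image_insert_eq, Set.image_pair]; congr 1; ext; simp)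
    (by rwa [Fs, Subgroup.map_map, ← MonoidHom.range_comp, Fc])
  have c2 := Cost.comm (f := F) (x := s) (y := Coprod.inl _) (Fs ▸ e2)
  have c3 := Cost.eq (f := F) (x := s * (Coprod.inl g1 * s * (Coprod.inl g1)⁻¹))
    (y := Coprod.inl g2 * s * (Coprod.inl g2)⁻¹) (by simpa [Fs, Fi] using e3)
  have c6 : Cost F n6 fun J _ q => m = 1 → ∀ y ∈ (Bl K {p₀, l₀}ᶜ).map (q.comp Coprod.inl),
      Commute (q (s * Coprod.inl (χ (slx 1)) * s⁻¹)) y := by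
    rcases h6 with h6 | h6
    · exact Cost.zero fun _ _ _ e => absurd e h6
    obtain ⟨y1, y2, hy⟩ := Bl_two_gen K ({p₀, l₀}ᶜ : Set (Fin (m + 3)))
    refine ((Cost.comm1 _ (gen_map Coprod.inl hy) ?_).imp fun J _ q hq _ => by
      rwa [Subgroup.map_map] at hq).le h6
    rintro _ ⟨y, hy, rfl⟩
    simp only [map_mul, map_inv, Fs, Fi]
    refine Subgroup.mem_centralizer_singleton_iff.1 (Bl_le (H := (Subgroup.centralizer {_}).comap f)
      (fun i hi j hj e t => Subgroup.mem_centralizer_singleton_iff.2 ?_) hy) |>.symm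
    simp only [Set.mem_compl_iff, Set.mem_insert_iff, Set.mem_singleton_iff, not_or] at hi hj
    exact (cmL90 (in_ps e).rev (in_ps hi.1) (in_ps hi.2) (in_ps hj.1).rev' (in_ps hj.2).rev'
      b0).commute ((hf.mem_L e _).2 ⟨t, rfl⟩) e4
  have c7 : Cost F n7 fun J _ q => (Nonempty (E.SNA k) ∧ ∃ θ, θ + E.σ θ = 1) ∨ E.Cl ∧
      Commute (q (Coprod.inl (tv p₀ l₀ 1))) (q (s * Coprod.inl (χ (slx 1)) * s⁻¹)) := by
    obtain h | ⟨hc, -, h⟩ := hK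
    · exact Cost.zero fun _ _ _ => Or.inl h
    refine ((Cost.comm ?_).imp fun J _ q hq => Or.inr ⟨hc, hq⟩).le h
    simp only [map_mul, map_inv, Fs, Fi]
    obtain ⟨t, ht⟩ := e4
    rw [← ht, hf.tv b.symm]
    exact (hc.c90b b0 _ _).symm
  refine ((((c1.and c2).and c3).and c6).and c7).imp ?_
  rintro J _ q ⟨⟨⟨⟨r1, r2⟩, r3⟩, r6⟩, r7⟩ hq π hπ y
  have hφ : ∀ g, π ((q.comp Coprod.inl) g) = f g := fun g => hπ _
  rw [Subgroup.map_map, ← MonoidHom.range_comp] at r1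
  obtain ⟨S, h, e⟩ := exists_SF hf hφ hV (s := q s) (by rwa [hπ, Fs]) b1 b b2 r1 r2 a1 a2 a3 a4 a5 a6
    (by simpa using r3)
  have hψ : ∀ x, (q.comp ((MulAut.conj s).toMonoidHom.comp (Coprod.inl.comp χ))) x =
      S l₀ 0 * (q.comp Coprod.inl) (χ x) * (S l₀ 0)⁻¹ := fun x => by simp [e]
  have hy := (sup_le le_sup_left (Subgroup.zpowers_le.2 (e ▸ h.gen hχ hψ))) ((tp q).ge (hq y))
  obtain ⟨⟨A⟩, θ, hθ⟩ | ⟨hc, r7⟩ := r7
  exacts [h.ker_SU hf hφ hχ hψ r6 A hθ y hy, h.ker_O hf hφ hχ hψ r6 hc hV r7 y hy]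

theorem hasPr_D' [Finite K] [Finite k] {n6 n7 : ℕ} (h6 : m ≠ 1 ∨ 2 ≤ n6) (hK : HK E k n7)
    (hg : E.Gen) {d r : ℕ} (hP : HasPr (SpecialLinearGroup (Fin (m + 3)) K) d r) :
    HasPr G (d + 1) (r + (5 + n6 + n7)) := by
  obtain ⟨c, hc, h1⟩ := exists_nm E
  obtain ⟨f, hf⟩ := h1.exists_emb
  refine hasPr_D (E := rescale E c hc) (k := k) h6 (hK.imp
    (And.imp_left fun ⟨A⟩ => ⟨rescaleA A c hc⟩)
    (And.imp_right (And.imp_left fun h v e hv => h v e ⟨fun a => ?_, hv.2⟩))) hf hg hP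
  have : E.B v (c a • E.e a) = 0 := hv.1 a
  simpa [hc] using this

end H6.P6
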