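import Mathlib
import Cfsg.Agent.Lib.Pres6.ThmE
import Cfsg.Agent.Lib.Pres6.SpP
import Cfsg.Agent.Lib.Stein.OrthM

/-!
Short presentations of the orthogonal groups of plus type.
-/

set_option autoImplicit false

namespace H6.P6

open H40 H77.Pres H63.St H12 Cfsg

variable {F : Type*} [Field F] [Finite F]

theorem hasPr_Om {m d r n6 : ℕ} (h6 : m ≠ 1 ∨ 2 ≤ n6)
    (h : HasPr (Matrix.SpecialLinearGroup (Fin (m + 3)) F) d r) :
    HasPr (Omega F (quadFormPlus (m + 3) F)) (d + 1) (r + (5 + n6 + 1)) := by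
  have hQ : Nondeg (0 : QuadraticForm F (Fin 0 → F)) := fun _ _ => Subsingleton.elim _ _
  have hn := Orth.finrank_hyp (F := F) (W := Fin 0 → F) (m + 3)
  have hG := good_of_finrank_ne (hQ.hypN (m + 3)) (by omega)
  have ha : ∀ v, (0 : QuadraticForm F (Fin 0 → F)) v = 0 → v = 0 := fun _ _ => Subsingleton.elim _ _
  refine ((hasPr_D' (E := Orth.E hQ ha hG) (k := F) h6 (Or.inr ⟨Orth.cl _ _ _, fun v c hv => ?_,
    le_rfl⟩) (Orth.gen _ _ _ (by omega)) h).congr (commCongr (congrO (plusEquiv F (m + 3))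
      (hypN_plusEquiv (m + 3)))).symm).congr (commCongr (plusIso F _)).symm
  have h1 : v = 0 := by rw [(Orth.mem_V0 hQ ha hG).1 hv.1, Subsingleton.elim v.2.2 0]; rfl
  exact ⟨h1, hv.2.symm.trans (h1 ▸ map_zero _)⟩

theorem hasPr_POm {n d r : ℕ} (hn : 3 ≤ n) (h : HasPr (Omega F (quadFormPlus n F)) d r) :
    HasPr (POmega F (quadFormPlus n F)) d (r + 1) := by
  have hQ := nondeg_QPlus (F := F) n
  have h1 := finrank_plus (F := F) n
  obtain ⟨e, f, k⟩ := hQ.exists_hyp_of_three_le (by omega)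
  have hG := good_of_finrank_ne hQ (by omega)
  refine ((h.congr (commCongr (plusIso F n))).quot_cyclic _ ?_).congr
    (pcommCongr (plusIso F n)).symm
  by_cases h2 : (2 : F) ≠ 0 ∧ negO (QPlus F n) ∈ Om (QPlus F n)
  · exact isCyclic_of_prime_card (k.card_center_Om_of_mem hQ hG (by omega) h2.1 h2.2)
  · rw [k.card_center_Om_of_not_mem hQ hG (by omega) (by
      by_contra h3
      exact h2 ⟨fun e => h3 (Or.inr (negO_eq_one_of_two_eq_zero e)), by tauto⟩)]
    infer_instance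

theorem hasPr_Om_plus {n : ℕ} (hn : 4 ≤ n) : HasPr (Omega F (quadFormPlus n F)) 8 31 ∧
    (n ≤ 5 → HasPr (Omega F (quadFormPlus n F)) 8 29) := by
  have h4 := (hasPr_Om (m := 1) (Or.inr le_rfl) (hasPr_SL_four F)).pad (d' := 8) (r' := 29)
    (by omega) (by omega)
  have h5 := (hasPr_Om (m := 2) (n6 := 0) (by simp) (hasPr_SL_five F)).pad (d' := 8) (r' := 29)
    (by omega) (by omega)
  rcases (by omega : n = 4 ∨ n = 5 ∨ 6 ≤ n) with rfl | rfl | h
  exacts [⟨h4.mono (by omega), fun _ => h4⟩, ⟨h5.mono (by omega), fun _ => h5⟩, by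
    obtain ⟨m, rfl⟩ : ∃ m, n = m + 3 := ⟨n - 3, by omega⟩
    exact ⟨(hasPr_Om (n6 := 0) (by omega) (hasPr_SL F _ hn)).pad (by omega) (by omega), by omega⟩]

end H6.P6
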