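import Mathlib
import Cfsg.Agent.Lib.Pres6.ThmE
import Cfsg.Agent.Lib.Stein.SUM
import Cfsg.Agent.Lib.Lang.GenCl

/-!
The group attached to a part of the hyperbolic frame.
-/

set_option autoImplicit false

open scoped commutatorElement

namespace H6.P6

open H63.St H63.St.Eich H11.U H40 H77.Pres H64.St2

variable {m m' : ℕ} {K V G : Type*} [Field K] [AddCommGroup V] [Module K V] [Group G]
  (E : Eich m K V G) (j : J m' → J m)

/-- The vectors orthogonal to the chosen part of the frame. -/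
def Uj : Submodule K V where
  carrier := {y | ∀ a, E.B y (E.e (j a)) = 0}
  add_mem' h h' a := by simp [h a, h' a]
  zero_mem' a := by simp
  smul_mem' c x h a := by simp [h a]

/-- The double complement. -/
def Wj : Submodule K V where
  carrier := {x | ∀ y ∈ Uj E j, E.B x y = 0}
  add_mem' h h' y hy := by simp [h y hy, h' y hy]
  zero_mem' a := by simp
  smul_mem' c x h y hy := by simp [h y hy]

/-- The pointwise stabiliser of the complement. -/
def Fx : Subgroup G where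
  carrier := {g | ∀ y ∈ Uj E j, E.ρ g y = y}
  one_mem' := by simp
  mul_mem' {a b} ha hb y hy := by rw [ρ_mul, hb y hy, ha y hy]
  inv_mem' h y hy := E.ρ_inv_eq (h y hy)

/-- Embeddings of index sets. -/
def JE : Prop := Function.Injective j ∧ ∀ a, j a.rev = (j a).rev

variable {E j}

lemma JE.in_iff (h : JE j) {a b : J m'} : In (j a) (j b) ↔ In a b := by
  simp [In, ← h.2, h.1.eq_iff]

lemma e_mem_Wj (a : J m') : E.e (j a) ∈ Wj E j := fun _ hy => E.B_eq_zero_comm (hy a)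

lemma T_mem_Fx {u v : V} {c : K} (h : E.Adm u v c) (hu : u ∈ Wj E j) (hv : v ∈ Wj E j) :
    E.T u v c ∈ Fx E j := fun y hy => by
  simp [ρ_T h, E.B_eq_zero_comm (hu y hy), E.B_eq_zero_comm (hv y hy)]

lemma JE.sub_mem (h : JE j) (x : V) :
    x - ∑ a, (E.B x (E.e (j a).rev) / E.κ (j a)) • E.e (j a) ∈ Uj E j := fun b => by
  simp only [map_sub, map_sum, map_smul, LinearMap.sub_apply, LinearMap.coe_sum, Finset.sum_apply,
    LinearMap.smul_apply, smul_eq_mul]
  rw [Finset.sum_eq_single b.rev]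
  · simp [h.2, B_rev_e, E.κ_ne]
  · intro a _ e
    rw [E.e_B _ _ (fun e' => e (h.1 (by simp [h.2, e']))), mul_zero]
  · simp

lemma JE.V0 (h : JE j) {v : V} (h1 : v ∈ Wj E j) (h2 : v ∈ Uj E j) : v ∈ E.V0 := fun a => by
  by_cases e : ∃ b, j b = a
  · obtain ⟨b, rfl⟩ := e; exact h2 b
  · exact h1 _ fun b => E.e_B _ _ fun e' => e ⟨b.rev, by simp [h.2, e']⟩

variable (E) in
/-- The group attached to a part of the frame. -/
def sub (h : JE j) : Eich m' K (Wj E j) (Fx E j) where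
  σ := E.σ
  ε := E.ε
  B := E.B.domRestrict₁₂ _ _
  Λ v c := E.Λ v c
  ρ := { toFun := fun g => (E.ρ g).restrict fun x hx y hy => by rw [← g.2 y hy, E.ρ_B, hx y hy]
         map_one' := by ext; simp
         map_mul' := fun _ _ => by ext; exact E.ρ_mul _ _ _ }
  e a := ⟨_, e_mem_Wj a⟩
  σσ := E.σσ
  hε := E.hε
  B_swap _ _ := E.B_swap _ _
  Λ_B := E.Λ_B
  Λ_add := E.Λ_add
  Λ_smul := E.Λ_smul
  Λ_min := E.Λ_min
  Λ_ex _ := E.Λ_ex _
  inj g g' e := Subtype.ext <| E.ext fun x => by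
    have k : ∀ a, E.ρ g (E.e (j a)) = E.ρ g' (E.e (j a)) := fun a =>
      congrArg (fun f => (f ⟨_, e_mem_Wj a⟩ : V)) e
    simpa [k] using (g.2 _ (h.sub_mem x)).trans (g'.2 _ (h.sub_mem x)).symm
  ρ_B g _ _ := E.ρ_B g _ _
  ρ_Λ g := E.ρ_Λ g
  exT {u v _} h1 h2 h3 := ⟨⟨_, T_mem_Fx ⟨h1, h2, h3⟩ u.2 v.2⟩, fun _ => Subtype.ext (ρ_T ⟨h1, h2, h3⟩ _)⟩
  e_Λ _ := E.e_Λ _
  e_B _ _ e := E.e_B _ _ (h.2 _ ▸ h.1.ne e)
  e_ne a := show E.B _ (E.e (j a.rev)) ≠ 0 from h.2 a ▸ E.e_ne _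
  aniso v h1 h2 := Subtype.ext (E.aniso _ (h.V0 v.2 h1) h2)

variable (h : JE j)

lemma sub_T {u v : Wj E j} {c : K} (h1 : (sub E h).Adm u v c) :
    (((sub E h).T u v c : Fx E j) : G) = E.T u v c :=
  congrArg Subtype.val ((sub E h).ext (g' := ⟨_, T_mem_Fx h1 u.2 v.2⟩) fun x =>
    (ρ_T h1 x).trans (Subtype.ext (ρ_T (E := E) h1 _).symm))

lemma sub_xl (a b : J m') (t : K) : (((sub E h).xl a b t : Fx E j) : G) = E.xl (j a) (j b) t := by
  by_cases e : In a b
  · rw [xl_eq _ e, sub_T h (adm_xl _ e t), E.xl_eq (h.in_iff.2 e)]; rfl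
  · simp [xl, e, h.in_iff]

/-- The subgroup is generated by transvections. -/
lemma sub_gen (hg : ∀ A : Subgroup G, (∀ u ∈ Wj E j, ∀ c, E.Adm u 0 c → E.T u 0 c ∈ A) →
    Fx E j ≤ A) : (sub E h).Gen := fun A hA => eq_top_iff.2 fun g _ => by
  obtain ⟨x, hx, e⟩ := hg (A.map (Fx E j).subtype) (fun u hu c h1 =>
    ⟨_, hA ⟨u, hu⟩ 0 c h1, sub_T h h1⟩) g.2
  exact Subtype.ext e ▸ hx

section unitary

variable [Fintype K] {q : ℕ} [IsSq K q] (A : E.SNC q)

lemma v0_mem_Uj : A.v0 ∈ Uj E j := fun _ => A.mem _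

/-- The short nodes of the subgroup. -/
noncomputable def subA : (sub E h).SNA (fixedField K q) where
  ι := (fixedField K q).subtype
  θ := (exists_trace_zero K q).choose
  σι s := (A.σ_eq _).trans s.2
  θ_ne := (exists_trace_zero K q).choose_spec.1
  V0_eq v hv := by
    obtain ⟨t, e⟩ := A.V0_eq _ (h.V0 v.2 hv)
    have := v.2 _ (v0_mem_Uj A)
    rw [← e, map_smul, LinearMap.smul_apply, A.B_eq, smul_eq_mul, mul_one] at this
    exact Subtype.ext (by simp [← e, this])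
  Λ_iff c := by
    obtain ⟨h1, h2⟩ := (exists_trace_zero K q).choose_spec
    refine A.Λ0.trans (A.σ_eq c ▸ ⟨fun h => ⟨⟨c / (exists_trace_zero K q).choose, ?_⟩,
      div_mul_cancel₀ _ h1⟩, ?_⟩)
    · rw [mem_fixedField, map_div₀, h2, h, neg_div_neg_eq]
    · rintro ⟨⟨s, hs⟩, rfl⟩
      simp [h2, mem_fixedField.1 hs]

include A

lemma sub_hk : HK (sub E h) (fixedField K q) 0 :=
  Or.inl ⟨⟨subA h A⟩, (exists_trace_eq (map_one (cj q))).imp fun θ e =>
    (congrArg _ (A.σ_eq θ)).trans e⟩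

lemma sub_le (hg : (sub E h).Gen) {B : Subgroup (Fx E j)}
    (hL : ∀ a b t, ∀ g : Fx E j, g = E.xl a b t → g ∈ B)
    (hZ : ∀ a, ∀ g : Fx E j, ↑g ∈ E.Z a → g ∈ B) : B = ⊤ := by
  refine hg _ fun u v c => T_mem (fun a b => ?_) fun a => ?_
  · rintro _ ⟨t, rfl⟩; exact hL _ _ _ _ (sub_xl h a b t)
  · rintro _ ⟨v, c, hv, rfl⟩
    obtain rfl := (subA h A).V0_eq v hv.1
    exact hZ (j a) _ ⟨c, hv.2, (sub_T h (hv.adm a)).symm⟩

lemma sub_two_gen (hg : (sub E h).Gen) : ∃ a b, Subgroup.closure {a, b} = Fx E j := by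
  obtain ⟨a, b, e⟩ : ∃ a b : Fx E j, Subgroup.closure {a, b} = ⊤ := by
    rcases m' with _ | m'
    · obtain ⟨f, hf⟩ := exists_em2 (subA h A) 0
      refine H37.GenCl.two_gen_map f (MonoidHom.range_eq_top.1 (hg _ fun u v c =>
        T_mem (fun a b => ?_) fun a => ?_)) (sl_two_gen _ 2)
      · rintro _ ⟨t, rfl⟩
        rw [xl, if_neg (by rw [In.iff]; omega)]; exact one_mem _
      · rw [hf.nd.range]
        fin_cases a
        exacts [le_sup_left, le_sup_right]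
    · obtain ⟨r, hr⟩ := exists_cj_ne K q
      exact H37.GenCl.gen_even hg (by omega) ⟨r, A.σ_eq r ▸ hr⟩ (H37.GenCl.snc_min (E := E) A)
        A.ε_eq (subA h A).V0_eq
  refine ⟨a, b, ?_⟩
  simpa [MonoidHom.map_closure, Set.image_pair, ← MonoidHom.range_eq_map] using
    congrArg (·.map (Fx E j).subtype) e

end unitary

open Matrix Cfsg Sum in
theorem SU_gen {F : Type*} [Field F] [Fintype F] {q n : ℕ} [IsSq F q] {μ : Type} [Subsingleton μ]
    (ι : (Fin (m + 1) ⊕ Fin (m + 1)) ⊕ μ ≃ Fin n) (h : JE j) : (sub (SU.E F q ι) h).Gen := by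
  classical
  let R : Finset (Fin (m + 1)) := Finset.univ.image fun a => (J.idx (j a)).elim id id
  let S : Finset (Fin n) := (R.disjSum R).map ⟨fun i => ι (inl i), ι.injective.comp inl_injective⟩
  have hS : ∀ a, ι (inl (inl ((J.idx (j a)).elim id id))) ∈ S ∧
      ι (inl (inr ((J.idx (j a)).elim id id))) ∈ S := fun a => by simp [S, R]
  refine sub_gen h fun A hA g hg => (Subgroup.closure_le A).2 ?_
    (suFixer_le_TW S (Or.inl (by simp [S]; omega)) fun i hi => hg _ fun a => ?_)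
  swap
  · refine (SU.form_fr ι _ _).trans ?_
    rw [Pi.single_eq_of_ne (by rintro rfl; exact hi (hS a).1),
      Pi.single_eq_of_ne (by rintro rfl; exact hi (hS a).2), zero_mul, add_zero]
  rintro _ ⟨w, hw, c, rfl⟩
  by_cases e : hermForm n F q w w = 0 ∧ cj q c = -c
  swap
  · rw [tv_of_not e]; exact one_mem _
  rw [SU.tv_eq F q ι e.1 e.2]
  refine hA _ (fun y hy => ?_) _ (SU.adm_tv F q ι e.1 e.2)
  rw [SU.B_apply, form_def]
  refine Finset.sum_eq_zero fun i _ => ?_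
  by_cases hi : i ∈ S
  swap
  · simp [hw i hi]
  have k : ∀ a, y (ι (inl (inl ((J.idx (j a)).elim id id)))) = 0 ∧
      y (ι (inl (inr ((J.idx (j a)).elim id id)))) = 0 := fun a => by
    have h1 := (SU.form_fr ι _ _).symm.trans (hy a)
    have h2 := (SU.form_fr ι _ _).symm.trans (hy a.rev)
    rw [h.2, J.idx_rev] at h2
    generalize J.idx (j a) = x at *
    have h3 : (x.swap.elim id id : Fin (m + 1)) = x.elim id id := by cases x <;> rfl
    have h4 := SU.par_ne F q (a := x.swap.isLeft) (b := x.isLeft) (by cases x <;> simp)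
    rw [h3] at h2
    have : y (ι (inl (inr (x.elim id id)))) = 0 :=
      mul_right_cancel₀ (sub_ne_zero.2 h4) (by linear_combination h2 - h1)
    exact ⟨by simpa [this] using h1, this⟩
  simp only [S, R, Finset.mem_map, Finset.mem_disjSum, Finset.mem_image] at hi
  obtain ⟨_, ⟨_, ⟨a, -, rfl⟩, rfl⟩ | ⟨_, ⟨a, -, rfl⟩, rfl⟩, rfl⟩ := hi <;> simp [k a]

end H6.P6
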