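import Mathlib
import Cfsg.Agent.Lib.Pres6.Sub

/-!
The stabiliser of an isotropic vector in the even unitary group.
-/

set_option autoImplicit false

open scoped commutatorElement

namespace H6.P6

open H63.St H63.St.Eich H11.U H40 H77.Pres H64.St2 Matrix

section sp

variable {K : Type*} [Field K]

/-- The multiples of `L` by `S` generate all non-zero elements under `α + β - γ`. -/
def Sp (S : K → Prop) (L : List K) : Prop := (∀ l ∈ L, l ≠ 0) ∧ ∀ P : K → Prop,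
  (∀ μ, μ ≠ 0 → S μ → ∀ l ∈ L, P (μ * l)) →
  (∀ α β γ, P α → P β → P γ → α + β - γ ≠ 0 → P (α + β - γ)) → ∀ δ, δ ≠ 0 → P δ

/-- The determinant of two vectors. -/
def dt (u w : K × K) : K := u.1 * w.2 - u.2 * w.1

lemma add_of_dt {Q : Type*} [Group Q] {y : K × K → Q} (h0 : y 0 = 1) {S : K → Prop} {L : List K}
    (sp : Sp S L) (h : ∀ μ, μ ≠ 0 → S μ → ∀ l ∈ L, ∀ u w, dt u w = μ * l → y u * y w = y (u + w))
    (u w : K × K) : y u * y w = y (u + w) := by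
  have k := sp.2 (fun δ => ∀ u w, dt u w = δ → y u * y w = y (u + w)) h
    fun α β γ h1 h2 h3 h4 u z e => by
      obtain ⟨a, ha⟩ : ∃ a, a * (α + β - γ) = γ := ⟨_, div_mul_cancel₀ _ h4⟩
      obtain ⟨b, hb⟩ : ∃ b, b * (α + β - γ) = α := ⟨_, div_mul_cancel₀ _ h4⟩
      obtain ⟨w, hw⟩ : ∃ w, w = a • u + b • z := ⟨_, rfl⟩
      simp only [dt] at h1 h2 h3 e
      rw [← add_sub_cancel w z, ← h3 w (z - w) (by simp [hw]; linear_combination a * e + ha),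
        ← mul_assoc, h1 u w (by simp [hw]; linear_combination b * e + hb), h2 _ _ (by
          simp [hw]; linear_combination (1 + a - b) * e + ha - hb), add_assoc]
  have k1 : ∀ u w, dt u w ≠ 0 → y u * y w = y (u + w) := fun u w e => k _ e u w rfl
  by_cases e : dt u w = 0
  swap
  · exact k1 u w e
  by_cases hu : u = 0
  · simp [hu, h0]
  by_cases hw : w = 0
  · simp [hw, h0]
  obtain ⟨f, hf⟩ : ∃ f, dt u f ≠ 0 := by
    by_contra! hn
    exact hu (Prod.ext (by simpa [dt] using hn (0, 1)) (by simpa [dt] using hn (1, 0)))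
  have k2 : ∀ w, dt u w = 0 → w ≠ 0 → dt w f ≠ 0 := fun w e hw e' => hw <| by
    simp only [dt] at e e' hf
    exact Prod.ext (eq_zero_of_ne_zero_of_mul_left_eq_zero hf (by
      linear_combination u.1 * e' + f.1 * e)) (eq_zero_of_ne_zero_of_mul_left_eq_zero hf (by
        linear_combination u.2 * e' + f.2 * e))
  by_cases e1 : u + w = 0
  · obtain rfl := eq_neg_of_add_eq_zero_right e1
    rw [e1, h0, ← mul_left_inj (y f), mul_assoc, k1 _ _ (k2 _ e hw), k1, add_neg_cancel_left, one_mul]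
    convert hf using 1
    simp [dt]; ring
  · rw [← sub_add_cancel w f, ← k1 (w - f) f, ← mul_assoc, k1 u, k1, add_assoc]
    · convert k2 (u + w) (by rw [← e]; simp [dt]; ring) e1 using 1
      simp [dt]; ring
    · convert neg_ne_zero.2 hf using 1
      simp only [dt] at e ⊢; simp; linear_combination e
    · convert k2 w e hw using 1
      simp [dt]; ring

lemma add_mod {Γ : Type*} [Group Γ] {Y : K × K → Γ} {C : Subgroup Γ}
    (hc : ∀ u, Y u ∈ Subgroup.normalizer (C : Set Γ)) (h0 : Y 0 = 1) {S : K → Prop} {L : List K}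
    (sp : Sp S L) (h : ∀ μ, μ ≠ 0 → S μ → ∀ l ∈ L, ∀ u w, dt u w = μ * l →
      (Y (u + w))⁻¹ * (Y u * Y w) ∈ C) (u w : K × K) : (Y (u + w))⁻¹ * (Y u * Y w) ∈ C := by
  let y : K × K → Subgroup.normalizer (C : Set Γ) := fun u => ⟨Y u, hc u⟩
  have k : ∀ u w, (QuotientGroup.mk' (C.subgroupOf _) (y u) * QuotientGroup.mk' _ (y w) =
      QuotientGroup.mk' _ (y (u + w))) ↔ (Y (u + w))⁻¹ * (Y u * Y w) ∈ C := fun u w =>
    eq_comm.trans QuotientGroup.eq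
  exact (k u w).1 (add_of_dt (y := fun u => QuotientGroup.mk' (C.subgroupOf _) (y u))
    (by rw [show y 0 = 1 from Subtype.ext h0, map_one]) sp
    (fun μ h1 h2 l h3 u w e => (k u w).2 (h μ h1 h2 l h3 u w e)) u w)

variable [Fintype K] (q : ℕ) [IsSq K q]

lemma exists_Sp (m : ℕ) : ∃ L : List K, Sp (fun μ => 1 ≤ m ∨ cj q μ = μ) L ∧
    L.length ≤ if 1 ≤ m then 1 else if q = 2 then 3 else 2 := by
  obtain ⟨ζ, hζ⟩ := exists_cj_ne K q
  have h0 : ζ ≠ 0 := by rintro rfl; simp at hζ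
  have k := exists_fixed_comb (q := q) (a := 1) (b := ζ) (by simpa)
  split_ifs with h1 h2
  · exact ⟨[1], ⟨by simp, fun P h _ δ hδ => by simpa using h δ hδ (Or.inl h1)⟩, le_rfl⟩
  · refine ⟨[1, ζ, 1 + ζ], ⟨?_, fun P h _ δ hδ => ?_⟩, le_rfl⟩
    · simpa [h0] using fun e => hζ (by simp [eq_neg_of_add_eq_zero_right e])
    have k0 : ∀ s : K, cj q s = s → s = 0 ∨ s = 1 := fun s hs => by
      rw [cj_apply, h2] at hs
      exact (mul_eq_zero.1 (by linear_combination hs : s * (s - 1) = 0)).imp_right sub_eq_zero.1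
    have := h 1 one_ne_zero (by simp)
    obtain ⟨s, t, hs, ht, rfl⟩ := k δ
    rcases k0 s hs with rfl | rfl <;> rcases k0 t ht with rfl | rfl <;> simp_all
  · refine ⟨[1, ζ], ⟨by simp [h0], fun P h h' δ hδ => ?_⟩, le_rfl⟩
    obtain ⟨s, t, hs, ht, rfl⟩ := k δ
    by_cases e : t = 0
    · simpa [e] using h s (by rintro rfl; simp [e] at hδ) (Or.inr hs) 1 (by simp)
    obtain ⟨c, c1, c2, c3⟩ := exists_fixed_ne (F := K) h2 (-s)
    have := h' _ _ _ (h (s + c) (fun e => c3 (eq_neg_of_add_eq_zero_right e)) (by simp [hs, c1]) 1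
      (by simp)) (h t e (Or.inr ht) ζ (by simp)) (h c c2 (Or.inr c1) 1 (by simp))
    rw [show (s + c) * 1 + t * ζ - c * 1 = s * 1 + t * ζ by ring] at this
    exact this hδ

end sp

variable {m : ℕ} {K V G : Type*} [Field K] [AddCommGroup V] [Module K V] [Group G]

section
variable {E : Eich m K V G} {a b c : J m} {x : V}

lemma L_le_Fix (h1 : E.B x (E.e a) = 0) (h2 : E.B x (E.e b) = 0) : E.L a b ≤ E.Fix x := by
  rintro _ ⟨t, rfl⟩
  by_cases h : In a b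
  · exact (E.ρ_xl h t x).trans (by simp [h1, h2])
  · simp [xl, h]

lemma Z_le_Fix (h1 : E.B x (E.e a) = 0) : E.Z a ≤ E.Fix x := by
  rintro _ ⟨c, hc, rfl⟩
  exact (ρ_T ((P.zero hc).adm a) x).trans (by simp [h1])

variable (E a) in
/-- The elements supported on the complement of a hyperbolic pair. -/
def Ha : Subgroup G := ⨅ x, ⨅ (_ : ∀ d, In a d → E.B x (E.e d) = 0), E.Fix x

lemma Ha_le (h : ∀ d, In a d → E.B x (E.e d) = 0) : Ha E a ≤ E.Fix x := iInf₂_le x h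

lemma L_le_Ha (h1 : In a b) (h2 : In a c) : E.L b c ≤ Ha E a :=
  le_iInf₂ fun _ h => L_le_Fix (h b h1) (h c h2)

lemma Z_le_Ha (h1 : In a b) : E.Z b ≤ Ha E a := le_iInf₂ fun _ h => Z_le_Fix (h b h1)

lemma Ha_e : Ha E a ≤ E.Fix (E.e a) := Ha_le fun _ h => (E.B_in h).1

lemma Ha_le_D : Ha E a ≤ Fx E id := fun _ hg _ hy => Ha_le (fun d _ => hy d) hg

lemma L_le_D : E.L a b ≤ Fx E id := fun _ hg _ hy => L_le_Fix (hy a) (hy b) hg

lemma Z_le_D : E.Z a ≤ Fx E id := fun _ hg _ hy => Z_le_Fix (hy a) hg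

lemma mS_mem {θ : K} (h : E.Λ 0 θ) : E.mS b 0 θ ∈ E.Z b ⊔ E.Z b.rev := by
  have k : ∀ t : K, E.T (E.e b.rev) (t • 0) (t * E.σ t * θ) ∈ E.Z b ⊔ E.Z b.rev := fun t =>
    Subgroup.mem_sup_right ⟨_, by simpa using E.Λ_smul t h, by simp⟩
  exact mul_mem (mul_mem (k _) (Subgroup.mem_sup_left ⟨_, h, rfl⟩)) (k _)

lemma T_mem_e {B : Subgroup G} (hL : ∀ b, In a b → E.L a b ≤ B) (hZ : E.Z a ≤ B) {v : V} {c : K}
    (h : E.Adm (E.e a) v c) (hv : E.p0 v = 0) : E.T (E.e a) v c ∈ B := by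
  let Q : AddSubmonoid V :=
    { carrier := {v | ∃ c, E.Adm (E.e a) v c ∧ E.T (E.e a) v c ∈ B}
      zero_mem' := ⟨0, (P.zero E.Λ_zero).adm a, hZ ⟨_, E.Λ_zero, rfl⟩⟩
      add_mem' := by
        rintro v w ⟨c, h1, h2⟩ ⟨d, h3, h4⟩
        exact ⟨_, h1.add h3, T_mul h1 h3 ▸ B.mul_mem h2 h4⟩ }
  have : ∑ b, (E.B v (E.e b.rev) / E.κ b) • E.e b ∈ Q := Q.sum_mem fun b _ => by
    rcases VC.in_cases a b with rfl | rfl | e
    · generalize E.B v (E.e b.rev) / E.κ b = t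
      have h1 : E.Adm (E.e b) (t • E.e b) 0 := ⟨E.e_Λ b, Λ_smul0 (E.e_Λ b) t, by simp [B_e_e]⟩
      refine ⟨0, h1, hZ ⟨_, E.Λ_min (E.ε * t), E.ext fun x => ?_⟩⟩
      rw [ρ_T h1, ρ_T ((P.zero (E.Λ_min (E.ε * t))).adm b)]
      simp only [map_smulₛₗ, map_mul, σ_ε, ← mul_assoc, ε_mul_ε, map_zero, smul_eq_mul]
      module
    · simp [E.B_eq_zero_comm h.2.2]
    · exact ⟨0, E.adm_xl e _, E.xl_eq e _ ▸ hL _ e (E.xl_mem _ _ _)⟩
  rw [p0_apply, sub_eq_zero] at hv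
  rw [← hv] at this
  obtain ⟨d, h1, h2⟩ := this
  have h0 := Λ_sub h.2.1 h1.2.1
  simpa [T_mul h1 ((P.zero h0).adm a)] using B.mul_mem h2 (hZ ⟨_, h0, rfl⟩)

lemma sl2_act (h : In a b) (x : SpecialLinearGroup (Fin 2) K) : ∃ g ∈ Fx E id,
    E.ρ g (E.e a) = x.1 0 0 • E.e a + x.1 1 0 • E.e b ∧
      E.ρ g (E.e b) = x.1 0 1 • E.e a + x.1 1 1 • E.e b := by
  have k : ∀ {a b}, In a b → ∀ t, ∃ g ∈ Fx E id, E.ρ g (E.e a) = E.e a ∧
      E.ρ g (E.e b) = E.e b + t • E.e a := fun {a b} h t =>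
    ⟨_, L_le_D (E.xl_mem a b.rev (E.σ (t / E.κ b))), by simp [E.ρ_xl h.rev, E.B_in h, B_e_e],
      by simp [E.ρ_xl h.rev, E.B_in h, B_e_rev, E.κ_ne]⟩
  induction x using sl2_ind with
  | h1 => exact ⟨1, one_mem _, by simp⟩
  | hx t x ih =>
    obtain ⟨g, h1, h2, h3⟩ := ih
    obtain ⟨g', h4, h5, h6⟩ := k h t
    refine ⟨_, mul_mem h4 h1, ?_, ?_⟩ <;>
      simp [h2, h3, h5, h6, coe_slx, mul_apply, Fin.sum_univ_two] <;> module
  | hy t x ih =>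
    obtain ⟨g, h1, h2, h3⟩ := ih
    obtain ⟨g', h4, h5, h6⟩ := k h.symm t
    refine ⟨_, mul_mem h4 h1, ?_, ?_⟩ <;>
      simp [h2, h3, h5, h6, coe_sly, mul_apply, Fin.sum_univ_two] <;> module

lemma exists_dt (h : In a b) {u w : K × K} (e : dt u w ≠ 0) : ∃ g ∈ Fx E id,
    E.ρ g (E.e a) = u.1 • E.e a + u.2 • E.e b ∧
      E.ρ g (dt u w • E.e b) = w.1 • E.e a + w.2 • E.e b := by
  obtain ⟨g, h1, h2, h3⟩ := sl2_act (E := E) h ⟨!![u.1, w.1 / dt u w; u.2, w.2 / dt u w], by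
    rw [det_fin_two_of]; field_simp; rw [dt, mul_comm w.1]⟩
  exact ⟨g, h1, h2, by simp [h3, smul_smul, mul_div_cancel₀ _ e]⟩

variable [Fintype K] {q : ℕ} [IsSq K q] (A : E.SNC q)
include A

lemma mem_D {g : G} : g ∈ Fx E id ↔ E.ρ g A.v0 = A.v0 :=
  ⟨fun h => h _ A.mem, fun h y hy => by obtain ⟨t, rfl⟩ := A.V0_eq y hy; simp [h]⟩

lemma Z_comm (h : In a b) {z : G} (hz : z ∈ E.Z a) : ∃ u, z = ⁅E.xl a b 1, E.xl a b.rev u⁆ := by
  obtain ⟨c, hc, rfl⟩ := hz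
  obtain ⟨s, rfl⟩ := H37.GenCl.snc_min A c hc
  refine ⟨s / E.κ b.rev, ?_⟩
  have := E.κ_ne b
  have := E.κ_ne b.rev
  simp only [E.c90b h, map_div₀, σ_κ_rev, A.ε_eq, map_one]
  congr 1; field_simp

lemma Z_le_LL (h : In a b) : E.Z a ≤ E.L a b ⊔ E.L a b.rev := fun z hz => by
  obtain ⟨u, rfl⟩ := Z_comm A h hz
  exact Subgroup.commutator_le_sup _ _
    (Subgroup.commutator_mem_commutator (E.xl_mem _ _ _) (E.xl_mem _ _ _))

lemma mv1 (h1 : In a b) (h2 : In a c) : ∃ g ∈ Ha E a, ∃ f τ, E.Mono g f τ ∧ τ a = a ∧ τ b = c := by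
  rcases VC.in_cases b c with rfl | rfl | e
  · exact ⟨1, one_mem _, _, 1, E.mono_one, rfl, rfl⟩
  · obtain ⟨θ, h3, h4⟩ := exists_trace_zero K q
    have h5 := A.Λ0.2 (A.σ_eq θ ▸ h4)
    exact ⟨_, sup_le (Z_le_Ha h1) (Z_le_Ha h2) (mS_mem h5), _, _, (P.zero h5).mono_mS h3 b,
      VC.τ_in h1.symm h1.symm, by simp⟩
  · exact ⟨_, sup_le (L_le_Ha h1 h2.rev) (L_le_Ha h1.rev h2.rev.rev) (E.wL_mem b c.rev 1), _, _,
      E.mono_wL e.rev one_ne_zero, VC.τ_in h1.symm h2.rev.symm, by simp⟩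

lemma stab_mem {B : Subgroup G} (hH : Ha E a ≤ B) (hL : ∀ b, In a b → E.L a b ≤ B)
    (hZ : E.Z a ≤ B) {g : G} (hg : g ∈ Fx E id) (e : E.ρ g (E.e a) = E.e a) : g ∈ B := by
  have k := E.κ_ne a.rev
  have k' := E.σ_ne k
  obtain ⟨f, hf⟩ : ∃ f, f = E.ρ g (E.e a.rev) := ⟨_, rfl⟩
  have f1 : E.B f (E.e a) = E.κ a.rev := by rw [hf, ← e, E.ρ_B, B_rev_e]
  have f2 : E.B (E.e a) f = E.κ a := by rw [hf, ← e, E.ρ_B, B_e_rev]
  have f3 : E.B f f = 0 := by rw [hf, E.ρ_B, B_e_e]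
  have f4 : E.B f A.v0 = 0 := by rw [hf, ← (mem_D A).1 hg, E.ρ_B, (B_V0 A.mem).2]
  have h1 : E.Adm (E.e a) ((E.κ a.rev)⁻¹ • (E.e a.rev - f))
      (-(E.B (E.e a.rev) f / (E.κ a.rev * E.σ (E.κ a.rev)))) :=
    ⟨E.e_Λ a, (A.Λ_iff _ _).2 (by
      simp only [map_smulₛₗ, map_sub, LinearMap.smul_apply, LinearMap.sub_apply, B_e_e, f3, map_neg,
        map_div₀, map_mul, σ_σ, σ_B, A.ε_eq, RingHom.id_apply, smul_eq_mul, map_inv₀]
      field_simp; ring), by simp [f2, B_e_rev]⟩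
  have h2 := T_mem_e hL hZ h1 (by
    obtain ⟨t, ht⟩ := A.V0_eq _ (E.p0_apply f ▸ E.sub_mem_V0 f)
    have := E.B_p0 f A.mem
    rw [← ht, f4, map_smul, LinearMap.smul_apply, A.B_eq, smul_eq_mul, mul_one] at this
    simp [p0_e, ← ht, this])
  rw [← mul_inv_cancel_left (E.T _ _ _) g]
  refine mul_mem h2 (hH (Subgroup.mem_iInf.2 fun x => Subgroup.mem_iInf.2 fun hx => ?_))
  refine (E.ρ_mul _ _ x).trans (E.ρ_inv_eq (Eq.symm ?_))
  rw [← sub_add_cancel x (∑ a, (E.B x (E.e a.rev) / E.κ a) • E.e a), map_add, map_add, map_sum,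
    map_sum]
  congr 1
  · obtain ⟨t, ht⟩ := A.V0_eq _ (E.sub_mem_V0 x)
    simp [← ht, (mem_D A).1 hg, ρ_T h1, B_V0 A.mem, E.B_eq_zero_comm f4]
  refine Finset.sum_congr rfl fun d _ => ?_
  rcases VC.in_cases a d with rfl | rfl | e'
  · simp [e, ρ_T h1, B_e_e, f2, B_e_rev]
  · rw [map_smul, map_smul, ← hf, ρ_T h1]
    simp only [map_smulₛₗ, map_sub, B_e_e, B_rev_e, A.ε_eq, smul_eq_mul, map_inv₀]
    congr 1
    match_scalars <;> field_simp <;> ring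
  · simp [hx _ e'.rev]

end

variable {E : Eich (m + 1) K V G} {a b : J (m + 1)} [Fintype K] {q : ℕ} [IsSq K q] (A : E.SNC q)
include A

lemma tor (h : In a b) {μ : K} (h0 : μ ≠ 0) (hμ : 1 ≤ m ∨ cj q μ = μ) :
    ∃ g ∈ Ha E a, ∃ f, E.Mono g f 1 ∧ f b = μ := by
  rcases hμ with hμ | hμ
  · obtain ⟨c, hc⟩ := J.exists_in [a, b] (by simpa)
    simp only [List.forall_mem_cons] at hc
    obtain ⟨g, f, h1, h2, -, -, -, h3⟩ := E.exists_hL hc.2.1 h0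
    exact ⟨g, sup_le (L_le_Ha h hc.1) (L_le_Ha h.rev hc.1.rev) h3, f, h1, h2⟩
  · obtain ⟨θ, h3, h4⟩ := exists_trace_zero K q
    have h5 := A.Λ0.2 (A.σ_eq θ ▸ h4)
    have h6 := A.Λ0.2 (show E.σ (μ * θ) = -(μ * θ) by simp [A.σ_eq, hμ, h4])
    have := ((P.zero h6).mono_mS (mul_ne_zero h0 h3) b).mul ((P.zero h5).mono_mS h3 b).inv
    rw [mul_inv_cancel] at this
    refine ⟨_, sup_le (Z_le_Ha h) (Z_le_Ha h.rev) (mul_mem (mS_mem h6) (inv_mem (mS_mem h5))), _,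
      this, ?_⟩
    have := E.κ_ne b.rev
    simp [fS, J.rev_ne]; field_simp

theorem stab_le (h : In a b) {L : List K} (sp : Sp (fun μ => 1 ≤ m ∨ cj q μ = μ) L)
    {B : Subgroup G} (hH : Ha E a ≤ B) (hL : ∀ l ∈ L, E.xl a b l ∈ B) {g : G} (hg : g ∈ Fx E id)
    (e : E.ρ g (E.e a) = E.e a) : g ∈ B := by
  have k1 : E.L a b ≤ B := by
    rintro _ ⟨t, rfl⟩
    by_cases ht : t = 0
    · simp [ht]
    refine sp.2 (fun t => E.xl a b t ∈ B) (fun μ h0 hμ l hl => ?_) (fun α β γ h1 h2 h3 _ => ?_) t ht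
    · obtain ⟨g, h1, f, h2, rfl⟩ := tor A h h0 hμ
      simpa [h2.conj_xl h, h2.eq_one (Ha_e h1)] using
        mul_mem (mul_mem (hH h1) (hL l hl)) (inv_mem (hH h1))
    · rw [sub_eq_add_neg, ← xl_add, ← xl_add, xl_neg]
      exact mul_mem (mul_mem h1 h2) (inv_mem h3)
  have k2 : ∀ c, In a c → E.L a c ≤ B := fun c hc => by
    obtain ⟨g, h1, f, τ, h2, h3, h4⟩ := mv1 A hc h
    exact Cj.le (g := g) (B := E.L a b) (by simpa [h3, h4] using Mono_cjL h2 hc) (hH h1) k1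
  exact stab_mem A hH k2 ((Z_le_LL A h).trans (sup_le k1 (k2 _ h.rev))) hg e

end H6.P6
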