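import Mathlib
import Cfsg.Agent.Lib.Pres6.Stab

/-!
The odd unitary group over the even unitary group with one more generator.
-/

set_option autoImplicit false

open scoped commutatorElement

namespace H6.P6

open H63.St H63.St.Eich H11.U H40 H77.Pres H64.St2 Matrix Monoid

universe u

variable {m : ℕ} {K V : Type*} {G : Type u} {Γ : Type*} [Field K] [AddCommGroup V] [Module K V]
  [Group G] [Group Γ] {E : Eich (m + 1) K V G} [Fintype K] {q : ℕ} [IsSq K q] {A : E.SNC q}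
  {π : Γ →* G} {φ : Fx E id →* Γ} {y : Γ} {c₀ : K} {a b : J (m + 1)} {u w : V}

set_option hygiene false in
local notation "e₀" => E.e (ps 0)

lemma nr_last {E : Eich (m + 1) K V G} (H : E.Hyp true) (h : ∀ a b, In a b →
    E.S a ≤ E.L a b ⊔ E.L a b.rev ⊔ E.S b) : NR H.rgd.toPre ((VC true _ H.le).α (Fin.last _)) := by
  obtain ⟨τ, ⟨h1, w, hw, h2⟩, -, h3 | h3⟩ := mov (hs := H.le) (ps (Fin.last (m + 1)), ps 0) []
    (by simp) (by simp)
  swap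
  · simp at h3
  have h4 : In (ps (0 : Fin (m + 2))) (ps 1) := in_ps zero_ne_one
  have h5 : NR H.rgd.toPre ⟨_, ok_diag (ps 0)⟩ := by
    refine ⟨1, one_mem _, (VC.pos_iff _).2 (by simp [ps_val]), ?_⟩
    change E.Xz s(_, _) ≤ _
    rw [Xz_S]
    refine (h _ _ h4).trans (sup_le (sup_le ?_ ?_) ?_)
    · exact E.Xz_L h4 ▸ le_XS (X := E.X true) (r := ⟨_, h4.ok⟩)
        ⟨(VC.pos_iff _).2 (by simp [ps_val]; omega), by simp [Fin.ext_iff, ps_val]⟩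
    · exact E.Xz_L h4.rev ▸ le_XS (X := E.X true) (r := ⟨_, h4.rev.ok⟩)
        ⟨(VC.pos_iff _).2 (by simp [ps_val]), by simp⟩
    · exact E.Xz_S _ ▸ le_XS (X := E.X true) (r := ⟨_, ok_diag (ps 1)⟩)
        ⟨(VC.pos_iff _).2 (by simp [ps_val]), by simp [Fin.ext_iff, ps_val]⟩
  convert h5.act (inv_mem hw) using 1
  rw [Equiv.Perm.eq_inv_iff_eq, Subtype.ext_iff, h2]
  change Sym2.map _ s(_, _) = _
  rw [α1_last, α2_last, Sym2.map_mk, h3]

lemma S_le (A : E.SNC q) (h : In a b) : E.S a ≤ E.L a b ⊔ E.L a b.rev ⊔ E.S b := fun x hx => by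
  obtain ⟨c, hc⟩ := E.Λ_ex A.v0
  have h1 : E.P A.v0 c := ⟨A.mem, hc⟩
  have h2 := E.c135 h.rev h1 (-(A.χ a x / E.κ b.rev))
  have h3 := h1.neg.smul (E.ε * E.κ b.rev * -(A.χ a x / E.κ b.rev))
  rw [smul_neg, ← neg_smul] at h2 h3
  obtain ⟨z, hz, e⟩ := A.exists_Z hx (h3.mem a) (by
    rw [A.χ_T h3, A.ε_eq]; have := E.κ_ne b.rev; field_simp)
  rw [e, eq_mul_inv_of_mul_eq h2.symm, Fin.rev_rev, commutatorElement_def]
  have k1 : ∀ t, E.xl a b.rev t ∈ E.L a b ⊔ E.L a b.rev ⊔ E.S b := fun t =>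
    Subgroup.mem_sup_left (Subgroup.mem_sup_right ⟨t, rfl⟩)
  have k2 := Subgroup.mem_sup_right (S := E.L a b ⊔ E.L a b.rev) (h1.mem b)
  exact mul_mem (mul_mem (mul_mem (mul_mem (mul_mem k2 (k1 _)) (inv_mem k2)) (inv_mem (k1 _)))
    (inv_mem (Subgroup.mem_sup_left (Subgroup.mem_sup_left ⟨_, rfl⟩))))
    (Subgroup.mem_sup_left (Z_le_LL A h hz))

variable (φ y) in
open Classical in
/-- The conjugates of `y`. -/
noncomputable def Yv (u : V) : Γ :=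
  if h : ∃ g : Fx E id, E.ρ g e₀ = u then φ h.choose * y * (φ h.choose)⁻¹ else 1

variable (E) in
/-- The orbit together with zero. -/
def Om (u : V) : Prop := u = 0 ∨ ∃ g ∈ Fx E id, E.ρ g e₀ = u

variable (A π φ y c₀) in
/-- The hypotheses. -/
structure HY : Prop where
  hφ : ∀ g, π (φ g) = g
  P : E.P A.v0 c₀
  hy : π y = E.T e₀ A.v0 c₀
  c : ∀ g : Fx E id, E.ρ g e₀ = e₀ → Commute (φ g) y

variable (φ y) in
/-- Good subspaces. -/
structure Gd (W : Submodule K V) : Prop where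
  iso : ∀ u ∈ W, ∀ w ∈ W, E.B u w = 0
  orb : ∀ u ∈ W, Om E u
  add : ∀ u ∈ W, ∀ w ∈ W, (Yv φ y (u + w))⁻¹ * (Yv φ y u * Yv φ y w) ∈ φ.range

lemma e_ne_zero (a : J (m + 1)) : E.e a ≠ 0 := fun e => E.κ_ne a (by simp [κ, e])

lemma Yv_zero : Yv φ y 0 = 1 := dif_neg fun ⟨g, e⟩ =>
  e_ne_zero (E := E) (ps 0) (by simpa using (E.ρ_inv_eq e).symm)

lemma Om.map (h : Om E u) {g : G} (hg : g ∈ Fx E id) : Om E (E.ρ g u) := by
  obtain rfl | ⟨g', h1, rfl⟩ := h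
  exacts [Or.inl (map_zero _), Or.inr ⟨_, mul_mem hg h1, E.ρ_mul _ _ _⟩]

variable (E) in
/-- The stabiliser of a subspace. -/
def StW (W : Submodule K V) : Subgroup G where
  carrier := {g | ∀ x, x ∈ W ↔ E.ρ g x ∈ W}
  one_mem' := by simp
  mul_mem' {a b} ha hb x := by rw [ρ_mul, ← ha, ← hb]
  inv_mem' h x := by rw [h (E.ρ _ x), ρ_ρ_inv]

lemma le_StW {W : Submodule K V} {B : Subgroup G} (h : ∀ g ∈ B, ∀ x ∈ W, E.ρ g x ∈ W) :
    B ≤ StW E W := fun g hg x => ⟨h g hg x, fun e => by simpa using h _ (inv_mem hg) _ e⟩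

namespace HY

variable (h : HY A π φ y c₀) {W W' : Submodule K V}
include h

lemma inj : ∀ x ∈ φ.range, π x = 1 → x = 1 := by
  rintro _ ⟨g, rfl⟩ e
  rw [show g = 1 from Subtype.ext ((h.hφ g).symm.trans e), map_one]

lemma eq (g : Fx E id) : Yv φ y (E.ρ g e₀) = φ g * y * (φ g)⁻¹ := by
  have e : ∃ g' : Fx E id, E.ρ g' e₀ = E.ρ g e₀ := ⟨g, rfl⟩
  have := h.c (g⁻¹ * e.choose) (by simp [e.choose_spec])
  rw [Yv, dif_pos e, ← mul_inv_cancel_left (φ g) (φ e.choose), ← map_inv, ← map_mul, mul_assoc (φ g),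
    this.eq]
  simp [mul_assoc]

lemma e0 : Yv φ y e₀ = y := by simpa using h.eq 1

lemma conj (g : Fx E id) (u : V) : φ g * Yv φ y u * (φ g)⁻¹ = Yv φ y (E.ρ g u) := by
  by_cases e : ∃ g' : Fx E id, E.ρ g' e₀ = u
  · obtain ⟨g', rfl⟩ := e
    rw [← ρ_mul, ← Subgroup.coe_mul, h.eq, h.eq, map_mul]
    group
  · rw [Yv, dif_neg e, Yv, dif_neg fun ⟨g', e'⟩ => e ⟨g⁻¹ * g', by simp [e']⟩]
    simp

lemma adm (hu : Om E u) : E.Adm u A.v0 c₀ ∧ π (Yv φ y u) = E.T u A.v0 c₀ := by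
  obtain rfl | ⟨g, hg, rfl⟩ := hu
  · have : E.Adm 0 A.v0 c₀ := ⟨E.Λ_zero, h.P.2, by simp⟩
    exact ⟨this, by rw [Yv_zero, map_one]; exact E.ext fun x => by simp [ρ_T this]⟩
  · have h1 := (mem_D A).1 hg
    exact ⟨h1 ▸ (h.P.adm _).map g, by
      rw [h.eq ⟨g, hg⟩, map_mul, map_mul, map_inv, h.hφ, h.hy, T_conj (h.P.adm _), h1]⟩

lemma v0 (hu : Om E u) : E.ρ (π (Yv φ y u)) A.v0 = A.v0 + u := by
  simp [h.adm hu, ρ_T (h.adm hu).1, A.B_eq, E.B_eq_zero_comm (h.adm hu).1.2.2]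

lemma fix (hu : Om E u) (hw : Om E w) (e : E.B w u = 0) : π (Yv φ y u) ∈ E.Fix w := by
  change E.ρ _ _ = _
  simp [h.adm hu, ρ_T (h.adm hu).1, e, (h.adm hw).1.2.2]

lemma add_conj {g : G} (hg : g ∈ Fx E id)
    (e : (Yv φ y (u + w))⁻¹ * (Yv φ y u * Yv φ y w) ∈ φ.range) :
    (Yv φ y (E.ρ g u + E.ρ g w))⁻¹ * (Yv φ y (E.ρ g u) * Yv φ y (E.ρ g w)) ∈ φ.range := by
  have := fun u => h.conj ⟨g, hg⟩ u
  simpa [← map_add, ← this, mul_assoc] using cj_self (A := φ.range) ⟨⟨g, hg⟩, rfl⟩ _ e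

lemma gd_conj (h1 : Gd φ y W) {g : G} (hg : g ∈ Fx E id) (h2 : ∀ u ∈ W', ∃ w ∈ W, E.ρ g w = u) :
    Gd φ y W' := by
  refine ⟨fun u hu w hw => ?_, fun u hu => ?_, fun u hu w hw => ?_⟩ <;>
    obtain ⟨u, hu', rfl⟩ := h2 u hu
  · obtain ⟨w, hw', rfl⟩ := h2 w hw
    rw [E.ρ_B, h1.iso u hu' w hw']
  · exact (h1.orb u hu').map hg
  · obtain ⟨w, hw', rfl⟩ := h2 w hw
    exact h.add_conj hg (h1.add u hu' w hw')

lemma fix_add (hu : Om E u) (hw : Om E w) (h1 : Om E (u + w)) {x : V} (hx : Om E x)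
    (e1 : E.B x u = 0) (e2 : E.B x w = 0) {d : Fx E id}
    (e : φ d = (Yv φ y (u + w))⁻¹ * (Yv φ y u * Yv φ y w)) : (d : G) ∈ E.Fix x := by
  rw [← h.hφ, e, map_mul, map_mul, map_inv]
  exact mul_mem (inv_mem (h.fix h1 hx (by simp [e1, e2]))) (mul_mem (h.fix hu hx e1) (h.fix hw hx e2))

lemma ex_add (h1 : Gd φ y W) (hu : u ∈ W) (hw : w ∈ W) :
    ∃ c : Fx E id, ↑c ∈ StW E W ∧ Yv φ y u * Yv φ y w = Yv φ y (u + w) * φ c := by
  obtain ⟨c, e⟩ := h1.add u hu w hw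
  have k : ∀ x ∈ W, E.ρ c x = x := fun x hx => h.fix_add (h1.orb _ hu) (h1.orb _ hw)
    (h1.orb _ (add_mem hu hw)) (h1.orb _ hx) (h1.iso _ hx _ hu) (h1.iso _ hx _ hw) e
  exact ⟨c, fun x => ⟨fun hx => (k x hx).symm ▸ hx, fun hx => by
    rwa [← E.ρ_inv_ρ c x, E.ρ_inv_eq (k _ hx)]⟩, by simp [e]⟩

/-- The subgroups on which the projection is injective. -/
def NW (h1 : Gd φ y W) : Subgroup Γ where
  carrier := {x | ∃ u ∈ W, ∃ d : Fx E id, ↑d ∈ StW E W ∧ x = Yv φ y u * φ d}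
  one_mem' := ⟨0, zero_mem _, 1, one_mem _, by simp [Yv_zero]⟩
  mul_mem' := by
    rintro _ _ ⟨u, hu, d, hd, rfl⟩ ⟨w, hw, d', hd', rfl⟩
    obtain ⟨c, h2, e⟩ := h.ex_add h1 hu ((hd w).1 hw)
    exact ⟨_, add_mem hu ((hd w).1 hw), c * d * d', mul_mem (mul_mem h2 hd) hd', by
      rw [mul_assoc c, map_mul, ← mul_assoc _ (φ c), ← e, ← h.conj, map_mul]; group⟩
  inv_mem' := by
    rintro _ ⟨u, hu, d, hd, rfl⟩
    obtain ⟨c, h2, e⟩ := h.ex_add h1 hu (neg_mem hu)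
    rw [add_neg_cancel, Yv_zero, one_mul] at e
    exact ⟨_, (inv_mem hd _).1 (neg_mem hu), d⁻¹ * c⁻¹, mul_mem (inv_mem hd) (inv_mem h2), by
      rw [← Subgroup.coe_inv, ← h.conj, map_mul, map_inv, map_inv, ← e]; group⟩

lemma inj_NW (h1 : Gd φ y W) : ∀ x ∈ h.NW h1, π x = 1 → x = 1 := by
  rintro _ ⟨u, hu, d, -, rfl⟩ e
  have := congrArg (E.ρ · A.v0) e
  simp only [map_mul, Module.End.mul_apply, h.hφ, (mem_D A).1 d.2, h.v0 (h1.orb u hu)] at this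
  obtain rfl : u = 0 := by simpa using this
  rw [Yv_zero, one_mul] at e ⊢
  exact h.inj _ ⟨d, rfl⟩ e

lemma map_lf {B : Subgroup G} (hB : B ≤ Fx E id) : ((B.subgroupOf _).map φ).map π = B := by
  rw [Subgroup.map_map, show π.comp φ = (Fx E id).subtype from MonoidHom.ext h.hφ,
    Subgroup.map_subgroupOf_eq_of_le hB]

lemma lf_le (h1 : Gd φ y W) {B : Subgroup G} (hB : ∀ g ∈ B, ∀ x ∈ W, E.ρ g x ∈ W) :
    (B.subgroupOf _).map φ ≤ h.NW h1 := by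
  rintro _ ⟨d, hd, rfl⟩
  exact ⟨0, zero_mem _, d, le_StW hB hd, by simp [Yv_zero]⟩

lemma gd_base {L : List K} (sp : Sp (fun μ => 1 ≤ m ∨ cj q μ = μ) L) (k : In (ps 0) b)
    (h1 : ∀ l ∈ L, (Yv φ y (e₀ + l • E.e b))⁻¹ * (y * Yv φ y (l • E.e b)) ∈ φ.range) :
    Gd φ y (Submodule.span K {e₀, E.e b}) := by
  have k1 : ∀ u : K × K, Om E (u.1 • e₀ + u.2 • E.e b) := fun u => by
    by_cases e : u = 0
    · exact Or.inl (by simp [e])
    obtain ⟨f, hf⟩ : ∃ f, dt u f ≠ 0 := by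
      by_contra! hn
      exact e (Prod.ext (by simpa [dt] using hn (0, 1)) (by simpa [dt] using hn (1, 0)))
    exact Or.inr ((exists_dt k hf).imp fun g hg => ⟨hg.1, hg.2.1⟩)
  have k2 : ∀ u w : K × K, E.B (u.1 • e₀ + u.2 • E.e b) (w.1 • e₀ + w.2 • E.e b) = 0 := by
    simp [E.B_in k, B_e_e]
  have k3 := add_mod (Y := fun u => Yv φ y (u.1 • e₀ + u.2 • E.e b))
    (C := ((E.Fix e₀ ⊓ E.Fix (E.e b)).subgroupOf _).map φ)
    (fun u => Subgroup.centralizer_le_normalizer _ (by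
      rintro _ ⟨d, ⟨h2, h3⟩, rfl⟩
      rw [← mul_inv_eq_iff_eq_mul, h.conj, map_add, map_smul, map_smul, show E.ρ d _ = _ from h2,
        show E.ρ d _ = _ from h3])) (by simp [Yv_zero]) sp fun μ h2 h3 l hl u w e => by
    obtain ⟨g, h4, h5, h6⟩ := exists_dt (E := E) k (e ▸ mul_ne_zero h2 (sp.1 l hl))
    obtain ⟨g', h7, f, h8, rfl⟩ := tor A k h2 h3
    have h9 := h.add_conj (mul_mem h4 (Ha_le_D h7)) (u := e₀) (w := l • E.e b)
      (by rw [h.e0]; exact h1 l hl)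
    rw [ρ_mul, ρ_mul, show E.ρ g' _ = _ from Ha_e h7, h5, map_smul, h8, smul_smul, mul_comm, ← e,
      Equiv.Perm.one_apply, h6] at h9
    obtain ⟨d, h9⟩ := h9
    have e1 : u.1 • e₀ + u.2 • E.e b + (w.1 • e₀ + w.2 • E.e b) =
        (u + w).1 • e₀ + (u + w).2 • E.e b := by simp; module
    exact ⟨d, ⟨h.fix_add (k1 u) (k1 w) (e1 ▸ k1 _) (by simpa using k1 (1, 0))
      (by simpa using k2 (1, 0) u) (by simpa using k2 (1, 0) w) h9, h.fix_add (k1 u) (k1 w)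
      (e1 ▸ k1 _) (by simpa using k1 (0, 1)) (by simpa using k2 (0, 1) u)
      (by simpa using k2 (0, 1) w) h9⟩, e1 ▸ h9⟩
  refine ⟨fun u hu w hw => ?_, fun u hu => ?_, fun u hu w hw => ?_⟩ <;>
    obtain ⟨s, t, rfl⟩ := Submodule.mem_span_pair.1 hu
  · obtain ⟨s', t', rfl⟩ := Submodule.mem_span_pair.1 hw
    exact k2 (s, t) (s', t')
  · exact k1 (s, t)
  · obtain ⟨s', t', rfl⟩ := Submodule.mem_span_pair.1 hw
    convert Subgroup.map_le_range _ _ (k3 (s, t) (s', t')) using 4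
    simp; module

lemma gd_all (h1 : Gd φ y (Submodule.span K {e₀, E.e b})) (k : In (ps 0) b) (a c : J (m + 1))
    (e : In a c) : Gd φ y (Submodule.span K {E.e a, E.e c}) := by
  have k1 : ∀ {a b c}, Gd φ y (Submodule.span K {E.e a, E.e b}) → In a b → In a c →
      Gd φ y (Submodule.span K {E.e c, E.e a}) := fun {a b c} h1 h2 h3 => by
    obtain ⟨g, h4, f, τ, h5, h6, rfl⟩ := mv1 A h2 h3
    refine h.gd_conj h1 (Ha_le_D h4) fun u hu => ?_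
    obtain ⟨s, t, rfl⟩ := Submodule.mem_span_pair.1 hu
    exact ⟨_, Submodule.mem_span_pair.2 ⟨t / f a, s / f b, rfl⟩, by
      simp [h5 _, h6, smul_smul, h5.ne, add_comm]⟩
  rw [Set.pair_comm]
  rcases VC.in_cases (ps 0) a with rfl | rfl | e'
  exacts [k1 h1 k e, k1 (k1 (k1 h1 k k) k.symm k.rev'.symm) k.rev' e, k1 (k1 h1 k e') e'.symm e]

section main

variable (g : ∀ a b, In a b → Gd φ y (Submodule.span K {E.e a, E.e b}))
include g

lemma gd1 (a : J (m + 1)) : Gd φ y (Submodule.span K {E.e a}) :=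
  (ex2 (by omega) a).elim fun b hb => h.gd_conj (g a b hb) (one_mem _) fun u hu =>
    ⟨u, Submodule.span_mono (by simp) hu, by simp⟩

/-- The lifts of the short root subgroups. -/
def Ys (a : J (m + 1)) : Subgroup Γ := h.NW (h.gd1 g a) ⊓ (E.S a).comap π

lemma Y_mem (a : J (m + 1)) (s : K) : π (Yv φ y (s • E.e a)) ∈ E.S a := by
  rw [(h.adm ((h.gd1 g a).orb _ (Submodule.mem_span_singleton.2 ⟨s, rfl⟩))).2, T_smul (h.P.adm a)]
  simpa [mul_comm] using (h.P.smul (E.σ s)).mem a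

lemma Y_mem' (a : J (m + 1)) (s : K) : Yv φ y (s • E.e a) ∈ h.Ys g a :=
  ⟨⟨_, Submodule.mem_span_singleton.2 ⟨s, rfl⟩, 1, one_mem _, by simp⟩, h.Y_mem g a s⟩

lemma Ys_le (h1 : Gd φ y W) (ha : E.e a ∈ W) : h.Ys g a ≤ h.NW h1 := by
  rintro _ ⟨⟨u, hu, d, -, rfl⟩, h2⟩
  obtain ⟨s, rfl⟩ := Submodule.mem_span_singleton.1 hu
  refine ⟨_, W.smul_mem s ha, d, le_StW (B := E.S a) ?_ (by
    simpa [h.hφ] using mul_mem (inv_mem (h.Y_mem g a s)) h2), rfl⟩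
  rintro _ ⟨v, c, hv, rfl⟩ x hx
  obtain ⟨t, rfl⟩ := A.V0_eq v hv.1
  simpa [ρ_T (hv.adm a), h1.iso x hx _ ha, (h.adm (h1.orb x hx)).1.2.2] using hx

lemma Z_le_Ys (a : J (m + 1)) : ((E.Z a).subgroupOf _).map φ ≤ h.Ys g a :=
  le_inf (h.lf_le _ fun z hz x hx => (Z_le_Fix ((h.gd1 g a).iso x hx _
    (Submodule.mem_span_singleton_self _)) hz).symm ▸ hx)
    (Subgroup.map_le_iff_le_comap.1 ((h.map_lf Z_le_D).le.trans Z_le))

lemma map_Ys (a : J (m + 1)) : (h.Ys g a).map π = E.S a := by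
  refine le_antisymm (Subgroup.map_le_iff_le_comap.2 inf_le_right) fun x hx => ?_
  obtain ⟨z, hz, e⟩ := A.exists_Z hx (h.Y_mem g a (E.σ (A.χ a x))) (by
    rw [(h.adm ((h.gd1 g a).orb _ (Submodule.mem_span_singleton.2 ⟨_, rfl⟩))).2, T_smul (h.P.adm a),
      σ_σ, mul_comm (E.σ _), A.χ_T (h.P.smul _)])
  exact ⟨_, mul_mem (h.Y_mem' g a _) (h.Z_le_Ys g a ⟨⟨z, Z_le_D hz⟩, hz, rfl⟩), by
    rw [map_mul, h.hφ, e]⟩

theorem ce (hg : E.Gen) (g1 : (sub E ⟨Function.injective_id, fun _ => rfl⟩).Gen)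
    (ht : φ.range ⊔ Subgroup.zpowers y = ⊤) : CE π := by
  let Z : Sym2 (J (m + 1)) → Subgroup Γ := Sym2.lift ⟨fun a b => if a = b then h.Ys g a else
    ((E.L a b).subgroupOf _).map φ, fun a b => by
      by_cases e : a = b <;> simp [e, eq_comm (a := b), E.L_comm b]⟩
  have e1 : ∀ a, Z s(a, a) = h.Ys g a := fun a => if_pos rfl
  have e2 : ∀ {a b}, In a b → Z s(a, b) = ((E.L a b).subgroupOf _).map φ := fun h => if_neg h.ne
  have e3 : ∀ {a b}, (((E.L a b).subgroupOf _).map φ).map π = _ := h.map_lf L_le_D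
  have e4 := h.map_Ys g
  have e5 : ∀ {a b}, ((E.L a b).subgroupOf _).map φ ≤ φ.range := @fun _ _ =>
    Subgroup.map_le_range _ _
  have lz : LZ true E π Z := by
    constructor <;> refine Sym2.ind fun a b hz => ?_ <;> by_cases e : a = b
    · rw [← e, e1, e4, Xz_S]
    · rw [e2 (VC.in_of_ok hz e), e3, E.Xz_L (VC.in_of_ok hz e)]
    · exact e ▸ e1 a ▸ fun x hx => h.inj_NW _ x hx.1
    · exact e2 (VC.in_of_ok hz e) ▸ fun x hx => h.inj x (e5 hx)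
  have m1 : ∀ a b, E.e a ∈ Submodule.span K {E.e a, E.e b} := fun _ _ =>
    Submodule.subset_span (by simp)
  have m2 : ∀ a b, E.e b ∈ Submodule.span K {E.e a, E.e b} := fun _ _ =>
    Submodule.subset_span (by simp)
  have k1 : ∀ {a b c}, E.B (E.e c) (E.e a) = 0 → E.B (E.e c) (E.e b) = 0 →
      ((E.L a b).subgroupOf _).map φ ≤ h.NW (h.gd1 g c) := fun h1 h2 => h.lf_le _ fun z hz x hx => by
    obtain ⟨s, rfl⟩ := Submodule.mem_span_singleton.1 hx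
    rwa [map_smul, show E.ρ z _ = _ from L_le_Fix h1 h2 hz]
  have k2 : ∀ {a b} (e : In a b), ((E.L a b).subgroupOf _).map φ ≤ h.NW (g a b e) := fun e =>
    h.lf_le _ fun z hz x hx => (L_le_Fix ((g _ _ e).iso x hx _ (m1 _ _))
      ((g _ _ e).iso x hx _ (m2 _ _)) hz).symm ▸ hx
  have lf := lz.lf A.hyp ⟨fun a b c h1 h2 h3 => e2 h1 ▸ e2 h2 ▸ .of_inj h.inj e5 e5 bot_le
      (by simpa only [e3, Subgroup.map_bot] using cmL60 h1 h2 h3),
    fun a b c h1 h2 h3 => e2 h1 ▸ e2 h2 ▸ e2 h3.rev' ▸ .of_inj h.inj e5 e5 e5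
      (by simpa only [e3] using cmL120 h1 h2 h3),
    fun a b c d h1 h2 h3 h4 h5 h6 => e2 h1 ▸ e2 h6 ▸ .of_inj h.inj e5 e5 bot_le
      (by simpa only [e3, Subgroup.map_bot] using cmL90 h1 h2 h3 h4 h5 h6)⟩
    (fun _ => ⟨fun a b h1 => by
      rw [e2 h1, e2 h1.rev, e1]
      refine .of_inj (h.inj_NW _) (k1 (E.B_e_e a) (E.B_in h1).1) (k1 (E.B_e_e a) (E.B_in h1.rev).1)
        inf_le_left ?_
      rw [e3, e3, e4]
      rintro _ ⟨t, rfl⟩ _ ⟨u, rfl⟩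
      exact E.c90b h1 t u ▸ (P.zero (E.Λ90b b t u)).mem a, fun a b h1 => by
      rw [e2 h1, e1]
      refine .of_inj (h.inj_NW _) (k1 (E.B_e_e a) (E.B_in h1).1) inf_le_left bot_le ?_
      rw [e3, e4, Subgroup.map_bot]
      exact (cm_bot (k45 h1)).symm, fun a b c h1 h2 h3 => by
      rw [e2 h1, e1]
      refine .of_inj (h.inj_NW _) (k1 (E.B_in h2).2.1 (E.B_in h3).2.1) inf_le_left bot_le ?_
      rw [e3, e4, Subgroup.map_bot]
      exact (cmLS h1 h2 h3).mono le_rfl le_sup_left le_rfl, fun a b h1 => by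
      rw [e2 h1, e2 h1.rev, e1, e1]
      refine .of_inj (h.inj_NW (g _ _ h1.rev)) (h.lf_le _ ?_) (h.Ys_le g _ (m2 _ _))
        (sup_le (h.Ys_le g _ (m1 _ _)) (k2 h1.rev)) ?_
      · rintro _ ⟨t, rfl⟩ x hx
        have := (g _ _ h1.rev).iso x hx _ (m1 _ _)
        simpa [E.ρ_xl h1, this] using add_mem hx (Submodule.smul_mem _ _ (m1 _ _))
      rw [Subgroup.map_sup, e3, e3, e4, e4]
      rintro _ ⟨t, rfl⟩ _ ⟨v, c, hv, rfl⟩
      rw [← commutatorElement_inv, E.c135 h1 hv]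
      exact inv_mem (mul_mem (Subgroup.mem_sup_left ((hv.neg.smul _).mem a))
        (Subgroup.mem_sup_right ⟨_, rfl⟩)), fun a b h1 => by
      rw [e2 h1, e1, e1]
      refine .of_inj (h.inj_NW (g _ _ h1)) (h.Ys_le g _ (m1 _ _)) (h.Ys_le g _ (m2 _ _)) (k2 h1) ?_
      rw [e3, e4, e4]
      rintro _ ⟨v, c, hv, rfl⟩ _ ⟨w, d, hw, rfl⟩
      exact E.cSS h1 hv hw ▸ E.xl_mem' _ _ _⟩) (by simp)
  refine lf.ce A.hyp.faith (fun i => ?_) (eq_top_iff.2 (ht.ge.trans (sup_le ?_ ?_)))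
    (A.hyp.top hg (by simp))
  · rcases Fin.eq_castSucc_or_eq_last i with ⟨i, rfl⟩ | rfl
    · refine Or.inr fun x hx => h.inj x ((sup_le ?_ ?_ : _ ≤ φ.range) hx) <;>
        change Z s(_, _) ≤ _ <;> rw [α1_cs, α2_cs]
      exacts [e2 (in_ps (cs_ne i)).rev ▸ e5, e2 (in_ps (cs_ne i)).rev.rev.rev' ▸ e5]
    · exact Or.inl (nr_last _ fun _ _ => S_le A)
  · rw [φ.range_eq_map, Subgroup.map_le_iff_le_comap, top_le_iff]
    refine sub_le _ A g1 (fun a b t x e => ?_) fun a x e => ?_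
    · by_cases e' : In a b
      · exact mem_XS (r := ⟨_, e'.ok⟩) (Set.mem_univ _) ((e2 e').ge ⟨x, ⟨t, e.symm⟩, rfl⟩)
      · rw [show x = 1 from Subtype.ext (by simp [e, xl, e'])]; exact one_mem _
    · exact mem_XS (r := ⟨_, ok_diag a⟩) (Set.mem_univ _) ((e1 a).ge (h.Z_le_Ys g a ⟨x, e, rfl⟩))
  · exact Subgroup.zpowers_le.2 (mem_XS (r := ⟨_, ok_diag (ps 0)⟩) (Set.mem_univ _)
      ((e1 _).ge (by simpa [h.e0] using h.Y_mem' g (ps 0) 1)))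

theorem perfect (g1 : (sub E ⟨Function.injective_id, fun _ => rfl⟩).Gen)
    (ht : φ.range ⊔ Subgroup.zpowers y = ⊤) : commutator Γ = ⊤ := by
  have k0 : ∀ x y z : Fx E id, (z : G) = ⁅(x : G), (y : G)⁆ → φ z ∈ commutator Γ := fun x y z e => by
    rw [show z = ⁅x, y⁆ from Subtype.ext e, map_commutatorElement]
    exact Subgroup.commutator_mem_commutator (Subgroup.mem_top _) (Subgroup.mem_top _)
  have k1 : φ.range ≤ commutator Γ := by
    rw [φ.range_eq_map, Subgroup.map_le_iff_le_comap, top_le_iff]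
    refine sub_le _ A g1 (fun a b t x e => ?_) fun a x e => ?_
    · by_cases e' : In a b
      · obtain ⟨l, h0, h1⟩ := H11.Sp.exists_sq_ne_one_of_card (F := K) (by
          rw [IsSq.card_eq (q := q)]; nlinarith [two_le_q K q])
        obtain ⟨g, f, h2, h3, h4, -, -, h5⟩ := E.exists_hL e' (E.σ_ne h0)
        obtain ⟨z, hz, e1⟩ := h2.surj_L e' (by rwa [h3, h4, σ_σ, ← sq]) _ (E.xl_mem a b t)
        exact k0 ⟨g, sup_le L_le_D L_le_D h5⟩ ⟨z, L_le_D hz⟩ _ (e.trans e1)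
      · rw [show x = 1 from Subtype.ext (by simp [e, xl, e'])]; exact one_mem _
    · obtain ⟨b, hb⟩ := ex2 (by omega) a
      obtain ⟨u, e1⟩ := Z_comm A hb e
      exact k0 ⟨_, L_le_D ⟨_, rfl⟩⟩ ⟨_, L_le_D ⟨_, rfl⟩⟩ _ e1
  refine eq_top_iff.2 (ht.ge.trans (sup_le k1 (Subgroup.zpowers_le.2 ?_)))
  obtain ⟨b, hb⟩ := ex2 (by omega) (ps 0 : J (m + 1))
  have k2 : ∀ s t : K, s ≠ 0 ∨ t ≠ 0 → Abelianization.of (Yv φ y (s • e₀ + t • E.e b)) =
      Abelianization.of y := fun s t e => by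
    obtain e' | ⟨d, hd, e'⟩ := (g _ _ hb).orb _ (Submodule.mem_span_pair.2 ⟨s, t, rfl⟩)
    · have h1 := congrArg (E.B · (E.e (ps 0).rev)) e'
      have h2 := congrArg (E.B · (E.e b.rev)) e'
      simp [E.B_in hb, B_e_rev, κ_ne] at h1 h2
      tauto
    · simp [← e', h.eq ⟨d, hd⟩]
  have k3 := k1 ((g _ _ hb).add _ (Submodule.mem_span_pair.2 ⟨1, 0, rfl⟩) _
    (Submodule.mem_span_pair.2 ⟨0, 1, rfl⟩))
  rw [← Abelianization.ker_of, MonoidHom.mem_ker] at k3 ⊢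
  rwa [map_mul, map_mul, map_inv, k2 1 0 (by simp), k2 0 1 (by simp), show (1 : K) • e₀ +
    (0 : K) • E.e b + ((0 : K) • e₀ + (1 : K) • E.e b) = (1 : K) • e₀ + (1 : K) • E.e b by simp,
    k2 1 1 (by simp), inv_mul_cancel_left] at k3

end main

lemma add_D (hu : Om E u) (hw : Om E w) (h1 : Om E (u + w)) (e : E.B w u = 0) :
    π ((Yv φ y (u + w))⁻¹ * (Yv φ y u * Yv φ y w)) ∈ Fx E id := by
  rw [mem_D A, map_mul π, map_mul π, map_inv π, ρ_mul, ρ_mul, h.v0 hw, map_add, h.v0 hu,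
    show E.ρ _ w = w from h.fix hu hw e, add_assoc, ← h.v0 h1, ρ_inv_ρ]

end HY

/-- The inner part of the frame. -/
def j1 (a : J m) : J (m + 1) := ⟨a + 1, by omega⟩

lemma je_j1 : JE (@j1 m) :=
  ⟨fun a b e => Fin.ext (by simpa [j1] using e), fun a => Fin.ext (by simp [j1]; omega)⟩

omit [Fintype K] in
lemma Fx_j1 : Fx E j1 = Ha E (ps 0) := by
  have k : ∀ x, x ∈ Uj E j1 ↔ ∀ d, In (ps 0) d → E.B x (E.e d) = 0 := fun x =>
    ⟨fun h d hd => by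
      rw [In.iff, ps_val, Fin.val_zero] at hd
      exact (show j1 ⟨d - 1, by omega⟩ = d from Fin.ext (by simp only [j1]; omega)) ▸ h _,
    fun h a => h _ (by simp [In.iff, j1, ps_val]; omega)⟩
  ext g
  simp only [Ha, Subgroup.mem_iInf, ← k]
  rfl

theorem hasPr_of_cost' {P : Type u} [Group P] {f : P →* G} {d r n : ℕ} (h : HasPr P d r)
    (hC : Cost f n fun J _ q => Function.Surjective q → ∀ π : J →* G, (∀ x, π (q x) = f x) →
      Function.Surjective π ∧ π.ker = ⊥) : HasPr G d (r + n) := by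
  refine hasPr_of_cost h ?_ (hC.imp fun J _ q h1 h2 π h3 y hy => (h1 h2 π h3).2.le hy)
  obtain ⟨R, -, h1, h2⟩ := hC
  exact fun x => ((h2 _ f.rangeRestrict (fun w hw => Subtype.ext (h1 w hw))
    f.rangeRestrict_surjective f.range.subtype fun _ => rfl).1 x).elim fun y e => e ▸ y.2

theorem hasPr_Y (A : E.SNC q) (hg : E.Gen) (g0 : (sub E ⟨Function.injective_id, fun _ => rfl⟩).Gen)
    (g1 : (sub E je_j1).Gen) (hk : ∀ (Γ : Type u) [Group Γ] (π : Γ →* G), CE π →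
      π.ker ≤ commutator Γ → π.ker = ⊥) {d r : ℕ} (hP : HasPr (Fx E id) d r) :
    HasPr G (d + 1) (r + (2 + (if 1 ≤ m then 1 else if q = 2 then 3 else 2) * 2)) := by
  obtain ⟨c₀, hc⟩ := E.Λ_ex A.v0
  have h1 : E.P A.v0 c₀ := ⟨A.mem, hc⟩
  obtain ⟨b, k⟩ := ex2 (by omega) (ps 0 : J (m + 1))
  obtain ⟨L, sp, hL⟩ := exists_Sp (K := K) q m
  obtain ⟨y1, y2, hy⟩ := sub_two_gen je_j1 A g1
  rw [Fx_j1] at hy
  have m1 : y1 ∈ Ha E (ps 0) := hy ▸ Subgroup.subset_closure (by simp)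
  have m2 : y2 ∈ Ha E (ps 0) := hy ▸ Subgroup.subset_closure (by simp)
  let s : Coprod (Fx E id) (FreeGroup (Fin 1)) := Coprod.inr (FreeGroup.of 0)
  let F := Coprod.lift (Fx E id).subtype (FreeGroup.lift fun _ : Fin 1 => E.T e₀ A.v0 c₀)
  have Fs : F s = E.T e₀ A.v0 c₀ := by simp [F, s]
  have Fc : F.comp Coprod.inl = (Fx E id).subtype := rfl
  have H : HY A (MonoidHom.id G) (Fx E id).subtype (F s) c₀ := ⟨fun _ => rfl, h1, Fs, fun g e => by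
    rw [Fs, commute_iff_eq, ← mul_inv_eq_iff_eq_mul, T_conj (h1.adm _), Subgroup.coe_subtype,
      (mem_D A).1 g.2, e]⟩
  have c1 : ∀ g : Fx E id, E.ρ g e₀ = e₀ → Cost F 1 fun _ _ q => Commute (q (Coprod.inl g)) (q s) :=
    fun g e => Cost.comm (H.c g e)
  have c2 := Cost.list (f := F) L (C := fun l _ _ q =>
      Commute (q (Coprod.inl ⟨_, L_le_D (E.xl_mem (ps 0) b l)⟩)) (q s) ∧ ∃ g g' : Fx E id,
      E.ρ g e₀ = l • E.e b ∧ E.ρ g' e₀ = e₀ + l • E.e b ∧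
      (q.comp Coprod.inl g' * q s * (q.comp Coprod.inl g')⁻¹)⁻¹ * (q s * (q.comp Coprod.inl g * q s *
        (q.comp Coprod.inl g)⁻¹)) ∈ (q.comp Coprod.inl).range) fun l hl => by
    obtain ⟨g, h2, h3, -⟩ := exists_dt (E := E) k (u := (0, l)) (w := (1, 0))
      (by simpa [dt] using sp.1 l hl)
    obtain ⟨g', h4, h5, -⟩ := exists_dt (E := E) k (u := (1, l)) (w := (0, 1)) (by simp [dt])
    simp only [zero_smul, zero_add, one_smul] at h3 h5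
    refine (c1 _ (L_le_Fix (E.B_e_e _) (E.B_in k).1 (E.xl_mem _ _ _))).and ((Cost.mem
      (H := Coprod.inl.range) (x := (Coprod.inl ⟨g', h4⟩ * s * (Coprod.inl ⟨g', h4⟩)⁻¹)⁻¹ *
        (s * (Coprod.inl ⟨g, h2⟩ * s * (Coprod.inl ⟨g, h2⟩)⁻¹))) ?_).imp fun J _ q hq =>
      ⟨⟨g, h2⟩, ⟨g', h4⟩, h3, h5, by simp only [map_mul, map_inv, ← MonoidHom.range_comp] at hq; exact hq⟩)
    have := H.add_D (u := e₀) (w := l • E.e b) (Or.inr ⟨1, one_mem _, by simp⟩)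
      (Or.inr ⟨g, h2, h3⟩) (Or.inr ⟨g', h4, h5⟩) (by simp [E.B_in k])
    rw [H.e0, ← h5, ← h3, H.eq ⟨g, h2⟩, H.eq ⟨g', h4⟩] at this
    simp only [map_mul, map_inv, ← MonoidHom.range_comp, Fc, Subgroup.range_subtype]
    exact this
  refine hasPr_of_cost' (f := F) (by simpa using hasPr_coprod hP ⟨_, pr_free (Fin 1)⟩)
    (((((c1 ⟨_, Ha_le_D m1⟩ (Ha_e m1)).and (c1 ⟨_, Ha_le_D m2⟩ (Ha_e m2))).and c2).imp ?_).le
      (by omega))
  rintro J _ q ⟨⟨r1, r2⟩, r3⟩ hq π hπ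
  have h : HY A π (q.comp Coprod.inl) (q s) c₀ := ⟨fun g => hπ _, h1, (hπ s).trans Fs, fun g e => by
    obtain ⟨x, hx, e⟩ := stab_le A k sp (B := ((Subgroup.centralizer {q s}).comap
      (q.comp Coprod.inl)).map (Fx E id).subtype) (hy ▸ (Subgroup.closure_le _).2
        (Set.pair_subset ⟨_, Subgroup.mem_centralizer_singleton_iff.2 r1, rfl⟩
          ⟨_, Subgroup.mem_centralizer_singleton_iff.2 r2, rfl⟩))
      (fun l hl => ⟨_, Subgroup.mem_centralizer_singleton_iff.2 (r3 l hl).1, rfl⟩) g.2 e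
    exact Subtype.ext e ▸ Subgroup.mem_centralizer_singleton_iff.1 hx⟩
  have g := h.gd_all (h.gd_base sp k fun l hl => by
    obtain ⟨g, g', h2, h3, h4⟩ := (r3 l hl).2
    rwa [← h3, ← h2, h.eq, h.eq]) k
  have ht : (q.comp Coprod.inl).range ⊔ Subgroup.zpowers (q s) = ⊤ := by
    rw [← MonoidHom.range_eq_top.2 hq, Coprod.range_eq, (q.comp Coprod.inr).range_eq_map,
      ← FreeGroup.closure_range_of, MonoidHom.map_closure, ← Set.range_comp, Set.range_unique,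
      Subgroup.zpowers_eq_closure]
    rfl
  have := h.ce g hg g0 ht
  exact ⟨this.surj, hk _ _ this (h.perfect g g0 ht ▸ le_top)⟩

end H6.P6
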