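import Mathlib
import Cfsg.Agent.Lib.Pres6.ThmY
import Cfsg.Agent.Lib.Pres6.SpP
import Cfsg.Agent.Lib.Pres.SU3

/-!
Short presentations of the unitary groups.
-/

set_option autoImplicit false

namespace H6.P6

open H40 H77.Pres H63.St H64 H64.St2 H11.U Cfsg

theorem pr_SL_two_odd (F : Type*) [Field F] [Finite F] {p : ℕ} [Fact p.Prime] [CharP F p]
    (hp : p ≠ 2) : ∃ x, Pr ![slx 1, x, wm F] 9 := by
  obtain ⟨ζ, hζ0, hζ, ho⟩ := exists_prim F
  obtain ⟨N, hN⟩ := odd_card (F := F) hp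
  have hζN := half_pow ho hN
  obtain ⟨R, X, hR, hm1, hJ⟩ := exists_borel hp hζ0 hζ ho
  obtain ⟨m1, m2⟩ := hm1 _ slx (hm hζ0) (wm F) slx_isAdd (hm_slx hζ0)
  have := Pr.of_univ ![slx 1, hm hζ0, wm F] (R ++ [fw ^ 2 * (fh ^ N)⁻¹, fw * fh * fw⁻¹ * fh,
    (fw * fu) ^ 3, fw * X ζ * fw⁻¹ * (X (-ζ⁻¹) * fh⁻¹ * fw * X (-ζ⁻¹))⁻¹])
    (gen_of_words (MonoidHom.id _) Function.surjective_id X m2) ?_ ?_
  · exact ⟨_, this.mono (by simp [hR])⟩
  · simp only [List.forall_mem_append, List.forall_mem_cons, map_mul, map_inv, map_pow,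
      FreeGroup.lift_apply_of, Matrix.cons_val, m2, wm_hm, wm_cube, wm_second hζ0,
      inv_mul_cancel, mul_inv_cancel, mul_inv_eq_one]
    refine ⟨m1, ?_, by simp⟩
    rw [wm_sq, hm_pow]; congr 1; exact hζN.symm
  · intro J _ j π hπ hgen hr
    obtain ⟨u, h, w, rfl⟩ : ∃ u h w, j = ![u, h, w] :=
      ⟨j 0, j 1, j 2, by ext i; fin_cases i <;> rfl⟩
    simp only [List.forall_mem_append, List.forall_mem_cons, map_mul, map_inv, map_pow,
      FreeGroup.lift_apply_of, Matrix.cons_val, mul_inv_eq_one] at hr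
    obtain ⟨r0, r1, r2, r3, r4, -⟩ := hr
    obtain ⟨a1, a2, a3⟩ := hJ J u h w r0
    let E : BD F J (ζ ^ 2) := ⟨fun a => e3 u h w (X a), h, w, a1, pow_ne_zero _ hζ0, a3,
      eq_inv_of_mul_eq_one_left r2, ⟨N, by simpa using r1.symm⟩⟩
    have hπc : π.comp (e3 u h w) = e3 (slx 1) (hm hζ0) (wm F) := by
      ext i : 1; simpa using hπ i
    refine inj_of_bruhat hζ0 (MonoidHom.id _) ker_id E (fun a ha => ?_)
      (fun H h1 h2 h3 => top_of_range hgen H (a2 ▸ h1 1) h2 h3) π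
      (fun a => (DFunLike.congr_fun hπc (X a)).trans (m2 a)) (hπ 1) (hπ 2) (fun k hk => ?_)
    · obtain ⟨m, rfl⟩ := hζ a ha
      rcases Nat.even_or_odd' m with ⟨k, rfl | rfl⟩
      · have := BD.big_shift (BD.big_one (E := E) (by simpa only [E, a2] using r3)) k
        simpa [pow_mul] using this
      · have e : E.Big (E.w * E.X ζ * E.w⁻¹) :=
          ⟨E.X (-ζ⁻¹) * h⁻¹, mul_mem (E.X_mem _) (by simpa using E.h_mem (-1)), _, E.X_mem _, r4⟩
        have := BD.big_shift e k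
        simpa [pow_mul, pow_succ] using this
    · rw [MonoidHom.id_apply, hm_zpow] at hk
      have e : ζ ^ k = 1 := by
        have := congrArg (fun g : Matrix.SpecialLinearGroup (Fin 2) F => g 0 0) hk
        simpa [coe_hm] using this
      obtain ⟨l, rfl⟩ := zpow_dvd hζ0 e
      have e2 := E.w_zpow N
      change w * h ^ (N : ℤ) * w⁻¹ = h ^ (-(N : ℤ)) at e2
      rw [zpow_neg, zpow_natCast, ← r1, ← pow_succ', mul_inv_eq_iff_eq_mul] at e2
      have e3 : h ^ (orderOf ζ : ℤ) = 1 := by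
        rw [zpow_natCast, show orderOf ζ = N + N by omega, pow_add, ← r1, ← mul_left_inj w,
          mul_assoc, ← pow_succ, e2]
        group
      change h ^ _ = 1
      rw [zpow_mul, e3, one_zpow]

variable {F : Type*} [Field F] [Fintype F] {q : ℕ} [IsSq F q]

lemma hasPr_two {n d r : ℕ} (h : HasPr (Matrix.SpecialLinearGroup (Fin n) F) d r) :
    HasPr (Matrix.SpecialLinearGroup (Fin n) F) 2 (r + 2) :=
  (sl_two_gen F n).elim fun a ha => ha.elim fun b hb => ⟨_, h.pair a b hb⟩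

lemma hasPr_ev {m : ℕ} {V G : Type*} [AddCommGroup V] [Module F V] [Group G]
    {E : Eich (m + 2) F V G} (h : HK E (fixedField F q) 0) (hg : E.Gen) : HasPr G 3 32 :=
  hasPr_D' (Or.inr le_rfl) h hg (hasPr_two (hasPr_SL_any F _ (by omega)))

lemma hasPr_odd {m n d r : ℕ} (e : n = m + 1 + 1 + (m + 1 + 1) + 1)
    (h : HasPr (Fx (SU.E F q (SU.ιo e)) id) d r) :
    HasPr (SU n F q) (d + 1) (r + (2 + (if 1 ≤ m then 1 else if q = 2 then 3 else 2) * 2)) := by
  obtain ⟨p, hp⟩ := CharP.exists F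
  have := Fact.mk (CharP.char_is_prime F p)
  exact hasPr_Y (SU.C F q _) (SU.gen F q _ (by omega)) (SU_gen _ _) (SU_gen _ _) (fun Γ _ π h1 h2 =>
    SU.ker_eq_bot h1 h2 (by omega) (SU.kerPP (p := p) h1 h2 (by omega) (by omega) (by omega))) h

variable (F q)

theorem hasPr_SU_four : HasPr (SU 4 F q) 6 32 :=
  hasPr_C (na := 0) (m := 0) (SU.A F q (SU.ιe rfl)) (SU.gen F q _ (by omega)) (Or.inl rfl)
    (hasPr_SL_two F) (hasPr_SL_two _)

theorem hasPr_SU_five : HasPr (SU 5 F q) 6 35 := by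
  obtain ⟨p, hp⟩ := CharP.exists F
  have := Fact.mk (CharP.char_is_prime F p)
  have A := subA ⟨Function.injective_id, fun _ => rfl⟩ (SU.C F q (SU.ιo (m := 1) (n := 5) rfl))
  by_cases h : p = 2
  · subst h
    exact (hasPr_odd (m := 0) rfl (hasPr_C (na := 0) A (SU_gen _ _) (Or.inl rfl)
      (hasPr_two (hasPr_SL_two_even F)) (hasPr_SL_two_even _))).mono (by split_ifs <;> omega)
  have h2 : q ≠ 2 := by
    rintro rfl
    obtain ⟨n, -, e⟩ := FiniteField.card F p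
    exact h (Nat.prime_dvd_prime_iff_eq this.1 Nat.prime_two |>.1 (this.1.dvd_of_dvd_pow (n := 2)
      (by rw [← IsSq.card_eq (F := F), e]; exact dvd_pow_self _ n.ne_zero)))
  obtain ⟨x, hx⟩ := pr_SL_two_odd (fixedField F q) h
  obtain ⟨ξ, hξ⟩ := exists_norm_eq (q := q) (c := (-1 : F)) (by simp)
  have h3 : (-1 : F) ≠ 1 := fun e => h ((Nat.prime_dvd_prime_iff_eq this.1 Nat.prime_two).1
    ((CharP.cast_eq_zero_iff F p 2).1 (by push_cast; linear_combination -e)))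
  obtain ⟨l, h0, h1⟩ := H11.Sp.exists_sq_ne_one_of_card (F := F) (by
    rw [IsSq.card_eq (q := q)]; nlinarith [two_le_q F q])
  exact (hasPr_odd (m := 0) rfl (hasPr_C' (na := 0) (ξ := ξ) A (SU_gen _ _) (Or.inl rfl)
    (hasPr_SL_two F) hx (by rintro rfl; simp at hξ) (hξ.trans_ne h3) h0 h1)).mono (by simp [h2])

theorem hasPr_SU {n : ℕ} (hn : 4 ≤ n) : HasPr (SU n F q) 6 39 := by
  rcases (by omega : n = 4 ∨ n = 5 ∨ 6 ≤ n) with rfl | rfl | h
  · exact (hasPr_SU_four F q).mono (by omega)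
  · exact (hasPr_SU_five F q).mono (by omega)
  obtain ⟨m, e | e⟩ : ∃ m, n = m + 2 + 1 + (m + 2 + 1) ∨ n = m + 2 + 1 + (m + 2 + 1) + 1 :=
    ⟨n / 2 - 3, by omega⟩
  · exact (hasPr_ev (Or.inl ⟨⟨SU.A F q (SU.ιe e)⟩, exists_trace_eq (map_one (cj q))⟩)
      (SU.gen F q _ (by omega))).pad (by omega) (by omega)
  · exact (hasPr_odd e (hasPr_ev (sub_hk ⟨Function.injective_id, fun _ => rfl⟩ (SU.C F q _))
      (SU_gen _ _))).pad (by omega) (by simp)

variable {F q} in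
theorem hasPr_PSU {n d r : ℕ} (hn : 2 ≤ n) (h : HasPr (SU n F q) d r) :
    HasPr (PSU n F q) d (r + 1) :=
  h.quot_cyclic _ (SU.isCyclic_center hn)

end H6.P6
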