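import Mathlib
import Cfsg.Agent.Lib.Pres6.Mov

/-!
Geometry of symplectic groups: subgroups supported on a part of the frame.
-/

set_option autoImplicit false

namespace H6.P6

open H63.St H63.St.Eich

variable {m : ℕ} {K V G : Type*} [Field K] [AddCommGroup V] [Module K V] [Group G]
  (E : Eich m K V G)

/-- The symplectic case. -/
structure Sy : Prop where
  σ : ∀ x, E.σ x = x
  ε : E.ε = -1
  Λ : ∀ v c, E.Λ v c

/-- The elements moving only the frame vectors in `X`. -/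
def Fo (X : Set (J m)) : Subgroup G := ⨅ c, ⨅ _ : c ∉ X, E.Fix (E.e c)

/-- The vectors orthogonal to the frame vectors outside `X`. -/
def Wo (X : Set (J m)) : Submodule K V where
  carrier := {v | ∀ c ∉ X, E.B v (E.e c) = 0}
  add_mem' h h' c hc := by simp [h c hc, h' c hc]
  zero_mem' a := by simp
  smul_mem' t x h c hc := by simp [h c hc]

/-- Sets closed under passing to the partner. -/
def Rc (X : Set (J m)) : Prop := ∀ c ∈ X, c.rev ∈ X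

variable {E} {X Y : Set (J m)} {g g' : G} {u v w x : V} {a b c : J m} {s t : K}

lemma mem_Fo : g ∈ Fo E X ↔ ∀ c ∉ X, E.ρ g (E.e c) = E.e c := by
  simp only [Fo, Subgroup.mem_iInf]; rfl

lemma Fo_mono (h : X ⊆ Y) : Fo E X ≤ Fo E Y := fun _ hg =>
  mem_Fo.2 fun c hc => mem_Fo.1 hg c fun e => hc (h e)

lemma Wo_mono (h : X ⊆ Y) : Wo E X ≤ Wo E Y := fun _ hv c hc => hv c fun e => hc (h e)

lemma B_Fo (hg : g ∈ Fo E X) (hc : c ∉ X) (v : V) : E.B (E.ρ g v) (E.e c) = E.B v (E.e c) := by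
  rw [← E.ρ_B g v, mem_Fo.1 hg c hc]

lemma map_Wo (hg : g ∈ Fo E X) (hv : v ∈ Wo E X) : E.ρ g v ∈ Wo E X := fun c hc =>
  (B_Fo hg hc v).trans (hv c hc)

lemma e_Wo (h : c.rev ∈ X) : E.e c ∈ Wo E X := fun _ hd => E.e_B _ _ fun e => hd (e ▸ h)

lemma rc_pair (a : J m) : Rc {a, a.rev} := by simp [Rc]

lemma ex_t (hF : ∃ a : K, a ≠ 0 ∧ a ≠ 1) (α γ : K) {β δ : K} (h1 : β ≠ 0) (h2 : δ ≠ 0) :
    ∃ t, α + t * β ≠ 0 ∧ γ + t * δ ≠ 0 := by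
  obtain ⟨a, h0, h3⟩ := hF
  by_contra! hn
  have k : ∀ t, t = -α / β ∨ t = -γ / δ := fun t => by
    rw [eq_div_iff h1, eq_div_iff h2, eq_neg_iff_add_eq_zero, eq_neg_iff_add_eq_zero, add_comm _ α,
      add_comm _ γ]
    exact or_iff_not_imp_left.2 (hn t)
  have := k 0
  have := k 1
  have := k a
  grind

namespace Sy

variable (h : Sy E)
include h

lemma adm (e : E.B u v = 0) (c : K) : E.Adm u v c := ⟨h.Λ _ _, h.Λ _ _, e⟩

lemma swap (x y : V) : E.B y x = -E.B x y := by rw [E.B_swap, h.ε, h.σ, neg_one_mul]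

lemma self (x : V) : E.B x x = 0 := B_self (h.Λ x 0)

lemma smul (x y : V) (t : K) : E.B x (t • y) = t * E.B x y := by simp [h.σ]

lemma ρT (e : E.B u v = 0) (c : K) (x : V) :
    E.ρ (E.T u v c) x = x + E.B x v • u + E.B x u • v - (c * E.B x u) • u := by
  simp [ρ_T (h.adm e c), h.ε]

lemma T_mem (e : E.B u v = 0) (c : K) (hu : u ∈ Wo E X) (hv : v ∈ Wo E X) : E.T u v c ∈ Fo E X :=
  mem_Fo.2 fun d hd => by
    simp [h.ρT e, E.B_eq_zero_comm (hu d hd), E.B_eq_zero_comm (hv d hd)]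

lemma ex_ne (hv : v ∈ Wo E X) (h0 : v ≠ 0) : ∃ c ∈ X, E.B v (E.e c) ≠ 0 := by
  by_contra! hn
  exact h0 (E.aniso v (fun c => (em (c ∈ X)).elim (hn c) (hv c)) (h.Λ _ _))

lemma fix (hg : g ∈ Fo E X) (hv : ∀ d ∈ X, E.B v (E.e d.rev) = 0) : E.ρ g v = v := by
  have := E.aniso _ (E.sub_mem_V0 v) (h.Λ _ _)
  rw [sub_eq_zero] at this
  rw [this, map_sum]
  refine Finset.sum_congr rfl fun d _ => ?_
  by_cases e : d ∈ X
  · simp [hv d e]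
  · rw [map_smul, mem_Fo.1 hg d e]

lemma eq_one (hg : g ∈ Fo E X) (hg' : g ∈ Fo E Y) (e : Disjoint X Y) : g = 1 := E.ext fun v => by
  refine (h.fix (X := ∅) (mem_Fo.2 fun c _ => ?_) (by simp)).trans (by simp)
  by_cases hc : c ∈ X
  exacts [mem_Fo.1 hg' c (Set.disjoint_left.1 e hc), mem_Fo.1 hg c hc]

lemma comm (hX : Rc X) (hY : Rc Y) (e : Disjoint X Y) (hg : g ∈ Fo E X) (hg' : g' ∈ Fo E Y) :
    Commute g g' := by
  have k : ∀ {X Y g g' c}, Rc X → Rc Y → Disjoint X Y → g ∈ Fo E X → g' ∈ Fo E Y → c ∉ Y →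
      E.ρ (g * g') (E.e c) = E.ρ (g' * g) (E.e c) := fun {X Y g g' c} hX hY e hg hg' hc => by
    rw [ρ_mul, ρ_mul, mem_Fo.1 hg' c hc, h.fix hg' fun d hd => ?_]
    rw [B_Fo hg (Set.disjoint_right.1 e (hY d hd)), E.e_B _ _ fun e => hc (by rwa [← Fin.rev_inj.1 e])]
  refine E.ext' (fun c => ?_) fun v hv => by simp [E.aniso v hv (h.Λ _ _)]
  by_cases hc : c ∈ Y
  exacts [(k hY hX e.symm hg' hg (Set.disjoint_right.1 e hc)).symm, k hX hY e hg hg' hc]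

lemma av2 (hX : Rc X) (hv : v ∈ Wo E X) (hw : w ∈ Wo E X) (h1 : v ≠ 0) (h2 : w ≠ 0) :
    ∃ z ∈ Wo E X, E.B v z ≠ 0 ∧ E.B w z ≠ 0 := by
  obtain ⟨c, c1, c2⟩ := h.ex_ne hv h1
  obtain ⟨d, d1, d2⟩ := h.ex_ne hw h2
  by_contra! hn
  exact d2 (by simpa [hn _ (e_Wo (hX c c1)) c2] using hn _ (add_mem (e_Wo (hX c c1))
    (e_Wo (hX d d1))) (by simpa [of_not_not (mt (hn _ (e_Wo (hX d d1))) d2)] using c2))

lemma av3 (hF : ∃ a : K, a ≠ 0 ∧ a ≠ 1) (hX : Rc X) (hu : u ∈ Wo E X) (hv : v ∈ Wo E X)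
    (hw : w ∈ Wo E X) (h0 : u ≠ 0) (h1 : v ≠ 0) (h2 : w ≠ 0) :
    ∃ z ∈ Wo E X, E.B u z ≠ 0 ∧ E.B v z ≠ 0 ∧ E.B w z ≠ 0 := by
  obtain ⟨z, z1, z2, z3⟩ := h.av2 hX hv hw h1 h2
  obtain ⟨y, y1, y2, -⟩ := h.av2 hX hu hu h0 h0
  by_cases e : E.B u z = 0
  · obtain ⟨t, ht⟩ := ex_t hF (E.B v y) (E.B w y) z2 z3
    exact ⟨y + t • z, add_mem y1 (Submodule.smul_mem _ _ z1), by simpa [h.σ, e, y2] using ht⟩
  · exact ⟨z, z1, e, z2, z3⟩

lemma trans (hX : Rc X) (hv : v ∈ Wo E X) (hw : w ∈ Wo E X) (h1 : v ≠ 0) (h2 : w ≠ 0) :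
    ∃ g ∈ Fo E X, E.ρ g v = w := by
  have k : ∀ {v w}, v ∈ Wo E X → w ∈ Wo E X → E.B v w ≠ 0 → ∃ g ∈ Fo E X, E.ρ g v = w :=
    fun {v w} hv hw e => ⟨_, h.T_mem (by simp) (-(E.B v w)⁻¹) (sub_mem hw hv) (zero_mem _), by
      simp [h.ρT, h.self, e]⟩
  obtain ⟨z, z1, z2, z3⟩ := h.av2 hX hv hw h1 h2
  obtain ⟨g, g1, g2⟩ := k hv z1 z2
  obtain ⟨g', g3, g4⟩ := k hw z1 z3
  exact ⟨g'⁻¹ * g, mul_mem (inv_mem g3) g1, by rw [ρ_mul, g2, E.ρ_inv_eq g4]⟩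

lemma exT (ha : a ∈ X) (ha' : a.rev ∈ X) (hx : x ∈ Wo E X) (ht : t ≠ 0)
    (e : E.B x (E.e a) = t * E.κ a.rev) :
    ∃ v ∈ Wo E (X \ {a, a.rev}), ∃ c, E.ρ (E.T (E.e a) v c) (t • E.e a.rev) = x := by
  have k := E.κ_ne a.rev
  have k' := E.κ_ne a
  have h1 : (t * E.κ a.rev)⁻¹ • (x - t • E.e a.rev - (E.B x (E.e a.rev) / E.κ a) • E.e a) ∈
      Wo E (X \ {a, a.rev}) := fun d hd => by
    rcases VC.in_cases a d with rfl | rfl | e'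
    · simp [e, B_rev_e, B_e_e]
    · simp [B_e_rev, B_e_e, k']
    · simp [E.B_in e', hx d fun e => hd ⟨e, by simp [e'.1, e'.2]⟩]
  refine ⟨_, h1, -(E.B x (E.e a.rev) / (E.κ a * t * E.κ a.rev)), ?_⟩
  rw [h.ρT (E.B_eq_zero_comm (h1 a (by simp))), map_smul E.B, LinearMap.smul_apply,
    E.B_eq_zero_comm (h1 a.rev (by simp)), LinearMap.smul_apply, B_rev_e, smul_eq_mul t (E.κ _)]
  match_scalars <;> field_simp <;> ring

lemma dec (ha : a ∉ X) (ha' : a.rev ∉ X) (hg : g ∈ Fo E (insert a.rev X)) :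
    ∃ v ∈ Wo E X, ∃ c, ∃ d ∈ Fo E X, g = E.T (E.e a) v c * d := by
  have h0 : a ∉ insert a.rev X := by simp [ha, J.ne_rev]
  obtain ⟨v, hv, c, e⟩ := h.exT (a := a) (X := insert a (insert a.rev X)) (by simp) (by simp)
    (map_Wo (Fo_mono (Set.subset_insert _ _) hg) (e_Wo (c := a.rev) (by simp))) one_ne_zero
    (by rw [B_Fo hg h0, one_mul, B_rev_e])
  replace hv : v ∈ Wo E X := Wo_mono (fun d hd => by simp at hd; tauto) hv
  have h1 := h.T_mem (E.B_eq_zero_comm (hv a ha)) c (e_Wo (Set.mem_insert _ _))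
    (Wo_mono (Set.subset_insert _ _) hv)
  refine ⟨v, hv, c, _, mem_Fo.2 fun d hd => ?_, (mul_inv_cancel_left _ _).symm⟩
  by_cases e' : d = a.rev
  · rw [e', ρ_mul, ← e, one_smul, ρ_inv_ρ]
  · exact mem_Fo.1 (mul_mem (inv_mem h1) hg) d (by simp [e', hd])

end Sy

end H6.P6
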