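import Mathlib
import Cfsg.Agent.Lib.Pres6.Slim1

/-!
The symplectic group as the universal completion of a slim amalgam: adding one hyperbolic pair.
-/

set_option autoImplicit false

namespace H6.P6

open H63.St H63.St.Eich

variable {m : ℕ} {K V G Γ : Type*} [Field K] [AddCommGroup V] [Module K V] [Group G] [Group Γ]
  {E : Eich m K V G} {π : Γ →* G} {X : Set (J m)} {a b : J m} {D S S' M : Subgroup Γ}
  {y d z x x' k : Γ} {v w : V}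

variable (π) in
/-- The projection is injective on `A`. -/
def Ij (A : Subgroup Γ) : Prop := ∀ y ∈ A, π y = 1 → y = 1

lemma Ij.comm {A : Subgroup Γ} (h : Ij π A) (hx : x ∈ A) (hy : y ∈ A) (e : Commute (π x) (π y)) :
    Commute x y := eq_of_inj h (mul_mem hx hy) (mul_mem hy hx) (by simpa using e.eq)

variable (E π X a b D S S' M y) in
/-- The hypotheses of the inductive step. -/
structure SH : Prop where
  sy : Sy E
  hF : ∃ a : K, a ≠ 0 ∧ a ≠ 1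
  rc : Rc X
  hb : b ∈ X
  ha : a ∉ X
  iD : Ij π D
  mD : D.map π = Fo E X
  mS : S.map π = Fo E {a, a.rev}
  mS' : S'.map π = Fo E {b, b.rev}
  le : S' ≤ D
  mM : M.map π = Fo E {a.rev, b.rev}
  iK : Ij π (M ⊔ S)
  iK' : Ij π (M ⊔ S')
  cS : ∀ s ∈ S, ∀ d ∈ D, Commute s d
  hy : y ∈ M
  πy : π y = E.T (E.e a) (E.e b) 0
  cy : ∀ d ∈ D, E.ρ (π d) (E.e b) = E.e b → Commute d y

variable (E π b D y) in
open Classical in
/-- The conjugates of `y`. -/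
noncomputable def Yw (v : V) : Γ :=
  if h : ∃ d ∈ D, E.ρ (π d) (E.e b) = v then h.choose * y * h.choose⁻¹ else 1

lemma e_ne (a : J m) : E.e a ≠ 0 := fun e => E.κ_ne a (by simp [κ, e])

lemma ρ_ne {g : G} (h : v ≠ 0) : E.ρ g v ≠ 0 := fun e => h (by simpa using (E.ρ_inv_eq e).symm)

set_option hygiene false in
local notation "Y" => Yw E π b D y
set_option hygiene false in
local notation "Z" => S ⊓ Subgroup.comap π (Fo E {Fin.rev a})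
set_option hygiene false in
local notation "e₀" => E.e a

lemma Yw_zero : Y 0 = 1 := dif_neg fun ⟨_, _, e⟩ => ρ_ne (e_ne b) e

namespace SH

variable (h : SH E π X a b D S S' M y)
include h

lemma ha' : a.rev ∉ X := fun e => h.ha (by simpa using h.rc _ e)

lemma sub : {b, b.rev} ⊆ X := Set.pair_subset h.hb (h.rc _ h.hb)

lemma memD (hd : d ∈ D) : π d ∈ Fo E X := h.mD ▸ ⟨d, hd, rfl⟩

lemma eq (hd : d ∈ D) : Y (E.ρ (π d) (E.e b)) = d * y * d⁻¹ := by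
  have e : ∃ d' ∈ D, E.ρ (π d') (E.e b) = E.ρ (π d) (E.e b) := ⟨d, hd, rfl⟩
  have := h.cy _ (mul_mem (inv_mem hd) e.choose_spec.1) (by simp [e.choose_spec.2])
  rw [Yw, dif_pos e, ← mul_inv_cancel_left d e.choose, mul_assoc d, this.eq]
  simp [mul_assoc]

lemma conj (hd : d ∈ D) (v : V) : d * Y v * d⁻¹ = Y (E.ρ (π d) v) := by
  by_cases e : ∃ d ∈ D, E.ρ (π d) (E.e b) = v
  · obtain ⟨d', hd', rfl⟩ := e
    rw [← ρ_mul, ← map_mul, h.eq hd', h.eq (mul_mem hd hd')]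
    group
  · rw [Yw, dif_neg e, Yw, dif_neg fun ⟨d', h1, e'⟩ => e ⟨_, mul_mem (inv_mem hd) h1, by simp [e']⟩]
    simp

lemma ex {X' : Set (J m)} {B : Subgroup Γ} (hB : B.map π = Fo E X') (h1 : Rc X') (h2 : b ∈ X')
    (hv : v ∈ Wo E X') (h0 : v ≠ 0) : ∃ d ∈ B, E.ρ (π d) (E.e b) = v := by
  obtain ⟨_, hg, rfl⟩ := h.sy.trans h1 (e_Wo (h1 b h2)) hv (e_ne b) h0
  obtain ⟨d, hd, rfl⟩ := hB.ge hg
  exact ⟨d, hd, rfl⟩

lemma B0 (hv : v ∈ Wo E X) : E.B e₀ v = 0 := E.B_eq_zero_comm (hv a h.ha)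

lemma πY (hv : v ∈ Wo E X) : π (Y v) = E.T e₀ v 0 := by
  by_cases h0 : v = 0
  · rw [h0, Yw_zero, map_one, T_zero (E.e_Λ a)]
  obtain ⟨d, hd, rfl⟩ := h.ex h.mD h.rc h.hb hv h0
  rw [h.eq hd, map_mul, map_mul, map_inv, h.πy, T_conj (h.sy.adm (h.B0 (e_Wo (h.rc _ h.hb))) 0),
    mem_Fo.1 (h.memD hd) a h.ha]

lemma Z_le : Z ≤ M := fun z hz =>
  mem_of_inj h.iK le_sup_left (Subgroup.mem_sup_right hz.1) (h.mM ▸ Fo_mono (by simp) hz.2)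

lemma exZ (c : K) : ∃ z ∈ Z, π z = E.T e₀ 0 c := by
  have := h.sy.T_mem (X := {a.rev}) (by simp) c (e_Wo (c := a) rfl) (zero_mem _)
  obtain ⟨z, hz, e⟩ := h.mS.ge (Fo_mono (by simp) this)
  exact ⟨z, ⟨hz, by simpa [e]⟩, e⟩

lemma πZ (hz : z ∈ Z) : ∃ c, π z = E.T e₀ 0 c := by
  obtain ⟨v, hv, c, d, hd, e⟩ := h.sy.dec (X := ∅) (a := a) (g := π z) id id (by simpa using hz.2)
  rw [h.sy.eq_one hd hd (by simp), mul_one, of_not_not (mt (h.sy.ex_ne hv) (by simp))] at e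
  exact ⟨c, e⟩

lemma cZ (hz : z ∈ Z) (v : V) : Commute z (Y v) := by
  rw [Yw]
  split_ifs with e
  · have := h.cS z hz.1 _ e.choose_spec.1
    refine (this.mul_right (h.iK.comm (Subgroup.mem_sup_right hz.1) (Subgroup.mem_sup_left h.hy)
      ?_)).mul_right this.inv_right
    refine h.πy ▸ E.commute_T (h.sy.adm (h.B0 (e_Wo (h.rc _ h.hb))) 0) (mem_Fo.1 hz.2 _ (J.ne_rev a))
      (mem_Fo.1 hz.2 _ fun e => h.ha' (e ▸ h.hb))
  · exact Commute.one_right _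

lemma Y_mem {B : Subgroup Γ} {X' : Set (J m)} (hB : B.map π = Fo E X') (h1 : Rc X') (h2 : b ∈ X')
    (h3 : B ≤ D) (hv : v ∈ Wo E X') : ∃ d ∈ B, ∃ x ∈ M, Y v = d * x * d⁻¹ := by
  by_cases h0 : v = 0
  · exact ⟨1, one_mem _, 1, one_mem _, by simp [h0, Yw_zero]⟩
  obtain ⟨d, hd, rfl⟩ := h.ex hB h1 h2 hv h0
  exact ⟨d, hd, y, h.hy, h.eq (h3 hd)⟩

lemma Y_mem' (hv : v ∈ Wo E {b, b.rev}) : Y v ∈ M ⊔ S' := by
  obtain ⟨d, hd, x, hx, e⟩ := h.Y_mem h.mS' (rc_pair b) (by simp) h.le hv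
  exact e ▸ cj_self (Subgroup.mem_sup_right hd) _ (Subgroup.mem_sup_left hx)

lemma TT (hv : v ∈ Wo E X) (c : K) : E.T e₀ v 0 * E.T e₀ 0 c = E.T e₀ v c := by
  simp [T_mul (h.sy.adm (h.B0 hv) 0) (h.sy.adm (h.B0 (zero_mem _)) c)]

theorem add (hv : v ∈ Wo E X) (hw : w ∈ Wo E X) : (Y (v + w))⁻¹ * (Y v * Y w) ∈ Z := by
  have k1 : ∀ {v w}, v ∈ Wo E {b, b.rev} → w ∈ Wo E {b, b.rev} → ∀ d ∈ D,
      (Y (E.ρ (π d) v + E.ρ (π d) w))⁻¹ * (Y (E.ρ (π d) v) * Y (E.ρ (π d) w)) ∈ Z :=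
    fun {v w} hv hw d hd => by
    have hv' := Wo_mono h.sub hv
    have hw' := Wo_mono h.sub hw
    have : (Y (v + w))⁻¹ * (Y v * Y w) ∈ Z := by
      refine mem_of_inj h.iK' (h.Z_le.trans le_sup_left) (mul_mem (inv_mem (h.Y_mem' (add_mem hv hw)))
        (mul_mem (h.Y_mem' hv) (h.Y_mem' hw))) ?_
      rw [map_mul, map_mul, map_inv, h.πY hv', h.πY hw', h.πY (add_mem hv' hw'),
        T_mul (h.sy.adm (h.B0 hv') 0) (h.sy.adm (h.B0 hw') 0),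
        ← h.TT (add_mem hv' hw') (_ + _), inv_mul_cancel_left]
      exact h.exZ _
    have e := (h.cS _ this.1 d hd).eq
    rw [← mul_inv_cancel_right (_ * _) d, e] at this
    simpa [← map_add, ← h.conj hd, mul_assoc] using this
  have k2 : ∀ {v w}, v ∈ Wo E X → w ∈ Wo E X → E.B w v ≠ 0 → (Y (v + w))⁻¹ * (Y v * Y w) ∈ Z :=
    fun {v w} hv hw e => by
    obtain ⟨d, hd, rfl⟩ := h.ex h.mD h.rc h.hb hv (by rintro rfl; simp at e)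
    obtain ⟨u, hu, c, e'⟩ := h.sy.exT h.hb (h.rc _ h.hb) (map_Wo (inv_mem (h.memD hd)) hw)
      (div_ne_zero e (E.κ_ne b.rev)) (by rw [B_ρ_inv, div_mul_cancel₀ _ (E.κ_ne _)])
    have h1 := E.B_eq_zero_comm (hu b (by simp))
    obtain ⟨d', hd', e1⟩ := h.mD.ge (h.sy.T_mem h1 c (e_Wo (h.rc _ h.hb)) (Wo_mono Set.sdiff_subset hu))
    have := k1 (e_Wo (c := b) (by simp)) (Submodule.smul_mem _ (E.B w (E.ρ (π d) (E.e b)) / E.κ b.rev)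
      (e_Wo (c := b.rev) (by simp))) _ (mul_mem hd hd')
    rwa [map_mul, ρ_mul, ρ_mul, e1, e', ρ_ρ_inv, show E.ρ (E.T _ u c) (E.e b) = E.e b by
      simp [h.sy.ρT h1, h1, B_e_e]] at this
  by_cases h1 : v = 0
  · simp [h1, Yw_zero, one_mem]
  by_cases h2 : w = 0
  · simp [h2, Yw_zero, one_mem]
  by_cases h3 : v + w = 0
  · obtain ⟨d, hd, rfl⟩ := h.ex h.mD h.rc h.hb hv h1
    rw [eq_neg_of_add_eq_zero_right h3, ← map_neg]
    exact k1 (e_Wo (by simp)) (neg_mem (e_Wo (by simp))) d hd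
  by_cases h4 : E.B w v = 0
  swap
  · exact k2 hv hw h4
  obtain ⟨u, hu, u1, u2, u3⟩ := h.sy.av3 h.hF h.rc hv hw (add_mem hv hw) h1 h2 h3
  have a1 := k2 hu (sub_mem hw hu) (by simpa [h.sy.self] using u2)
  have a2 := k2 hv hu (by rwa [h.sy.swap, neg_ne_zero])
  have a3 := k2 (add_mem hv hu) (sub_mem hw hu) (by
    simpa [h.sy.self, h4, h.sy.swap v u, add_comm] using u3)
  rw [add_sub_cancel] at a1
  rw [add_add_sub_cancel] at a3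
  convert mul_mem (mul_mem a3 a2) (inv_mem a1) using 1
  rw [mul_assoc (Y (v + w))⁻¹ (_ * _), mul_assoc (Y (v + u)), ← (h.cZ a2 _).eq]
  group

/-- The lifted Heisenberg group. -/
def Hs : Subgroup Γ where
  carrier := {x | ∃ v ∈ Wo E X, ∃ z ∈ Z, x = Y v * z}
  one_mem' := ⟨0, zero_mem _, 1, one_mem _, by simp [Yw_zero]⟩
  mul_mem' := by
    rintro _ _ ⟨v, hv, z, hz, rfl⟩ ⟨w, hw, z', hz', rfl⟩
    exact ⟨_, add_mem hv hw, _, mul_mem (mul_mem (h.add hv hw) hz) hz', by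
      rw [mul_assoc, ← mul_assoc z, (h.cZ hz w).eq]; group⟩
  inv_mem' := by
    rintro _ ⟨v, hv, z, hz, rfl⟩
    exact ⟨_, neg_mem hv, _, mul_mem (inv_mem hz) (inv_mem (h.add hv (neg_mem hv))), by
      rw [← mul_assoc, ← (h.cZ (inv_mem hz) _).eq]; simp [Yw_zero, mul_assoc]⟩

lemma dec (hx : x ∈ D ⊔ h.Hs) : ∃ v ∈ Wo E X, ∃ z ∈ Z, ∃ d ∈ D, x = Y v * z * d := by
  obtain ⟨_, ⟨v, hv, z, hz, rfl⟩, d, hd, rfl⟩ := exists_mul_of_mem_sup' (by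
    rintro d hd _ ⟨v, hv, z, hz, rfl⟩
    exact ⟨_, map_Wo (h.memD hd) hv, z, hz, by
      rw [← h.conj hd, mul_assoc _ _ z, ← (h.cS z hz.1 _ (inv_mem hd)).eq]; group⟩) hx
  exact ⟨v, hv, z, hz, d, hd, rfl⟩

lemma lift {B : Subgroup Γ} {X' : Set (J m)} (hB : B.map π = Fo E X') (h1 : X' ⊆ X) {g : G}
    (hg : g ∈ Fo E (insert a.rev X')) : ∃ v ∈ Wo E X', ∃ z ∈ Z, ∃ d ∈ B, π (Y v * z * d) = g := by
  obtain ⟨v, hv, c, _, hd, rfl⟩ := h.sy.dec (fun e => h.ha (h1 e)) (fun e => h.ha' (h1 e)) hg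
  obtain ⟨d, hd', rfl⟩ := hB.ge hd
  obtain ⟨z, hz, e⟩ := h.exZ c
  exact ⟨v, hv, z, hz, d, hd', by rw [map_mul, map_mul, h.πY (Wo_mono h1 hv), e, h.TT (Wo_mono h1 hv)]⟩

lemma sup_eq : M ⊔ D = D ⊔ h.Hs := by
  refine le_antisymm (sup_le (fun x hx => ?_) le_sup_left) (sup_le le_sup_right ?_)
  · obtain ⟨v, hv, z, hz, d, hd, e⟩ := h.lift h.mS' h.sub
      (Fo_mono (Set.insert_subset_insert (by simp)) (h.mM.le ⟨x, hx, rfl⟩))
    rw [← eq_of_inj h.iK' (mul_mem (mul_mem (h.Y_mem' hv) (Subgroup.mem_sup_left (h.Z_le hz)))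
      (Subgroup.mem_sup_right hd)) (Subgroup.mem_sup_left hx) e]
    exact mul_mem (Subgroup.mem_sup_right ⟨v, Wo_mono h.sub hv, z, hz, rfl⟩)
      (Subgroup.mem_sup_left (h.le hd))
  · rintro _ ⟨v, hv, z, hz, rfl⟩
    obtain ⟨d, hd, x, hx, e⟩ := h.Y_mem h.mD h.rc h.hb le_rfl hv
    exact mul_mem (e ▸ cj_self (Subgroup.mem_sup_right hd) _ (Subgroup.mem_sup_left hx))
      (Subgroup.mem_sup_left (h.Z_le hz))

theorem iQ : Ij π (M ⊔ D) := fun x hx e => by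
  obtain ⟨v, hv, z, hz, d, hd, rfl⟩ := h.dec (h.sup_eq ▸ hx)
  obtain ⟨c, hc⟩ := h.πZ hz
  have h1 := congrArg (E.ρ · (E.e a.rev)) e
  have h2 := E.B_eq_zero_comm (hv _ h.ha')
  simp only [map_mul π, h.πY hv, hc, h.TT hv, ρ_mul, mem_Fo.1 (h.memD hd) _ h.ha',
    h.sy.ρT (h.B0 hv), h2, B_rev_e] at h1
  have h3 : c = 0 := by
    simpa [h2, B_rev_e, B_e_e, h.sy.σ, κ_ne] using congrArg (E.B (E.e a.rev)) h1
  obtain rfl : v = 0 := by simpa [h3, κ_ne] using h1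
  obtain rfl := h.iK z (Subgroup.mem_sup_right hz.1) (by rw [hc, h3, T_zero (E.e_Λ a)])
  simpa [Yw_zero] using h.iD d hd (by simpa [Yw_zero] using e)

lemma dmd (hx : x ∈ M ⊔ D) : ∃ d ∈ D, ∃ k ∈ M, ∃ d' ∈ D, x = d * k * d' := by
  obtain ⟨v, hv, z, hz, d, hd, rfl⟩ := h.dec (h.sup_eq ▸ hx)
  obtain ⟨d', hd', x, hx, e⟩ := h.Y_mem h.mD h.rc h.hb le_rfl hv
  exact ⟨d', hd', _, mul_mem hx (h.Z_le hz), _, mul_mem (inv_mem hd') hd, by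
    rw [e, mul_assoc _ _ z, ← (h.cS z hz.1 _ (inv_mem hd')).eq]; group⟩

lemma mQ : (M ⊔ D).map π = Fo E (insert a.rev X) := by
  refine le_antisymm ?_ fun g hg => ?_
  · rw [Subgroup.map_sup, h.mM, h.mD]
    exact sup_le (Fo_mono (Set.insert_subset_insert (by simpa using h.rc _ h.hb)))
      (Fo_mono (Set.subset_insert _ _))
  · obtain ⟨v, hv, z, hz, d, hd, e⟩ := h.lift h.mD subset_rfl hg
    exact ⟨_, h.sup_eq.ge (mul_mem (Subgroup.mem_sup_right ⟨v, hv, z, hz, rfl⟩)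
      (Subgroup.mem_sup_left hd)), e⟩

lemma fixQ (hx : x ∈ M ⊔ D) : E.ρ (π x) e₀ = e₀ :=
  mem_Fo.1 (h.mQ.le ⟨x, hx, rfl⟩) a (by simp [h.ha, J.ne_rev])

lemma memK (hk : k ∈ M ⊔ S) : π k ∈ Fo E {a, a.rev, b.rev} := by
  refine (?_ : (M ⊔ S).map π ≤ _) ⟨k, hk, rfl⟩
  rw [Subgroup.map_sup, h.mM, h.mS]
  exact sup_le (Fo_mono (by simp)) (Fo_mono (by simp [Set.insert_subset_iff]))

lemma tri2 (hk : k ∈ M ⊔ S) (e : E.ρ (π k) e₀ = e₀) : k ∈ M :=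
  mem_of_inj h.iK le_sup_left hk (h.mM ▸ mem_Fo.2 fun c hc => (em (c = a)).elim (· ▸ e)
    fun e' => mem_Fo.1 (h.memK hk) c (by simp_all))

omit h in
/-- The neighbours. -/
def Rn (Q S : Subgroup Γ) (x : Γ) : Prop := ∃ q ∈ Q, ∃ s ∈ S, ∃ q' ∈ Q, x = q * s * q'

set_option hygiene false in
local notation "R" => Rn (M ⊔ D) S

omit h in
lemma Rn.inv {Q : Subgroup Γ} (hx : Rn Q S x) : Rn Q S x⁻¹ := by
  obtain ⟨q, h1, s, h2, q', h3, rfl⟩ := hx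
  exact ⟨_, inv_mem h3, _, inv_mem h2, _, inv_mem h1, by group⟩

lemma RR (hx : R x) (hx' : R x') : ∃ q ∈ M ⊔ D, ∃ k ∈ M ⊔ S, ∃ q' ∈ M ⊔ D, x * x' = q * k * q' := by
  obtain ⟨q, h1, s, h2, q', h3, rfl⟩ := hx
  obtain ⟨p, h4, t, h5, p', h6, rfl⟩ := hx'
  obtain ⟨d, hd, k, hk, d', hd', e⟩ := h.dmd (mul_mem h3 h4)
  refine ⟨_, mul_mem h1 (Subgroup.mem_sup_right hd), _, mul_mem (mul_mem (Subgroup.mem_sup_right h2)
    (Subgroup.mem_sup_left hk)) (Subgroup.mem_sup_right h5), _,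
    mul_mem (Subgroup.mem_sup_right hd') h6, ?_⟩
  calc _ = q * s * (q' * p) * t * p' := by group
    _ = q * (s * d) * k * (d' * t) * p' := by rw [e]; group
    _ = _ := by rw [(h.cS s h2 d hd).eq, ← (h.cS t h5 d' hd').eq]; group

lemma ex1 {X' : Set (J m)} {B : Subgroup Γ} (hB : Fo E (insert a.rev X') ≤ B.map π)
    (hv : v ∈ Wo E (insert a (insert a.rev X'))) (e : E.B v e₀ ≠ 0) :
    ∃ q ∈ B, ∃ s ∈ S, E.ρ (π (q * s)) e₀ = v := by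
  have h0 := div_ne_zero e (E.κ_ne a.rev)
  obtain ⟨u, hu, c, e'⟩ := h.sy.exT (a := a) (by simp) (by simp) hv h0
    (div_mul_cancel₀ _ (E.κ_ne _)).symm
  obtain ⟨q, hq, e1⟩ := hB (h.sy.T_mem (E.B_eq_zero_comm (hu a (by simp))) c (e_Wo (by simp))
    (Wo_mono (fun d hd => by simp at hd ⊢; tauto) hu))
  obtain ⟨_, hs, e2⟩ := h.sy.trans (rc_pair a) (e_Wo (c := a) (by simp)) (Submodule.smul_mem _ _
    (e_Wo (c := a.rev) (by simp))) (e_ne a) (smul_ne_zero h0 (e_ne _))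
  obtain ⟨s, hs', rfl⟩ := h.mS.ge hs
  exact ⟨q, hq, s, hs', by rw [map_mul, ρ_mul, e2, e1, e']⟩

lemma tri (hx : R x) (hx' : R x') (e : E.B (E.ρ (π (x * x')) e₀) e₀ ≠ 0) : R (x * x') := by
  obtain ⟨q, hq, k, hk, q', hq', e'⟩ := h.RR hx hx'
  rw [e', map_mul π, map_mul π, ρ_mul, ρ_mul, h.fixQ hq'] at e
  nth_rewrite 2 [← h.fixQ hq] at e
  obtain ⟨p, hp, s, hs, e1⟩ := h.ex1 (X' := {b.rev}) h.mM.ge
    (map_Wo (h.memK hk) (e_Wo (by simp))) (E.ρ_B _ _ _ ▸ e)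
  have := h.tri2 (mul_mem (inv_mem (mul_mem (Subgroup.mem_sup_left hp) (Subgroup.mem_sup_right hs)))
    hk) (by rw [map_mul, ρ_mul, ← e1, map_inv, ρ_inv_ρ])
  exact ⟨_, mul_mem hq (Subgroup.mem_sup_left hp), s, hs, _,
    mul_mem (Subgroup.mem_sup_left this) hq', by rw [e']; group⟩

lemma rc' : Rc (insert a (insert a.rev X)) := by simpa [Rc] using fun c hc => by simp [h.rc c hc]

lemma le' : (M ⊔ D ⊔ S).map π ≤ Fo E (insert a (insert a.rev X)) := by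
  rw [Subgroup.map_sup, h.mQ, h.mS]
  exact sup_le (Fo_mono (by simp)) (Fo_mono (by simp [Set.insert_subset_iff]))

lemma vW (hx : x ∈ M ⊔ D ⊔ S) : E.ρ (π x) e₀ ∈ Wo E (insert a (insert a.rev X)) :=
  map_Wo (h.le' ⟨x, hx, rfl⟩) (e_Wo (by simp))

omit h in
lemma Rn.mem {Q : Subgroup Γ} (hx : Rn Q S x) : x ∈ Q ⊔ S := by
  obtain ⟨q, h1, s, h2, q', h3, rfl⟩ := hx
  exact mul_mem (mul_mem (Subgroup.mem_sup_left h1) (Subgroup.mem_sup_right h2))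
    (Subgroup.mem_sup_left h3)

lemma exR (hv : v ∈ Wo E (insert a (insert a.rev X))) (e : E.B v e₀ ≠ 0) :
    ∃ r, R r ∧ E.ρ (π r) e₀ = v :=
  let ⟨q, hq, s, hs, e⟩ := h.ex1 h.mQ.ge hv e
  ⟨_, ⟨q, hq, s, hs, 1, one_mem _, (mul_one _).symm⟩, e⟩

lemma near (hx : x ∈ M ⊔ D ⊔ S) : ∀ r, R r → E.B (E.ρ (π r) e₀) e₀ ≠ 0 →
    E.B (E.ρ (π x) e₀) (E.ρ (π r) e₀) ≠ 0 → R (r⁻¹ * x) := by
  have k0 : ∀ {r x}, E.B (E.ρ (π (r⁻¹ * x)) e₀) e₀ = E.B (E.ρ (π x) e₀) (E.ρ (π r) e₀) := by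
    simp [B_ρ_inv]
  have k : ∀ x ∈ M ⊔ D ⊔ S, ∀ x', R x' → (∀ r, R r → E.B (E.ρ (π r) e₀) e₀ ≠ 0 →
      E.B (E.ρ (π x) e₀) (E.ρ (π r) e₀) ≠ 0 → R (r⁻¹ * x)) → ∀ r, R r → E.B (E.ρ (π r) e₀) e₀ ≠ 0 →
      E.B (E.ρ (π (x * x')) e₀) (E.ρ (π r) e₀) ≠ 0 → R (r⁻¹ * (x * x')) := by
    intro x hx x' hx' ih r hr h1 h2
    have k1 : ∀ r, R r → E.B (E.ρ (π r) e₀) e₀ ≠ 0 → E.B (E.ρ (π x) e₀) (E.ρ (π r) e₀) ≠ 0 →
        E.B (E.ρ (π (x * x')) e₀) (E.ρ (π r) e₀) ≠ 0 → R (r⁻¹ * (x * x')) := fun r hr h1 h3 h2 =>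
      mul_assoc r⁻¹ x x' ▸ h.tri (ih r hr h1 h3) hx' (by rwa [mul_assoc, k0])
    by_cases h3 : E.B (E.ρ (π x) e₀) (E.ρ (π r) e₀) = 0
    swap
    · exact k1 r hr h1 h3 h2
    obtain ⟨z, z1, z2, z3⟩ := h.sy.av2 h.rc' (h.vW hx) (h.vW hr.mem) (ρ_ne (e_ne a)) (ρ_ne (e_ne a))
    obtain ⟨t, t1, t2⟩ := ex_t h.hF (E.B z e₀) (E.B (E.ρ (π (x * x')) e₀) z) h1 h2
    obtain ⟨r', hr', e⟩ := h.exR (add_mem z1 ((Wo E _).smul_mem t (h.vW hr.mem))) (by simpa using t1)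
    have := h.tri (h.tri hr.inv hr' (by
      rw [k0, e, h.sy.swap]; simpa [h.sy.σ, h.sy.self] using z3)) (k1 r' hr' (by simpa [e] using t1)
      (by simpa [e, h.sy.σ, h3] using z2) (by rw [e, map_add, h.sy.smul]; exact t2))
      (by rwa [mul_assoc, mul_inv_cancel_left, k0])
    rwa [mul_assoc, mul_inv_cancel_left] at this
  have k2 : M ⊔ D ⊔ S ≤ Subgroup.closure {x | R x} := sup_le
    (fun q hq => Subgroup.subset_closure ⟨q, hq, 1, one_mem _, 1, one_mem _, by simp⟩)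
    fun s hs => Subgroup.subset_closure ⟨1, one_mem _, s, hs, 1, one_mem _, by simp⟩
  have k3 : Subgroup.closure {x | R x} ≤ M ⊔ D ⊔ S := (Subgroup.closure_le _).2 fun _ => Rn.mem
  replace hx := k2 hx
  induction hx using Subgroup.closure_induction_right with
  | one => exact fun r hr _ _ => by simpa using hr.inv
  | mul_right x hx y hy ih => exact k x (k3 hx) y hy ih
  | mul_inv_cancel x hx y hy ih => exact k x (k3 hx) _ hy.inv ih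

theorem stab (hx : x ∈ M ⊔ D ⊔ S) (e : E.ρ (π x) e₀ = e₀) : x ∈ M ⊔ D := by
  obtain ⟨r, hr, e'⟩ := h.exR (e_Wo (c := a.rev) (by simp)) (E.B_rev_e a ▸ E.κ_ne _)
  obtain ⟨q, hq, k, hk, q', hq', e1⟩ := h.RR hr (h.near hx r hr (e' ▸ E.B_rev_e a ▸ E.κ_ne _)
    (by rw [e, e']; exact E.κ_ne a))
  rw [mul_inv_cancel_left] at e1
  rw [e1, map_mul π, map_mul π, ρ_mul, ρ_mul, h.fixQ hq'] at e
  exact e1 ▸ mul_mem (mul_mem hq (Subgroup.mem_sup_left (h.tri2 hk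
    ((E.ρ_inv_eq e).symm.trans (E.ρ_inv_eq (h.fixQ hq)))))) hq'

theorem inj : Ij π (M ⊔ D ⊔ S) := fun x hx e => h.iQ x (h.stab hx (by simp [e])) e

theorem map : (M ⊔ D ⊔ S).map π = Fo E (insert a (insert a.rev X)) := by
  refine le_antisymm h.le' fun g hg => ?_
  have h1 := map_Wo hg (e_Wo (c := a) (by simp))
  obtain ⟨z, z1, z2, z3⟩ := h.sy.av2 h.rc' h1 (e_Wo (c := a) (by simp)) (ρ_ne (e_ne a)) (e_ne a)
  obtain ⟨r, hr, rfl⟩ := h.exR z1 (by rwa [h.sy.swap, neg_ne_zero])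
  have h2 := h.le' ⟨r, hr.mem, rfl⟩
  obtain ⟨r', hr', e⟩ := h.exR (map_Wo (inv_mem h2) h1) (by rwa [B_ρ_inv])
  have h3 := mul_mem (inv_mem (h.le' ⟨r', hr'.mem, rfl⟩)) (mul_mem (inv_mem h2) hg)
  obtain ⟨q, hq, e'⟩ := h.mQ.ge (mem_Fo.2 fun c hc => (em (c = a)).elim
    (fun e' => by rw [e', ρ_mul, ρ_mul, ← e, ρ_inv_ρ]) fun e' => mem_Fo.1 h3 c (by simp_all) :
      (π r')⁻¹ * ((π r)⁻¹ * g) ∈ _)
  exact ⟨_, mul_mem hr.mem (mul_mem hr'.mem (Subgroup.mem_sup_left hq)), by simp [e']⟩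

end SH

end H6.P6
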