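import Mathlib
import Cfsg.Agent.Lib.Pres6.Slim2

/-!
The symplectic group as the universal completion of a slim amalgam.
-/

set_option autoImplicit false

namespace H6.P6

open H63.St H63.St.Eich

variable {m : ℕ} {K V G Γ : Type*} [Field K] [AddCommGroup V] [Module K V] [Group G] [Group Γ]
  {E : Eich m K V G} {π : Γ →* G} {X : Set (J m)} {a b : J m} {S S' M : Subgroup Γ}
  {𝒢 : Set (Subgroup Γ)}

variable (E π X b 𝒢) in
/-- The inductive statement. -/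
structure St : Prop where
  rc : Rc X
  hb : b ∈ X
  inj : Ij π (sSup 𝒢)
  map : (sSup 𝒢).map π = Fo E X
  stab : ∀ d ∈ sSup 𝒢, E.ρ (π d) (E.e b) = E.e b → d ∈ ⨆ A ∈ 𝒢, A ⊓ (E.Fix (E.e b)).comap π

theorem St.step (h : St E π X b 𝒢) (sy : Sy E) (hF : ∃ a : K, a ≠ 0 ∧ a ≠ 1) (ha : a ∉ X)
    (hS : S' ∈ 𝒢) (mS : S.map π = Fo E {a, a.rev}) (mS' : S'.map π = Fo E {b, b.rev})
    (mM : M.map π = Fo E {a.rev, b.rev}) (iK : Ij π (M ⊔ S)) (i1 : ∀ A ∈ 𝒢, Ij π (M ⊔ A))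
    (i2 : ∀ A ∈ 𝒢, Ij π (S ⊔ A)) :
    St E π (insert a (insert a.rev X)) a (insert S (insert M 𝒢)) := by
  have h0 : E.B (E.e a) (E.e b) = 0 := E.e_B _ _ fun e => ha (by simpa [e] using h.rc _ h.hb)
  have k : ∀ A ∈ 𝒢, ∀ d ∈ A, π d ∈ Fo E X := fun A hA d hd => h.map.le ⟨d, le_sSup hA hd, rfl⟩
  obtain ⟨y, hy, e⟩ := mM.ge (sy.T_mem h0 0 (e_Wo (by simp)) (e_Wo (by simp)))
  have H : SH E π X a b (sSup 𝒢) S S' M y := by
    refine ⟨sy, hF, h.rc, h.hb, ha, h.inj, h.map, mS, mS', le_sSup hS, mM, iK, i1 _ hS,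
      fun s hs d hd => ?_, hy, e, fun d hd e' => ?_⟩
    · refine (Subgroup.mem_centralizer_singleton_iff.1 ((sSup_le fun A hA d hd => ?_ :
        _ ≤ Subgroup.centralizer {s}) hd)).symm
      refine Subgroup.mem_centralizer_singleton_iff.2 ((i2 A hA).comm (Subgroup.mem_sup_right hd)
        (Subgroup.mem_sup_left hs) (sy.comm h.rc (rc_pair a) ?_ (k A hA d hd) (mS.le ⟨s, hs, rfl⟩)))
      simpa [ha] using fun e => ha (by simpa using h.rc _ e)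
    · refine Subgroup.mem_centralizer_singleton_iff.1 ((iSup₂_le fun A hA d hd => ?_ :
        _ ≤ Subgroup.centralizer {y}) (h.stab d hd e'))
      exact Subgroup.mem_centralizer_singleton_iff.2 ((i1 A hA).comm (Subgroup.mem_sup_right hd.1)
        (Subgroup.mem_sup_left hy) (e ▸ E.commute_T (sy.adm h0 0)
          (mem_Fo.1 (k A hA d hd.1) a ha) hd.2))
  have e1 : sSup (insert S (insert M 𝒢)) = M ⊔ sSup 𝒢 ⊔ S := by rw [sSup_insert, sSup_insert, sup_comm]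
  refine ⟨H.rc', by simp, e1 ▸ H.inj, e1 ▸ H.map, fun d hd e' => (sup_le ?_ (sSup_le fun A hA => ?_) :
    M ⊔ sSup 𝒢 ≤ _) (H.stab (e1 ▸ hd) e')⟩
  · exact le_iSup₂_of_le M (by simp) (le_inf le_rfl fun x hx => H.fixQ (Subgroup.mem_sup_left hx))
  · exact le_iSup₂_of_le A (by simp [hA]) (le_inf le_rfl fun x hx =>
      H.fixQ (Subgroup.mem_sup_right (le_sSup hA hx)))

theorem exists_St (sy : Sy E) (hF : ∃ a : K, a ≠ 0 ∧ a ≠ 1) {S M : Fin (m + 1) → Subgroup Γ}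
    (hS : ∀ j, (S j).map π = Fo E {ps j, (ps j).rev})
    (hM : ∀ i : Fin m, (M i.castSucc).map π = Fo E {(ps i.succ).rev, (ps i.castSucc).rev})
    (h0 : Ij π (S 0)) (h1 : ∀ j l, j ≠ l → Ij π (S j ⊔ S l))
    (h2 : ∀ i j : Fin (m + 1), i ≠ j → (i : ℕ) < m → (j : ℕ) < m → Ij π (M i ⊔ M j))
    (h3 : ∀ i j : Fin (m + 1), (i : ℕ) < m → Ij π (M i ⊔ S j)) (i : Fin (m + 1)) :
    ∃ X 𝒢, St E π X (ps i) 𝒢 ∧ (∀ j, ps j ∈ X ↔ j ≤ i) ∧
      ∀ A, A ∈ 𝒢 ↔ (∃ j ≤ i, S j = A) ∨ ∃ j < i, M j = A := by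
  induction i using Fin.induction with
  | zero =>
    exact ⟨_, {S 0}, ⟨rc_pair (ps 0), by simp, by simpa, by simp [hS], by
      simpa using fun d h1 h2 => ⟨h1, h2⟩⟩, by simp, by simp [eq_comm]⟩
  | succ i ih =>
    obtain ⟨X, 𝒢, h, e1, e2⟩ := ih
    refine ⟨_, _, h.step sy hF (by simp [e1]) ((e2 _).2 (Or.inl ⟨_, le_rfl, rfl⟩)) (hS _) (hS _) (hM i)
      (h3 _ _ i.2) (fun A hA => ?_) fun A hA => ?_, fun j => ?_, fun A => ?_⟩
    all_goals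
      have k1 : ∀ j, j ≤ i.succ ↔ j = i.succ ∨ j ≤ i.castSucc := by
        simp [Fin.le_def, Fin.ext_iff]; omega
    · obtain ⟨j, hj, rfl⟩ | ⟨j, hj, rfl⟩ := (e2 A).1 hA
      exacts [h3 _ _ i.2, h2 _ _ hj.ne' i.2 (lt_trans hj i.2)]
    · obtain ⟨j, hj, rfl⟩ | ⟨j, hj, rfl⟩ := (e2 A).1 hA
      exacts [h1 _ _ (hj.trans_lt Fin.castSucc_lt_succ).ne', sup_comm (M j) _ ▸ h3 _ _ (lt_trans hj i.2)]
    · simp [e1, k1]
    · have k2 : ∀ j, j < i.succ ↔ j = i.castSucc ∨ j < i.castSucc := by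
        simp [Fin.lt_def, Fin.ext_iff]; omega
      simp only [Set.mem_insert_iff, e2, k1, k2, or_and_right, exists_or, exists_eq_left,
        eq_comm (a := A), or_assoc, or_left_comm (a := M _ = A)]

variable {H : Type*} [Group H]

/-- The graph of a homomorphism defined on a subgroup. -/
def gr {A : Subgroup G} (f : A →* H) : Subgroup (G × H) := (A.subtype.prod f).range

lemma gr_map {A : Subgroup G} (f : A →* H) : (gr f).map (MonoidHom.fst G H) = A := by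
  rw [gr, ← MonoidHom.range_comp, MonoidHom.fst_comp_prod, Subgroup.range_subtype]

lemma ij_gr {A B : Subgroup G} {f : A →* H} {f' : B →* H} (h : ∃ Ψ : ↥(A ⊔ B) →* H,
    (∀ g (hg : g ∈ A), Ψ ⟨g, Subgroup.mem_sup_left hg⟩ = f ⟨g, hg⟩) ∧
      ∀ g (hg : g ∈ B), Ψ ⟨g, Subgroup.mem_sup_right hg⟩ = f' ⟨g, hg⟩) :
    Ij (MonoidHom.fst G H) (gr f ⊔ gr f') := fun x hx e => by
  obtain ⟨Ψ, h1, h2⟩ := h
  obtain ⟨g, rfl⟩ : x ∈ gr Ψ := by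
    refine (sup_le ?_ ?_ : _ ≤ gr Ψ) hx <;> rintro _ ⟨g, rfl⟩
    exacts [⟨_, Prod.ext rfl (h1 _ g.2)⟩, ⟨_, Prod.ext rfl (h2 _ g.2)⟩]
  rw [show g = 1 from Subtype.ext e, map_one]

theorem exists_unique_of {ι : Type*} {A : ι → Subgroup G} (f : ∀ i, A i →* H) {p : ι → Prop}
    {D : Subgroup (G × H)} (hD : D = ⨆ i, ⨆ _ : p i, gr (f i)) (h1 : Ij (MonoidHom.fst G H) D)
    (h2 : D.map (MonoidHom.fst G H) = ⊤) :
    ∃! Φ : G →* H, ∀ i, p i → ∀ g (hg : g ∈ A i), Φ g = f i ⟨g, hg⟩ := by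
  let ψ := MulEquiv.ofBijective ((MonoidHom.fst G H).comp D.subtype)
    ⟨(injective_iff_map_eq_one _).2 fun x e => Subtype.ext (h1 _ x.2 e), fun g =>
      let ⟨x, hx, e⟩ := h2.ge (Subgroup.mem_top g); ⟨⟨x, hx⟩, e⟩⟩
  have k : ∀ Φ : G →* H, (∀ i, p i → ∀ g (hg : g ∈ A i), Φ g = f i ⟨g, hg⟩) →
      D ≤ (Φ.comp (MonoidHom.fst G H)).eqLocus (MonoidHom.snd G H) := fun Φ h => by
    rw [hD]
    refine iSup₂_le fun i hi => ?_
    rintro _ ⟨g, rfl⟩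
    exact h i hi _ g.2
  refine existsUnique_of_exists_of_unique ⟨((MonoidHom.snd G H).comp D.subtype).comp ψ.symm,
    fun i hi g hg => ?_⟩ fun Φ Φ' h h' => MonoidHom.ext fun g => ?_
  · exact congrArg (·.1.2) (ψ.symm_apply_apply ⟨(g, f i ⟨g, hg⟩),
      hD ▸ le_iSup₂ (f := fun i (_ : p i) => gr (f i)) i hi ⟨⟨g, hg⟩, rfl⟩⟩)
  · obtain ⟨x, hx, rfl⟩ := h2.ge (Subgroup.mem_top g)
    exact (k _ h hx).trans (k _ h' hx).symm

theorem slim (sy : Sy E) (hF : ∃ a : K, a ≠ 0 ∧ a ≠ 1) (hm : 1 ≤ m) {S M : Fin (m + 1) → Subgroup G}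
    (hS : ∀ j, S j = Fo E {ps j, (ps j).rev})
    (hM : ∀ i : Fin m, M i.castSucc = Fo E {(ps i.succ).rev, (ps i.castSucc).rev})
    (σ : ∀ j, S j →* H) (μ : ∀ j, M j →* H)
    (h1 : ∀ j l, j ≠ l → Ij (MonoidHom.fst G H) (gr (σ j) ⊔ gr (σ l)))
    (h2 : ∀ i j : Fin (m + 1), i ≠ j → (i : ℕ) < m → (j : ℕ) < m →
      Ij (MonoidHom.fst G H) (gr (μ i) ⊔ gr (μ j)))
    (h3 : ∀ i j : Fin (m + 1), (i : ℕ) < m → Ij (MonoidHom.fst G H) (gr (μ i) ⊔ gr (σ j))) :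
    ∃! Φ : G →* H, (∀ j g (hg : g ∈ S j), Φ g = σ j ⟨g, hg⟩) ∧
      ∀ i : Fin (m + 1), (i : ℕ) + 1 < m + 1 → ∀ g (hg : g ∈ M i), Φ g = μ i ⟨g, hg⟩ := by
  obtain ⟨X, 𝒢, h, e1, e2⟩ := exists_St sy hF (fun j => (gr_map _).trans (hS j))
    (fun j => (gr_map _).trans (hM j)) (fun y hy => h3 0 0 hm y (Subgroup.mem_sup_right hy)) h1 h2 h3
    (Fin.last m)
  have := exists_unique_of (A := Sum.elim S M) (fun i => i.rec σ μ)
    (p := Sum.elim (fun _ => True) fun i => (i : ℕ) + 1 < m + 1) (D := sSup 𝒢) (by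
      refine le_antisymm (sSup_le fun A hA => ?_) (iSup₂_le ?_)
      · obtain ⟨j, hj, rfl⟩ | ⟨j, hj, rfl⟩ := (e2 A).1 hA
        exacts [le_iSup₂_of_le (Sum.inl j) trivial le_rfl,
          le_iSup₂_of_le (Sum.inr j) (Nat.succ_lt_succ hj) le_rfl]
      · rintro (j | j) hj
        exacts [le_sSup ((e2 _).2 (Or.inl ⟨j, Fin.le_last j, rfl⟩)),
          le_sSup ((e2 _).2 (Or.inr ⟨j, Nat.lt_of_succ_lt_succ hj, rfl⟩))]) h.inj
    (h.map.trans (eq_top_iff.2 fun g _ => mem_Fo.2 fun c hc => (hc (by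
      obtain ⟨i, rfl⟩ | ⟨i, rfl⟩ := ps_or c
      exacts [(e1 i).2 (Fin.le_last i), h.rc _ ((e1 i).2 (Fin.le_last i))])).elim))
  simp only [Sum.forall, Sum.elim_inl, forall_const] at this
  exact this

end H6.P6
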